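import Groth.Agent.Lib.KSix19.RpushAmp.Main
import Groth.Agent.Lib.RelVanish.Basic
import Groth.Agent.Lib.OX.PerfectEnvelope
import Groth.Agent.Lib.ProjSp.Segre
import Groth.Agent.Lib.Chow.Prod
import Groth.Prelude.Def_CohB1

/-!
# The cohomological amplitude of a projective space over an affine scheme
-/

set_option autoImplicit false
set_option linter.style.haveILetI false
set_option backward.isDefEq.respectTransparency false
universe u

open CategoryTheory CategoryTheory.Limits AlgebraicGeometry TopologicalSpace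
attribute [local instance] HasDerivedCategory.standard

namespace GrothLib.KSix19.ProjPush

open CohB1 OX

theorem vanishFrom_top (r : ℕ) (Y : Scheme.{u}) [IsAffine Y] (M : (ProjSpaceOver r Y).Modules)
    [M.IsQuasicoherent] : Cohom.VanishFrom (Coh.toAb M) ⊤ (r + 1) := by
  let p : ProjSpaceOver r Y ⟶ ProjSpace r (ULift.{u} ℤ) := pullback.fst _ _
  haveI : IsAffineHom p := MorphismProperty.pullback_fst _ _ inferInstance
  let U : Fin (r + 1) → (ProjSpaceOver r Y).Opens := fun i =>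
    p ⁻¹ᵁ Proj.basicOpen (polyGrading r (ULift.{u} ℤ)) (MvPolynomial.X i)
  have hcov : (⨆ i, U i) = ⊤ := by
    rw [← Scheme.Hom.preimage_iSup]; exact (congrArg (p ⁻¹ᵁ ·) (ProjSpSegre.iSup_basicOpen_X r)).trans (Scheme.Hom.preimage_top p)
  rw [← hcov]
  refine Cohom.vanishFrom_iSup M (fun V => ∃ O, IsAffineOpen O ∧ V = p ⁻¹ᵁ O) ?_ ?_ (r + 1) U fun i =>
    ⟨_, Proj.isAffineOpen_basicOpen _ _ (MvPolynomial.isHomogeneous_X _ i) one_pos, rfl⟩
  · rintro V ⟨O, hO, rfl⟩
    exact hO.preimage p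
  · rintro V V' ⟨O, hO, rfl⟩ ⟨O', hO', rfl⟩
    haveI : (ProjSpace r (ULift.{u} ℤ)).IsSeparated := inferInstanceAs (Proj (polyGrading r (ULift.{u} ℤ))).IsSeparated
    exact ⟨O ⊓ O', hO.inf hO', rfl⟩

theorem isZero_Rres_inD (r : ℕ) (Y : Scheme.{u}) [IsAffine Y] (M : (ProjSpaceOver r Y).Modules)
    (hM : Coh.IsQCoh M) (i : ℤ) (hi : (r : ℤ) < i) :
    IsZero (DCoh.HD ((SiteDer.Rres (rmor (ProjSpaceOver.toBase r Y))).obj (DCoh.inD _ M)) i) := by
  haveI : IsProper (ProjSpaceOver.toBase r Y) := Chow.isProper_toBase r Y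
  haveI := RpushSupp20.hasInjectiveResolutions (ProjSpaceOver r Y)
  haveI : M.IsQuasicoherent := hM
  obtain ⟨q, rfl⟩ := Int.eq_ofNat_of_zero_le (le_trans (by positivity) hi.le)
  refine IsZero.of_iso ?_ (SiteDer.nonempty_homology_Rres_single (rmor (ProjSpaceOver.toBase r Y)) M q).some
  exact RelVanish.isZero_Rpush_of_cover (ProjSpaceOver.toBase r Y) M q (fun _ : Unit => ⊤)
    (fun _ => isAffineOpen_top Y) (fun _ => ⟨(), trivial⟩) fun _ => vanishFrom_top r Y M q (by omega)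

/-- `Rf_*` raises the top degree of a bounded quasi-coherent object by at most `r`. -/
theorem isLE_Rpush (r : ℕ) (Y : Scheme.{u}) [IsAffine Y] [DCoh.HasRpush (ProjSpaceOver.toBase r Y)]
    (E : DCoh.D (ProjSpaceOver r Y)) (hE : DCoh.IsQCohD E) (b a : ℤ) [E.IsGE b] [E.IsLE a] :
    ((DCoh.Rpush (ProjSpaceOver.toBase r Y)).obj E).IsLE (a + r) :=
  (DerivedCategory.isLE_iff _ _).2 fun i hi =>
    (RpushAmp.isZero_Rres_of_mod' _ (r : ℤ) (isZero_Rres_inD r Y) E b a hE i hi).of_iso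
      ((DerivedCategory.homologyFunctor _ i).mapIso ((rpushIsoRres _).app E))

end GrothLib.KSix19.ProjPush
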