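import Groth.Agent.Lib.KSix19.ProjPush.Perfect
import Groth.Agent.Lib.KSix19.ProjPush.Amplitude
import Groth.Agent.Lib.ProjPic26.Over
import Groth.Agent.Lib.OX.RRComp
import Groth.Agent.Lib.OX.RRLocal
import Groth.Agent.Lib.OX.Approx
import Groth.Agent.Lib.OX.CompactBdd
import Groth.Agent.Lib.OX.HocolimPerfect

/-!
# Direct images along a projective space preserve perfect and pseudo-coherent objects
-/

set_option autoImplicit false
set_option backward.isDefEq.respectTransparency false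
set_option linter.style.haveILetI false
set_option maxHeartbeats 1000000
universe u

open CategoryTheory CategoryTheory.Limits AlgebraicGeometry TopologicalSpace Opposite Pretriangulated
attribute [local instance] HasDerivedCategory.standard

noncomputable section

namespace GrothLib.KSix19.ProjPush

open CohB1 OX

theorem isIso_unit_of_isIso {U X : Scheme.{u}} (j : U ⟶ X) [IsIso j] (E : DCoh.D X) :
    IsIso ((resDAdj j).unit.app E) := by
  obtain ⟨C, q, d, hT⟩ := distinguished_cocone_triangle ((resDAdj j).unit.app E)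
  have hCj : IsZero ((resD j).obj C) :=
    (Triangle.isZero₃_iff_isIso₁ _ ((resD j).map_distinguished _ hT)).2 (isIso_resD_unit j E)
  have hC : IsZero C := isZero_of_support_empty fun k => Set.eq_empty_iff_forall_notMem.2 fun x hx =>
    (isZero_resD_iff_support j C).1 hCj k hx (j.surjective x)
  exact (Triangle.isZero₃_iff_isIso₁ _ hT).1 hC

theorem isPerfect_RR_of_isIso {U X : Scheme.{u}} (j : U ⟶ X) [IsIso j] {G : DCoh.D U} (hG : DCoh.IsPerfect G) :
    DCoh.IsPerfect ((RR j).obj G) :=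
  isPerfect_of_local fun x => ⟨U, j, inferInstance, j.surjective x,
    isPerfect_of_iso hG (asIso ((resDAdj j).counit.app G)).symm⟩

/-- **Perfect objects push forward to perfect objects along a projective space over an affine scheme.** -/
theorem isPerfect_RR_toBase_affine (r : ℕ) (Y : Scheme.{u}) [IsAffine Y] {P : DCoh.D (ProjSpaceOver r Y)}
    (hP : DCoh.IsPerfect P) : DCoh.IsPerfect ((RR (ProjSpaceOver.toBase r Y)).obj P) := by
  let A : CommRingCat.{u} := Γ(Y, ⊤)
  let y : Spec (CommRingCat.of A) ⟶ Y := Y.isoSpec.inv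
  haveI : IsIso y := inferInstanceAs (IsIso Y.isoSpec.inv)
  obtain ⟨ω, -, hω⟩ := ProjPic26.exists_isPullback_point (n := r) (R := A) Y y
  haveI : IsIso ω := hω.isIso_fst_of_isIso
  haveI := isIso_unit_of_isIso ω P
  have h : DCoh.IsPerfect ((RR (ω ≫ ProjSpaceOver.toBase r Y)).obj ((resD ω).obj P)) := by
    refine isPerfect_of_iso (isPerfect_RR_of_isIso y (isPerfect_Rres_of_perfect r A (isPerfect_resD hP ω))) ?_
    exact (RRCompIso (ProjSpace.toSpec r A) y).app _ ≪≫ (RRCongr hω.w.symm).app _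
  exact isPerfect_of_iso h (((RRCompIso ω (ProjSpaceOver.toBase r Y)).app _).symm ≪≫
    ((RR (ProjSpaceOver.toBase r Y)).mapIso (asIso ((resDAdj ω).unit.app P))).symm)

variable {X : Scheme.{u}}

theorem thick_exists_isGE : TriCat.Thick (fun A : DCoh.D X => ∃ a : ℤ, A.IsGE a) := by
  refine
    { zero := fun {Z} h => ⟨0, (DerivedCategory.isGE_iff Z 0).2 fun i _ => (DerivedCategory.homologyFunctor _ i).map_isZero h⟩
      shift := fun {A} n hA => ?_
      total := fun {A B C} i₁ p₁ i₂ p₂ h hA hB => ?_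
      cone := fun T hT h₁ h₂ => ?_ }
  · obtain ⟨a, ha⟩ := hA
    exact ⟨a - n, DerivedCategory.TStructure.t.isGE_shift A a n (a - n) (by omega)⟩
  · obtain ⟨a, ha⟩ := hA
    obtain ⟨b, hb⟩ := hB
    refine ⟨min a b, (DerivedCategory.isGE_iff C _).2 fun i hi => ?_⟩
    have e := congrArg ((DerivedCategory.homologyFunctor X.Modules i).map) h
    rw [Functor.map_add, Functor.map_comp, Functor.map_comp, CategoryTheory.Functor.map_id] at e
    rw [IsZero.iff_id_eq_zero, ← e,
      (DerivedCategory.isZero_of_isGE A a i (by omega)).eq_of_tgt ((DerivedCategory.homologyFunctor _ i).map p₁) 0,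
      (DerivedCategory.isZero_of_isGE B b i (by omega)).eq_of_tgt ((DerivedCategory.homologyFunctor _ i).map p₂) 0]
    simp
  · obtain ⟨a, ha⟩ := h₁
    obtain ⟨b, hb⟩ := h₂
    refine ⟨min (a - 1) b, (DerivedCategory.isGE_iff _ _).2 fun i hi => ?_⟩
    exact ((DerivedCategory.homologyFunctor X.Modules 0).homologySequence_exact₃ T hT i (i + 1) rfl).isZero_of_both_zeros
      ((DerivedCategory.isZero_of_isGE T.obj₂ b i (by omega)).eq_of_src _ _)
      ((DerivedCategory.isZero_of_isGE T.obj₁ a (i + 1) (by omega)).eq_of_tgt _ _)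

theorem exists_isGE_of_isPerfect [CompactSpace X] [QuasiSeparatedSpace X] {K : DCoh.D X} (hK : DCoh.IsPerfect K) :
    ∃ a : ℤ, K.IsGE a :=
  prop_of_isPerfect thick_exists_isGE (fun _ _ k => ⟨k, inferInstance⟩) hK

theorem isQCohD_of_pc {E : DCoh.D X} (hE : ∀ m : ℤ, DCoh.IsPseudoCoherentD m E) : DCoh.IsQCohD E :=
  fun i => isQCoh_HD_of_pseudoCoherent (hE (i - 1)) (by omega)

/-- The affine-base case for pseudo-coherence. -/
theorem isPseudoCoherentD_RR_toBase_affine (r : ℕ) (Y : Scheme.{u}) [IsAffine Y]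
    (E : DCoh.D (ProjSpaceOver r Y)) (b : ℤ) [E.IsGE b] (hE : ∀ m : ℤ, DCoh.IsPseudoCoherentD m E) (m : ℤ) :
    DCoh.IsPseudoCoherentD m ((RR (ProjSpaceOver.toBase r Y)).obj E) := by
  let π := ProjSpaceOver.toBase r Y
  haveI : IsProper π := Chow.isProper_toBase r Y
  haveI : CompactSpace (ProjSpaceOver r Y) := QuasiCompact.compactSpace_of_compactSpace π
  haveI : QuasiSeparatedSpace (ProjSpaceOver r Y) := AlgebraicGeometry.quasiSeparatedSpace_of_quasiSeparated π
  haveI := RpushSupp20.hasInjectiveResolutions (ProjSpaceOver r Y)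
  haveI : (RR π).IsTriangulated := SiteDer.isTriangulated_res_map (rmor π).push
  have hEq := isQCohD_of_pc hE
  obtain ⟨r₀, hr₀⟩ := hasApprox_of_qcqs (ProjSpaceOver r Y) ⊥ (fun O _ => by simp)
  let k : ℤ := m - r
  obtain ⟨P, C, α, q, d, hT, hP, -, hC⟩ := hr₀ k E hEq (hE _) fun i _ =>
    isZero_restrict_of_support _ fun y => (y.2 : y.1 ∈ (⊥ : (ProjSpaceOver r Y).Opens)).elim
  obtain ⟨a, ha⟩ := exists_isGE_of_isPerfect hP
  haveI : C.IsGE (min (a - 1) b) := (DerivedCategory.isGE_iff _ _).2 fun i hi =>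
    ((DerivedCategory.homologyFunctor _ 0).homologySequence_exact₃ _ hT i (i + 1) rfl).isZero_of_both_zeros
      ((DerivedCategory.isZero_of_isGE E b i (by omega)).eq_of_src _ _)
      ((DerivedCategory.isZero_of_isGE P a (i + 1) (by omega)).eq_of_tgt _ _)
  haveI : C.IsLE (k - 1) := (DerivedCategory.isLE_iff _ _).2 fun i hi => hC i (by omega)
  have hCq : DCoh.IsQCohD C := isQCohD_obj₃ hT (isQCohD_of_isPerfect hP) hEq
  have hRC : DCoh.IsPseudoCoherentD m ((RR π).obj C) :=
    isPseudoCoherentD_of_vanishing (isQCohD_Rres π C hCq) fun i hi =>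
      RpushAmp.isZero_Rres_of_mod' π (r : ℤ) (isZero_Rres_inD r Y) C (min (a - 1) b) (k - 1) hCq i (by omega)
  exact (isPseudoCoherentD_triangle m ((RR π).map_distinguished _ hT)).2.1
    (isPseudoCoherentD_of_isPerfect (isPerfect_RR_toBase_affine r Y hP) m) hRC

/-- The part of relative projective space over an open. -/
theorem exists_iso_restrict (r : ℕ) (Y : Scheme.{u}) (V : Y.Opens) :
    ∃ e : ((ProjSpaceOver.toBase r Y ⁻¹ᵁ V : (ProjSpaceOver r Y).Opens) : Scheme.{u}) ≅ ProjSpaceOver r (V : Scheme.{u}),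
      e.hom ≫ ProjSpaceOver.toBase r (V : Scheme.{u}) = ProjSpaceOver.toBase r Y ∣_ V := by
  let ω : ProjSpaceOver r (V : Scheme.{u}) ⟶ ProjSpaceOver r Y :=
    pullback.lift (pullback.fst _ _) (ProjSpaceOver.toBase r (V : Scheme.{u}) ≫ V.ι) (specULiftZIsTerminal.hom_ext _ _)
  have h2 : ω ≫ ProjSpaceOver.toBase r Y = ProjSpaceOver.toBase r (V : Scheme.{u}) ≫ V.ι := pullback.lift_snd _ _ _
  have hω : IsPullback ω (ProjSpaceOver.toBase r (V : Scheme.{u})) (ProjSpaceOver.toBase r Y) V.ι := by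
    refine IsPullback.of_right ?_ h2 (ProjPic26.isPullback_toBase r Y)
    rw [show ω ≫ ProjPic26.pr r Y = pullback.fst _ _ from pullback.lift_fst _ _ _,
      specULiftZIsTerminal.hom_ext (V.ι ≫ specULiftZIsTerminal.from Y) (specULiftZIsTerminal.from _)]
    exact ProjPic26.isPullback_toBase r (V : Scheme.{u})
  exact ⟨(isPullback_morphismRestrict (ProjSpaceOver.toBase r Y) V).flip.isoIsPullback _ _ hω,
    IsPullback.isoIsPullback_hom_snd _ _ _ _⟩

theorem nonempty_resD_RR_toBase (r : ℕ) (Y : Scheme.{u}) (V : Y.Opens) :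
    ∃ (e : ((ProjSpaceOver.toBase r Y ⁻¹ᵁ V : (ProjSpaceOver r Y).Opens) : Scheme.{u}) ≅ ProjSpaceOver r (V : Scheme.{u})),
      ∀ E : DCoh.D (ProjSpaceOver r Y), Nonempty ((resD V.ι).obj ((RR (ProjSpaceOver.toBase r Y)).obj E) ≅
        (RR (ProjSpaceOver.toBase r (V : Scheme.{u}))).obj
          ((RR e.hom).obj ((resD (ProjSpaceOver.toBase r Y ⁻¹ᵁ V).ι).obj E))) := by
  obtain ⟨e, he⟩ := exists_iso_restrict r Y V
  exact ⟨e, fun E => ⟨(resDRRBaseChange _ V).app E ≪≫ (RRCongr he.symm).app _ ≪≫ ((RRCompIso _ _).app _).symm⟩⟩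

theorem isPseudoCoherentD_RR_of_isIso {U X : Scheme.{u}} (j : U ⟶ X) [IsIso j] {G : DCoh.D U} {m : ℤ}
    (hG : DCoh.IsPseudoCoherentD m G) : DCoh.IsPseudoCoherentD m ((RR j).obj G) :=
  isPseudoCoherentD_of_local fun x => ⟨U, j, inferInstance, j.surjective x,
    isPseudoCoherentD_of_iso hG (asIso ((resDAdj j).counit.app G)).symm⟩

theorem isGE_RR {U X : Scheme.{u}} (j : U ⟶ X) (G : DCoh.D U) (b : ℤ) [hG : G.IsGE b] :
    ((RR j).obj G).IsGE b := by
  haveI := RpushSupp20.hasInjectiveResolutions U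
  exact @SiteDer.isGE_Rres _ _ _ _ _ _ _ _ (rmor j) G b hG

theorem isGE_resD {U X : Scheme.{u}} (j : U ⟶ X) [IsOpenImmersion j] (G : DCoh.D X) (b : ℤ) [G.IsGE b] :
    ((resD j).obj G).IsGE b :=
  (DerivedCategory.isGE_iff _ _).2 fun i hi =>
    ((Scheme.Modules.restrictFunctor j).map_isZero (DerivedCategory.isZero_of_isGE G b i hi)).of_iso (HDResIso j G i)

/-- **Pseudo-coherent objects push forward to pseudo-coherent objects along a projective space.** -/
theorem isPseudoCoherentD_RR_toBase (r : ℕ) (Y : Scheme.{u})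
    (E : DCoh.D (ProjSpaceOver r Y)) (b : ℤ) [E.IsGE b] (hE : ∀ m : ℤ, DCoh.IsPseudoCoherentD m E) (m : ℤ) :
    DCoh.IsPseudoCoherentD m ((RR (ProjSpaceOver.toBase r Y)).obj E) := by
  refine isPseudoCoherentD_of_local fun x => ?_
  obtain ⟨V, hV, hx, -⟩ := exists_isAffineOpen_mem_and_subset (x := x) (U := ⊤) trivial
  haveI : IsAffine (V : Scheme.{u}) := hV
  obtain ⟨e, he⟩ := nonempty_resD_RR_toBase r Y V
  let G := (resD (ProjSpaceOver.toBase r Y ⁻¹ᵁ V).ι).obj E
  haveI : G.IsGE b := isGE_resD _ E b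
  haveI : ((RR e.hom).obj G).IsGE b := isGE_RR _ G b
  exact ⟨_, V.ι, inferInstance, ⟨⟨x, hx⟩, rfl⟩, isPseudoCoherentD_of_iso
    (isPseudoCoherentD_RR_toBase_affine r (V : Scheme.{u}) _ b
      (fun k => isPseudoCoherentD_RR_of_isIso e.hom (isPseudoCoherentD_resD (hE k) _)) m) (he E).some.symm⟩

/-- **Perfect objects push forward to perfect objects along a projective space.** -/
theorem isPerfect_RR_toBase (r : ℕ) (Y : Scheme.{u}) {E : DCoh.D (ProjSpaceOver r Y)} (hE : DCoh.IsPerfect E) :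
    DCoh.IsPerfect ((RR (ProjSpaceOver.toBase r Y)).obj E) := by
  refine isPerfect_of_local fun x => ?_
  obtain ⟨V, hV, hx, -⟩ := exists_isAffineOpen_mem_and_subset (x := x) (U := ⊤) trivial
  haveI : IsAffine (V : Scheme.{u}) := hV
  obtain ⟨e, he⟩ := nonempty_resD_RR_toBase r Y V
  exact ⟨_, V.ι, inferInstance, ⟨⟨x, hx⟩, rfl⟩, isPerfect_of_iso
    (isPerfect_RR_toBase_affine r (V : Scheme.{u}) (isPerfect_RR_of_isIso e.hom (isPerfect_resD hE _)))
    (he E).some.symm⟩

end GrothLib.KSix19.ProjPush
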