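import Groth.Agent.Lib.KSix19.ProjPush.Closed
import Groth.Agent.Lib.KSix19.RpushAmp.Main

/-!
# Relative pseudo-coherence of direct images from closed subschemes of a projective space
-/

set_option autoImplicit false
set_option backward.isDefEq.respectTransparency false
set_option linter.style.haveILetI false
set_option maxHeartbeats 1000000
universe u

open CategoryTheory CategoryTheory.Limits AlgebraicGeometry HomologicalComplex
attribute [local instance] HasDerivedCategory.standard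

noncomputable section

namespace GrothLib.KSix19.ProjPush

open CohB1 OX GrothLib.KSix19

/-- Functoriality of projective space along a closed immersion of bases. -/
theorem exists_closedImmersion_map (r : ℕ) {V A : Scheme.{u}} (j : V ⟶ A) [IsClosedImmersion j] :
    ∃ (k : ProjSpaceOver r V ⟶ ProjSpaceOver r A) (_ : IsClosedImmersion k),
      k ≫ ProjSpaceOver.toBase r A = ProjSpaceOver.toBase r V ≫ j := by
  let ω : ProjSpaceOver r V ⟶ ProjSpaceOver r A :=
    pullback.lift (pullback.fst _ _) (ProjSpaceOver.toBase r V ≫ j) (specULiftZIsTerminal.hom_ext _ _)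
  have h2 : ω ≫ ProjSpaceOver.toBase r A = ProjSpaceOver.toBase r V ≫ j := pullback.lift_snd _ _ _
  have hω : IsPullback ω (ProjSpaceOver.toBase r V) (ProjSpaceOver.toBase r A) j := by
    refine IsPullback.of_right ?_ h2 (ProjPic26.isPullback_toBase r A)
    rw [show ω ≫ ProjPic26.pr r A = pullback.fst _ _ from pullback.lift_fst _ _ _,
      specULiftZIsTerminal.hom_ext (j ≫ specULiftZIsTerminal.from A) (specULiftZIsTerminal.from _)]
    exact ProjPic26.isPullback_toBase r V
  exact ⟨ω, MorphismProperty.of_isPullback hω.flip inferInstance, h2⟩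

variable {X Y S : Scheme.{u}}

/-- **Relative pseudo-coherence of the direct image.** -/
theorem isPseudoCoherentRelAll_Rpush (q : Y ⟶ S) [LocallyOfFiniteType q] (r : ℕ) (i : X ⟶ ProjSpaceOver r Y)
    [IsClosedImmersion i] [DCoh.HasRpush (i ≫ ProjSpaceOver.toBase r Y)] (E : DCoh.D X) (a : ℤ) [E.IsGE a]
    (hE : DerSch.IsPseudoCoherentRelAll ((i ≫ ProjSpaceOver.toBase r Y) ≫ q) E) :
    DerSch.IsPseudoCoherentRelAll q ((DCoh.Rpush (i ≫ ProjSpaceOver.toBase r Y)).obj E) := by
  intro m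
  refine isPseudoCoherentRel_of_local fun y => ?_
  obtain ⟨V, T, hV, hT, hyV, -, hle⟩ := exists_affine_pair q (O := ⊤) (x := y) trivial
  obtain ⟨n, φ, hφ⟩ := exists_isChart q hV hT hle
  refine ⟨V, T, hle, n, φ, hyV, hV, hT, hφ, ?_⟩
  haveI := isClosedImmersion_immOf hV hφ.1
  let j := immOf V φ
  let A : Scheme.{u} := Spec (CommRingCat.of (MvPolynomial (Fin n) Γ(S, T)))
  let C₀ : CommRingCat.of Γ(S, T) ⟶ CommRingCat.of (MvPolynomial (Fin n) Γ(S, T)) :=
    CommRingCat.ofHom MvPolynomial.C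
  haveI : Flat (Spec.map C₀) := (HasRingHomProperty.Spec_iff (P := @Flat)).2 (show (MvPolynomial.C (σ := Fin n)).Flat from
    RingHom.flat_algebraMap_iff.2 inferInstance)
  haveI : LocallyOfFinitePresentation (Spec.map C₀) := (HasRingHomProperty.Spec_iff (P := @LocallyOfFinitePresentation)).2
    (show (MvPolynomial.C (σ := Fin n)).FinitePresentation from
      RingHom.finitePresentation_algebraMap.2 inferInstance)
  let gA : A ⟶ S := Spec.map C₀ ≫ hT.fromSpec
  have hjg : j ≫ gA = V.ι ≫ q := by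
    simp only [j, gA, C₀, immOf, Category.assoc, ← Spec.map_comp_assoc]
    rw [← CommRingCat.ofHom_comp, hφ.2, CommRingCat.ofHom_hom, IsAffineOpen.SpecMap_appLE_fromSpec q hT hV hle,
      IsAffineOpen.toSpecΓ_fromSpec_assoc]
  let f := i ≫ ProjSpaceOver.toBase r Y
  let W := ProjSpaceOver.toBase r Y ⁻¹ᵁ V
  obtain ⟨e, he⟩ := exists_iso_restrict r Y V
  obtain ⟨P, hP, hPc⟩ := exists_closedImmersion_map r j
  let k : ((i ⁻¹ᵁ W : X.Opens) : Scheme.{u}) ⟶ ProjSpaceOver r A := (i ∣_ W) ≫ e.hom ≫ P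
  have hk : k ≫ ProjSpaceOver.toBase r A = (f ∣_ V) ≫ j := by
    rw [show k ≫ ProjSpaceOver.toBase r A = (i ∣_ W) ≫ e.hom ≫ P ≫ ProjSpaceOver.toBase r A by simp [k],
      hPc, reassoc_of% he]
    exact (reassoc_of% (morphismRestrict_comp i (ProjSpaceOver.toBase r Y) V).symm) j
  haveI : Smooth (ProjSpaceOver.toBase r A) := smooth_toBase r A
  have hcomp : k ≫ ProjSpaceOver.toBase r A ≫ gA = (f ⁻¹ᵁ V).ι ≫ f ≫ q := by
    rw [reassoc_of% hk, hjg, morphismRestrict_ι_assoc]
  let G := DerivedCategory.Q.objPreimage E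
  let eG : DCoh.toD X G ≅ E := DerivedCategory.Q.objObjPreimageIso E
  let G' := (resCx (f ⁻¹ᵁ V).ι).obj G
  haveI : LocallyOfFiniteType (f ≫ q) := (hE m).1
  have hrel : ∀ l, DerSch.IsPseudoCoherentRel (k ≫ ProjSpaceOver.toBase r A ≫ gA) l (DCoh.toD _ G') := fun l => by
    rw [hcomp]
    exact isPseudoCoherentRel_restrict (isPseudoCoherentRel_of_iso eG.symm (hE l)) (f ⁻¹ᵁ V).ι
  let d : (resD (f ⁻¹ᵁ V).ι).obj E ≅ DCoh.toD _ G' :=
    (resD (f ⁻¹ᵁ V).ι).mapIso eG.symm ≪≫ (resDFac (f ⁻¹ᵁ V).ι).app G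
  haveI := isGE_resD (f ⁻¹ᵁ V).ι E a
  haveI : (DCoh.toD _ G').IsGE a := DerivedCategory.TStructure.t.isGE_of_iso d a
  haveI := isGE_push k G' a
  have hpush := isPseudoCoherentD_RR_toBase r A _ a (fun l =>
    (isPseudoCoherentRel_closedImmersion_iff k (ProjSpaceOver.toBase r A ≫ gA)
      (fun p => isNPseudoCoherent_of_flat _ p) l G').1 (hrel l)) m
  refine (pcOn_iff_pushD hV hφ.1).2 (isPseudoCoherentD_of_iso hpush ?_)
  exact (RR _).mapIso ((nonempty_RR_toD k G').some.symm ≪≫ (RR k).mapIso d.symm) ≪≫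
    (RRCompIso k (ProjSpaceOver.toBase r A)).app _ ≪≫ (RRCongr hk).app _ ≪≫ ((RRCompIso (f ∣_ V) j).app _).symm ≪≫
    (RR j).mapIso (((resDRRBaseChange f V).app E).symm ≪≫ (resD V.ι).mapIso ((rpushIsoRres f).app E).symm) ≪≫
    rresPushDIso j _

end GrothLib.KSix19.ProjPush
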