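import Groth.Agent.Lib.BlowUp.AffineCompl
import Groth.Agent.Lib.IdealModSec.Basic
import Groth.Agent.Lib.Ample.Frame
import Groth.Agent.Lib.Ample.Tensor
import Groth.Agent.Lib.OX.ClosedPush
import Groth.Agent.S1687
import Groth.Prelude.Def_MoreMor

/-!
# Complements of affine opens in locally factorial schemes give an ample family
-/

set_option autoImplicit false
set_option backward.isDefEq.respectTransparency false
set_option linter.style.haveILetI false
universe u

open CategoryTheory CategoryTheory.Limits AlgebraicGeometry TopologicalSpace Opposite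

noncomputable section

namespace GrothLib.KSix19.ProjPush

open GrothLib.InvExt (mres fres IsGen)
open GrothLib.IdealModSec (val val_injective val_mres val_smul exists_val_eq isGen_of_cartierOn)

variable {X : Scheme.{u}}

/-- An effective Cartier ideal gives an invertible module with a section invertible exactly off its support. -/
theorem exists_section_of_effCartier (I : X.IdealSheafData) (hI : _root_.BlowUp.IsEffCartierIdeal I) (U : X.Opens)
    (hsupp : (I.support : Set X) = (U : Set X)ᶜ) :
    ∃ (L : X.Modules) (s : Coh.structureModule X ⟶ L), PicF.IsInvertible L ∧ CohB1.genLocus L s = U := by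
  choose V hxV f hf hV using hI
  choose e he using fun x => exists_val_eq I (V x) (hV x ▸ Ideal.mem_span_singleton_self (f x))
  have hgen : ∀ x, IsGen (ClSub.idealMod I) (V x).1 (e x) := fun x =>
    isGen_of_cartierOn (he x ▸ hf x) (by rw [he x]; exact hV x)
  choose g hg using fun x y : X => (hgen y).exists_smul_eq (inf_le_right : (V x).1 ⊓ (V y).1 ≤ (V y).1)
    (mres (ClSub.idealMod I) inf_le_left (e x))
  have hres : ∀ (x y : X) (W : X.Opens) (hx : W ≤ (V x).1) (hy : W ≤ (V y).1),
      mres (ClSub.idealMod I) hx (e x) = Ample.res (le_inf hx hy) (g x y) • mres (ClSub.idealMod I) hy (e y) := by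
    intro x y W hx hy
    have := congrArg (mres (ClSub.idealMod I) (le_inf hx hy)) (hg x y)
    rwa [InvExt.mres_mres, Ample.mres_smul', InvExt.mres_mres] at this
  let c : Ample.Cocycle X :=
    { ι := X
      D := fun x => (V x).1
      g := g
      cover := eq_top_iff.mpr fun x _ => Opens.mem_iSup.mpr ⟨x, hxV x⟩
      self := fun i W h => (hgen i).smul_left_injective h (by rw [← hres i i W h h, one_smul])
      change := fun i j k W hi hj hk => (hgen k).smul_left_injective hk (by
        rw [← hres i k W hi hk, hres i j W hi hj, hres j k W hj hk, smul_smul]) }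
  let a : c.sect 1 ⊤ := ⟨fun x => Ample.res inf_le_right (f x), fun i j W hi hj => by
    rw [pow_one, Ample.res_res, Ample.res_res]
    have h := congrArg (val I W) (hres i j W (hi.trans inf_le_right) (hj.trans inf_le_right))
    rw [val_smul, val_mres, val_mres, he, he] at h
    exact h⟩
  refine ⟨c.twist 1, c.hom a, c.isInvertible_twist 1, (c.genLocus_hom a).trans ?_⟩
  have hU : ∀ x, X.basicOpen (f x) = (V x).1 ⊓ U := fun x => by
    ext p
    by_cases hp : p ∈ (V x).1
    · have h1 : p ∈ (I.support : Set X) ↔ p ∉ X.basicOpen (f x) := by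
        rw [SetLike.mem_coe, Scheme.IdealSheafData.mem_support_iff_of_mem hp, Scheme.mem_zeroLocus_iff]
        refine ⟨fun h => h (f x) (hV x ▸ Ideal.mem_span_singleton_self (f x)), fun h t ht => ?_⟩
        obtain ⟨r, rfl⟩ := Ideal.mem_span_singleton'.1 (hV x ▸ ht)
        rw [Scheme.basicOpen_mul]
        exact fun h' => h h'.2
      rw [hsupp] at h1
      simp only [Set.mem_compl_iff, SetLike.mem_coe] at h1
      exact ⟨fun h => ⟨hp, not_not.1 fun hU => h1.1 hU h⟩, fun h => not_not.1 fun hb => h1.2 hb h.2⟩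
    · exact ⟨fun h => absurd (X.basicOpen_le (f x) h) hp, fun h => absurd h.1 hp⟩
  show ⨆ x : X, X.basicOpen (Ample.res (inf_le_right : ⊤ ⊓ (V x).1 ≤ (V x).1) (f x)) = U
  have h : ∀ x : X, X.basicOpen (Ample.res (inf_le_right : ⊤ ⊓ (V x).1 ≤ (V x).1) (f x)) = (V x).1 ⊓ U := fun x => by
    rw [Scheme.basicOpen_res, hU, top_inf_eq, ← inf_assoc, inf_idem]
  rw [iSup_congr h, ← iSup_inf_eq, show (⨆ x : X, (V x).1) = ⊤ from c.cover, top_inf_eq]

/-- If every local ring is a domain a point has only one generic point above it. -/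
theorem genericPoint_unique {x η η' : X} [IsDomain (X.presheaf.stalk x)] (hη : η ∈ genericPoints X)
    (hη' : η' ∈ genericPoints X) (h : η ⤳ x) (h' : η' ⤳ x) : η = η' := by
  let ξ : X := X.fromSpecStalk x (⟨⊥, Ideal.isPrime_bot⟩ : PrimeSpectrum (X.presheaf.stalk x))
  have key : ∀ ζ : X, ζ ∈ genericPoints X → ζ ⤳ x → ζ = ξ := fun ζ hζ hs => by
    obtain ⟨p, rfl⟩ : ζ ∈ Set.range (X.fromSpecStalk x) := by rw [Scheme.range_fromSpecStalk]; exact hs
    have h1 : ξ ⤳ X.fromSpecStalk x p :=
      ((PrimeSpectrum.le_iff_specializes _ _).1 (bot_le : (⊥ : Ideal _) ≤ p.asIdeal)).map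
        (X.fromSpecStalk x).continuous
    have hle : closure ({X.fromSpecStalk x p} : Set X) ≤ closure {ξ} :=
      closure_minimal (Set.singleton_subset_iff.2 h1.mem_closure) isClosed_closure
    exact (Inseparable.eq (inseparable_iff_closure_eq.2
      (le_antisymm hle (hζ.2 isIrreducible_singleton.closure hle))))
  exact (key η hη h).trans (key η' hη' h').symm

/-- In a Noetherian scheme with domain local rings every point lies in a dense affine open. -/
theorem exists_dense_affine_mem [IsNoetherian X] (hdom : ∀ x : X, IsDomain (X.presheaf.stalk x)) (x : X) :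
    ∃ U : X.Opens, IsAffineOpen U ∧ x ∈ U ∧ Dense (U : Set X) := by
  classical
  have hgfin : (genericPoints (X : Type u)).Finite :=
    genericPoints.finite NoetherianSpace.finite_irreducibleComponents
  haveI : Finite (genericPoints (X : Type u)) := hgfin.to_subtype
  have hcover : ∀ y : X, ∃ η ∈ genericPoints (X : Type u), η ⤳ y := fun y => by
    have hy : y ∈ closure (genericPoints (X : Type u)) := by rw [genericPoints.closure]; trivial
    rw [← Set.biUnion_of_singleton (genericPoints (X : Type u)), hgfin.closure_biUnion] at hy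
    obtain ⟨η, hη, hy⟩ := Set.mem_iUnion₂.mp hy
    exact ⟨η, hη, specializes_iff_mem_closure.2 hy⟩
  choose γ hγ hγx using hcover
  have huniq : ∀ (y η : X), η ∈ genericPoints X → η ⤳ y → γ y = η := fun y η hη h => by
    haveI := hdom y
    exact genericPoint_unique (hγ y) hη (hγx y) h
  let Ω : genericPoints (X : Type u) → X.Opens := fun η =>
    ⟨(⋃ η' ∈ (genericPoints (X : Type u) \ {η.1}), closure ({η'} : Set X))ᶜ,
      ((hgfin.subset Set.sdiff_subset).isClosed_biUnion fun _ _ => isClosed_closure).isOpen_compl⟩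
  have hΩ : ∀ η (y : X), y ∈ Ω η ↔ γ y = η.1 := fun η y => by
    refine ⟨fun hy => by_contra fun hne => hy (Set.mem_iUnion₂.2 ⟨γ y, ⟨hγ y, hne⟩, (hγx y).mem_closure⟩),
      fun h hy => ?_⟩
    obtain ⟨η', ⟨hη', hne⟩, hy⟩ := Set.mem_iUnion₂.1 hy
    exact hne ((huniq y η' hη' (specializes_iff_mem_closure.2 hy)).symm.trans h)
  have hx : ∀ η : genericPoints (X : Type u), ∃ z : X, γ z = η.1 ∧ (η.1 = γ x → z = x) := fun η => by
    by_cases h : η.1 = γ x
    · exact ⟨x, h.symm, fun _ => rfl⟩
    · exact ⟨η.1, huniq _ _ η.2 specializes_rfl, fun h' => absurd h' h⟩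
  choose z hz hzx using hx
  choose W hW hzW hWΩ using fun η =>
    exists_isAffineOpen_mem_and_subset (x := z η) (U := Ω η) ((hΩ η (z η)).2 (hz η))
  have hd : ∀ η η', η ≠ η' → Disjoint (W η) (W η') := fun η η' hne => by
    rw [disjoint_iff]
    ext y
    exact ⟨fun hy => absurd (Subtype.ext (((hΩ η y).1 (hWΩ η hy.1)).symm.trans ((hΩ η' y).1 (hWΩ η' hy.2)))) hne,
      fun h => h.elim⟩
  refine ⟨⨆ η, W η, IsAffineOpen.iSup_of_disjoint hW fun η η' hne => hd η η' hne,
    Opens.mem_iSup.2 ⟨⟨γ x, hγ x⟩, ?_⟩, ?_⟩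
  · have h := hzW ⟨γ x, hγ x⟩
    rwa [hzx ⟨γ x, hγ x⟩ rfl] at h
  refine dense_iff_closure_eq.2 (Set.eq_univ_of_univ_subset
    ((genericPoints.closure (α := X)).ge.trans (closure_mono fun η hη => ?_)))
  refine Opens.mem_iSup.2 ⟨⟨η, hη⟩, Specializes.mem_open ?_ (W ⟨η, hη⟩).2 (hzW ⟨η, hη⟩)⟩
  have := hγx (z ⟨η, hη⟩)
  rwa [hz ⟨η, hη⟩] at this

/-- A Noetherian scheme with affine intersections and factorial local rings has an ample family. -/
theorem hasAmpleFamily_of_factorial [IsNoetherian X]
    (hΔ : ∀ V W : X.Opens, IsAffineOpen V → IsAffineOpen W → IsAffineOpen (V ⊓ W))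
    (hufd : ∀ x : X, IsDomain (X.presheaf.stalk x) ∧ UniqueFactorizationMonoid (X.presheaf.stalk x)) :
    MoreMor.HasAmpleFamily X := by
  refine ⟨inferInstance, fun x => ?_⟩
  obtain ⟨U, hU, hxU, hdense⟩ := exists_dense_affine_mem (fun y => (hufd y).1) x
  obtain ⟨I, hI, hsupp⟩ := Groth.Agent.S1687.result X hΔ U hU hdense fun y _ => hufd y
  obtain ⟨L, s, hL, hs⟩ := exists_section_of_effCartier I hI U hsupp
  let w : L ≅ CohB1.tensorPow L 1 := (OX.tensorUnitLeftIso L).symm
  refine ⟨L, 1, s ≫ w.hom, hL, le_rfl, ?_, ?_⟩ <;> rw [Ample.genLocus_comp_iso w s, hs]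
  exacts [hxU, hU]

end GrothLib.KSix19.ProjPush
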