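import Groth.Agent.Lib.KSix19.ProjPush.Closed
import Groth.Agent.Lib.KSix19.RpushAmp.Main

/-!
# Perfect amplitude of direct images along a projective space over an affine scheme
-/

set_option autoImplicit false
set_option backward.isDefEq.respectTransparency false
set_option linter.style.haveILetI false
set_option maxHeartbeats 1000000
universe u

open CategoryTheory CategoryTheory.Limits AlgebraicGeometry HomologicalComplex
attribute [local instance] HasDerivedCategory.standard

noncomputable section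

namespace GrothLib.KSix19.ProjPush

open CohB1 OX GrothLib.KSix19

variable {X : Scheme.{u}}

theorem isGE_of_flatAmplitude {K : DCoh.D X} {a b : ℤ} (h : DCoh.HasFlatAmplitudeIn a b K) : K.IsGE a := by
  obtain ⟨E, hE, -, ⟨e⟩⟩ := h
  exact (DerivedCategory.isGE_iff _ _).2 fun i hi =>
    (((HomologicalComplex.exactAt_iff_isZero_homology _ _).1
      (HomologicalComplex.ExactAt.of_isZero (hE i (Or.inl hi)))).of_iso (hdIso E i)).of_iso
      ((DerivedCategory.homologyFunctor _ i).mapIso e.symm)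

theorem isLE_of_flatAmplitude {K : DCoh.D X} {a b : ℤ} (h : DCoh.HasFlatAmplitudeIn a b K) : K.IsLE b := by
  obtain ⟨E, hE, -, ⟨e⟩⟩ := h
  exact (DerivedCategory.isLE_iff _ _).2 fun i hi =>
    (((HomologicalComplex.exactAt_iff_isZero_homology _ _).1
      (HomologicalComplex.ExactAt.of_isZero (hE i (Or.inr hi)))).of_iso (hdIso E i)).of_iso
      ((DerivedCategory.homologyFunctor _ i).mapIso e.symm)

theorem perfectAmplitude_of_isZero {K : DCoh.D X} (hK : IsZero K) (a b : ℤ) : KSix.HasPerfectAmplitudeIn a b K := by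
  refine hasPerfectAmplitudeIn_iff.2 fun x => ⟨X, 𝟙 X, inferInstance, ⟨x, rfl⟩, ?_⟩
  obtain ⟨O, hO⟩ : ∃ O : CochainComplex X.Modules ℤ, IsZero O := HasZeroObject.zero
  exact ⟨O, fun i _ => (HomologicalComplex.eval _ _ i).map_isZero hO,
    fun i => DCoh.isFinLocFree_of_isZero ((HomologicalComplex.eval _ _ i).map_isZero hO),
    ⟨(DerivedCategory.Q.map_isZero hO).iso ((resD (𝟙 X)).map_isZero hK)⟩⟩

/-- **Perfect amplitude of `Rπ_*`.** -/
theorem perfectAmplitude_RR_toBase (r : ℕ) (Y : Scheme.{u}) [IsAffine Y] {K : DCoh.D (ProjSpaceOver r Y)}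
    {a b : ℤ} (hK : KSix.HasPerfectAmplitudeIn a b K) :
    KSix.HasPerfectAmplitudeIn a (b + r) ((RR (ProjSpaceOver.toBase r Y)).obj K) := by
  let π := ProjSpaceOver.toBase r Y
  haveI : IsProper π := Chow.isProper_toBase r Y
  haveI : DCoh.HasRpush π := KInj.hasRightDerivedFunctor _
  have hflat := flatAmplitude_of_perfectAmplitude hK
  have hperf := isPerfect_of_perfectAmplitude hK
  haveI := isGE_of_flatAmplitude hflat
  haveI := isLE_of_flatAmplitude hflat
  let e₀ : (DCoh.Rpush π).obj K ≅ (RR π).obj K := (rpushIsoRres π).app K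
  haveI : ((DCoh.Rpush π).obj K).IsLE (b + r) := isLE_Rpush r Y K (isQCohD_of_isPerfect hperf) a b
  haveI : ((RR π).obj K).IsLE (b + r) := DerivedCategory.TStructure.t.isLE_of_iso e₀ _
  rcases lt_or_ge (b + r) a with hab | hab
  · haveI : ((RR π).obj K).IsGE a := isGE_RR π K a
    exact perfectAmplitude_of_isZero
      (DerivedCategory.TStructure.t.isZero ((RR π).obj K) (b + r) a hab) _ _
  let G := DerivedCategory.Q.objPreimage K
  let eG : DCoh.toD _ G ≅ K := DerivedCategory.Q.objObjPreimageIso K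
  let B := DerivedCategory.Q.objPreimage ((RR π).obj K)
  let eB : DCoh.toD Y B ≅ (RR π).obj K := DerivedCategory.Q.objObjPreimageIso _
  let eB' : DCoh.toD Y B ≅ (DCoh.Rpush π).obj (DCoh.toD _ G) := eB ≪≫ e₀.symm ≪≫ ((DCoh.Rpush π).mapIso eG).symm
  haveI : (DCoh.toD Y B).IsLE (b + r) := DerivedCategory.TStructure.t.isLE_of_iso eB.symm _
  have hGflat : DCoh.HasFlatAmplitudeIn a b (DCoh.toD _ G) :=
    flatAmplitude_of_perfectAmplitude (hasPerfectAmplitudeIn_iff.2
      (Locally.of_iso strictIn_of_iso (hasPerfectAmplitudeIn_iff.1 hK) eG.symm))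
  have htor : DerSch.HasTorAmplitude (π ≫ 𝟙 Y) a b G := fun x => by
    rw [Category.comp_id]
    have h := hasTorAmplitudeAt_comp (𝟙 _) π x 0 (by simpa using hasTorAmplitudeAt_of_flat π x)
      (stalks_of_flatAmplitude hGflat x)
    rw [Category.id_comp] at h
    simpa using h
  have hamp : DerSch.HasTorAmplitude (𝟙 Y) a (b + r) B :=
    RpushAmp.torAmplitude_Rpush_affine (𝟙 Y) π G
      (isQCohD_of_isPerfect (isPerfect_of_iso hperf eG.symm)) htor B eB'
  have hf : DCoh.HasFlatAmplitudeIn a (b + r) (DCoh.toD Y B) := (flatAmplitude_iff_stalks (b + r) a (b + r)).2 hamp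
  have hB := perfectAmplitude_of_flatAmplitude hab hf
    (isPseudoCoherentD_of_isPerfect (isPerfect_of_iso (isPerfect_RR_toBase r Y hperf) eB.symm) _)
  exact hasPerfectAmplitudeIn_iff.2 (Locally.of_iso strictIn_of_iso (hasPerfectAmplitudeIn_iff.1 hB) eB)

end GrothLib.KSix19.ProjPush
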