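import Groth.Agent.Lib.KSix19.ProjPush.TwistDer
import Groth.Agent.Lib.KSix19.ProjPush.PerfAmp
import Groth.Agent.Lib.OX.PCohQCoh
import Groth.Agent.Lib.OX.KFlat
import Groth.Agent.Lib.OX.Adjunction
import Groth.Agent.Lib.Ample.FiniteGen
import Groth.Agent.Lib.ProjCohom.Twist

/-!
# Vanishing for large twists of pseudo-coherent objects on a projective space over a ring
-/

set_option autoImplicit false
set_option backward.isDefEq.respectTransparency false
set_option linter.style.haveILetI false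
set_option maxHeartbeats 1000000
universe u

open CategoryTheory CategoryTheory.Limits AlgebraicGeometry TopologicalSpace Opposite Pretriangulated
attribute [local instance] HasDerivedCategory.standard

noncomputable section

namespace GrothLib.KSix19.ProjPush

open CohB1 OX

/-- On a spectrum, maps from the structure sheaf detect cohomology. -/
theorem isZero_HD_iff_hom {A : CommRingCat.{u}} {F : DCoh.D (Spec A)} (hF : DCoh.IsQCohD F) (j : ℤ) :
    IsZero (DCoh.HD F j) ↔
      ∀ φ : (DerivedCategory.singleFunctor (Spec A).Modules j).obj (Coh.structureModule (Spec A)) ⟶ F, φ = 0 := by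
  let e := (DerivedCategory.singleFunctor (Spec A).Modules j).mapIso (genTopIso (Spec A))
  have hb := theta_bijective (isAffineOpen_top (Spec A)) hF j
  constructor
  · intro hz φ
    rw [← cancel_epi e.hom, comp_zero]
    exact hb.1 (hz.eq_of_tgt _ _)
  · intro h
    haveI : (DCoh.HD F j).IsQuasicoherent := hF j
    haveI := Scheme.Modules.isIso_fromTildeΓ_of_isQuasicoherent (R := A) (DCoh.HD F j)
    have hsub : Subsingleton Γ(DCoh.HD F j, (⊤ : (Spec A).Opens)) := by
      refine ⟨fun s t => (genSec (DCoh.HD F j) ⊤).symm.injective ?_⟩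
      obtain ⟨φ, hφ⟩ := hb.2 ((genSec (DCoh.HD F j) ⊤).symm s)
      obtain ⟨ψ, hψ⟩ := hb.2 ((genSec (DCoh.HD F j) ⊤).symm t)
      have h0 : ∀ χ : (DerivedCategory.singleFunctor (Spec A).Modules j).obj ((genF (Spec A)).obj ⊤) ⟶ F, χ = 0 :=
        fun χ => by rw [← cancel_epi e.inv, comp_zero]; exact h _
      rw [← hφ, ← hψ, h0 φ, h0 ψ]
    haveI : Subsingleton ((moduleSpecΓFunctor (R := A)).obj (DCoh.HD F j) : ModuleCat.{u} A) := hsub
    exact ((tilde.functor A).map_isZero (ModuleCat.isZero_of_subsingleton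
      ((moduleSpecΓFunctor (R := A)).obj (DCoh.HD F j)))).of_iso (asIso (Scheme.Modules.fromTildeΓ (DCoh.HD F j))).symm

theorem nonempty_lpull_structure {X Y : Scheme.{u}} (f : X ⟶ Y) [DCoh.HasLpull f] (j : ℤ) :
    Nonempty ((DCoh.Lpull f).obj ((DerivedCategory.singleFunctor Y.Modules j).obj (Coh.structureModule Y)) ≅
      (DerivedCategory.singleFunctor X.Modules j).obj (Coh.structureModule X)) := by
  obtain ⟨v⟩ := lpull_value f _ (isKFlat_single (Coh.structureModule Y) (flat_structureModule Y) j)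
  exact ⟨(DCoh.Lpull f).mapIso ((DerivedCategory.singleFunctorIsoCompQ Y.Modules j).app _) ≪≫ v ≪≫
    DerivedCategory.Q.mapIso ((HomologicalComplex.singleMapHomologicalComplex (Scheme.Modules.pullback f)
      (ComplexShape.up ℤ) j).app _) ≪≫
    ((DerivedCategory.singleFunctorIsoCompQ X.Modules j).app _).symm ≪≫
    (DerivedCategory.singleFunctor X.Modules j).mapIso (pullUnitIso f)⟩

/-- Maps from the structure sheaf are maps from the structure sheaf of the base into the direct image. -/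
theorem hom_structure_eq_zero_iff {X Y : Scheme.{u}} (f : X ⟶ Y) (K : DCoh.D X) (j : ℤ) :
    (∀ φ : (DerivedCategory.singleFunctor X.Modules j).obj (Coh.structureModule X) ⟶ K, φ = 0) ↔
      (∀ φ : (DerivedCategory.singleFunctor Y.Modules j).obj (Coh.structureModule Y) ⟶ (RR f).obj K, φ = 0) := by
  haveI := OX.hasLpull f
  haveI : DCoh.HasRpush f := KInj.hasRightDerivedFunctor _
  obtain ⟨adj⟩ := OX.nonempty_lpullAdj f
  obtain ⟨t⟩ := nonempty_lpull_structure f j
  let E := (t.symm.homFromEquiv (Z := K)).trans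
    ((adj.homEquiv _ K).trans ((rpushIsoRres f).app K).homToEquiv)
  constructor
  · intro h φ
    apply E.symm.injective
    rw [h (E.symm φ), h (E.symm 0)]
  · intro h φ
    apply E.injective
    rw [h (E φ), h (E 0)]

variable (n : ℕ) (A : Type u) [CommRing A]

/-- `O(d)`. -/
abbrev OO (d : ℤ) : (ProjSpace n A).Modules := Twist.twistProjSpace n A d

instance preservesFiniteLimits_TT_OO (d : ℤ) : PreservesFiniteLimits (TT (OO n A d)) :=
  preservesFiniteLimits_TT (ProjPic26.isInvertible_twistProjSpace n A d)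

/-- No maps from `O(-N)` placed in degree `j`. -/
def Van (j : ℤ) (N : ℕ) (K : DCoh.D (ProjSpace n A)) : Prop :=
  ∀ φ : (DerivedCategory.singleFunctor (ProjSpace n A).Modules j).obj (OO n A (-(N : ℤ))) ⟶ K, φ = 0

theorem nonempty_OO_tensor (d : ℤ) :
    Nonempty ((TT (OO n A d)).obj (OO n A (-d)) ≅ Coh.structureModule (ProjSpace n A)) := by
  obtain ⟨g⟩ := GrTilde.nonempty_twist_tensor_twist (𝒜 := polyGrading n A) (ProjPic26.h1_polyGrading n A) d (-d)
  have h0 : ProjPic26.tw n A 0 = 1 := by rw [ProjPic26.tw_eq_zpow, zpow_zero]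
  obtain ⟨z⟩ := (Cube.clsMod_eq_one_iff _).1 h0
  exact ⟨g ≪≫ eqToIso (by rw [add_neg_cancel]; rfl) ≪≫ z⟩

/-- `Van` is the vanishing of cohomology of the twist. -/
theorem van_iff (K : DCoh.D (ProjSpace n A)) (hK : DCoh.IsQCohD K) (j : ℤ) (N : ℕ) :
    Van n A j N K ↔
      IsZero (DCoh.HD ((RR (ProjSpace.toSpec n A)).obj ((TD (OO n A (N : ℤ))).obj K)) j) := by
  haveI : IsProper (ProjSpace.toSpec n A) := Chow.isProper_toSpec n A
  have hq : DCoh.IsQCohD ((TD (OO n A (N : ℤ))).obj K) :=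
    isQCohD_TD (ProjPic26.isInvertible_twistProjSpace n A (N : ℤ)) hK
  rw [isZero_HD_iff_hom (isQCohD_Rres _ _ hq), ← hom_structure_eq_zero_iff]
  obtain ⟨e⟩ := nonempty_OO_tensor n A (N : ℤ)
  let t := ((TT (OO n A (N : ℤ))).mapDerivedCategorySingleFunctor j).app (OO n A (-(N : ℤ))) ≪≫
    (DerivedCategory.singleFunctor (ProjSpace n A).Modules j).mapIso e
  haveI := isEquivalence_TD (ProjPic26.isInvertible_twistProjSpace n A (N : ℤ))
  constructor
  · intro h φ
    rw [← cancel_epi t.hom, comp_zero]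
    obtain ⟨ψ, hψ⟩ := (TD (OO n A (N : ℤ))).map_surjective (t.hom ≫ φ)
    rw [← hψ, h ψ, Functor.map_zero]
  · intro h φ
    apply (TD (OO n A (N : ℤ))).map_injective
    rw [Functor.map_zero, ← cancel_epi t.inv, comp_zero]
    exact h _

theorem isZero_Rres_inD' (M : (ProjSpace n A).Modules) (hM : Coh.IsQCoh M) (i : ℤ) (hi : (n : ℤ) < i) :
    IsZero (DCoh.HD ((SiteDer.Rres (rmor (ProjSpace.toSpec n A))).obj (DCoh.inD _ M)) i) := by
  haveI : IsProper (ProjSpace.toSpec n A) := Chow.isProper_toSpec n A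
  haveI := RpushSupp20.hasInjectiveResolutions (ProjSpace n A)
  haveI : (ProjSpace n A).IsSeparated := inferInstanceAs (Proj (polyGrading n A)).IsSeparated
  haveI : M.IsQuasicoherent := hM
  obtain ⟨q, rfl⟩ := Int.eq_ofNat_of_zero_le (le_trans (by positivity) hi.le)
  refine IsZero.of_iso ?_ (SiteDer.nonempty_homology_Rres_single (rmor (ProjSpace.toSpec n A)) M q).some
  refine RelVanish.isZero_Rpush_of_cover (ProjSpace.toSpec n A) M q (fun _ : Unit => ⊤)
    (fun _ => isAffineOpen_top _) (fun _ => ⟨(), trivial⟩) fun _ => ?_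
  have hv : Cohom.VanishFrom (Coh.toAb M) (⊤ : (ProjSpace n A).Opens) (n + 1) := by
    rw [← show (⨆ i, Proj.basicOpen (polyGrading n A) (MvPolynomial.X i)) = (⊤ : (ProjSpace n A).Opens) from
      Ample.ProjMap.iSup_basicOpen_X n A]
    exact Cohom.vanishFrom_iSup M (fun V => IsAffineOpen V) (fun V hV => hV) (fun V V' hV hV' => hV.inf hV') (n + 1)
      (fun i => Proj.basicOpen (polyGrading n A) (MvPolynomial.X i)) fun i =>
      Proj.isAffineOpen_basicOpen _ _ (MvPolynomial.isHomogeneous_X _ i) one_pos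
  exact hv q (by omega)

/-- Above the amplitude there are no maps at all. -/
theorem van_high (K : DCoh.D (ProjSpace n A)) (hK : DCoh.IsQCohD K) (b a : ℤ) [K.IsGE b] [K.IsLE a] (j : ℤ)
    (hj : a + n < j) (N : ℕ) : Van n A j N K := by
  rw [van_iff n A K hK j N]
  haveI := isGE_TD (OO n A (N : ℤ)) K b
  haveI := isLE_TD (OO n A (N : ℤ)) K a
  exact RpushAmp.isZero_Rres_of_mod' (ProjSpace.toSpec n A) (n : ℤ) (isZero_Rres_inD' n A) _ b a
    (isQCohD_TD (ProjPic26.isInvertible_twistProjSpace n A (N : ℤ)) hK) j hj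

theorem isZero_HD_Rres_nonneg (d : ℤ) (hd : 0 ≤ d) (a j : ℤ) (hj : a < j) :
    IsZero (DCoh.HD ((SiteDer.Rres (rmor (ProjSpace.toSpec n A))).obj
      ((DerivedCategory.singleFunctor (ProjSpace n A).Modules a).obj (OO n A d))) j) := by
  let π := ProjSpace.toSpec n A
  let M := OO n A d
  haveI : IsProper π := Chow.isProper_toSpec n A
  haveI := RpushSupp20.hasInjectiveResolutions (ProjSpace n A)
  haveI : (SiteDer.Rres (rmor π)).IsTriangulated := SiteDer.isTriangulated_res_map (rmor π).push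
  haveI : M.IsQuasicoherent := GrTilde.isQuasicoherent_twist _ _
  let u : (DCoh.inD _ M)⟦-a⟧ ≅ (DerivedCategory.singleFunctor (ProjSpace n A).Modules a).obj M :=
    ((SingleFunctors.shiftIso (DerivedCategory.singleFunctors (ProjSpace n A).Modules) (-a) a 0 (by omega))).app M
  let k : ((SiteDer.Rres (rmor π)).obj (DCoh.inD _ M))⟦-a⟧ ≅
      (SiteDer.Rres (rmor π)).obj ((DerivedCategory.singleFunctor (ProjSpace n A).Modules a).obj M) :=
    (((SiteDer.Rres (rmor π)).commShiftIso (-a)).app (DCoh.inD _ M)).symm ≪≫ (SiteDer.Rres (rmor π)).mapIso u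
  obtain ⟨q, hq, rfl⟩ : ∃ q : ℕ, 1 ≤ q ∧ j = a + q := ⟨(j - a).toNat, by omega, by omega⟩
  refine IsZero.of_iso ?_ (((DerivedCategory.homologyFunctor _ (a + q)).mapIso k.symm) ≪≫
    HDShiftIso _ (-a) (a + q) (q : ℤ) (by omega))
  refine IsZero.of_iso ?_ (SiteDer.nonempty_homology_Rres_single (rmor π) M q).some
  refine RelVanish.isZero_Rpush_of_cover π M q (fun _ : Unit => ⊤) (fun _ => isAffineOpen_top _)
    (fun _ => ⟨(), trivial⟩) fun _ => ?_
  haveI : Subsingleton (Coh.HH (ProjSpace n A) M q) :=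
    ProjCohom.subsingleton_HH (n := n) (R := A) (d := d) (q := q) (fun h => by omega) (fun h => by omega)
  exact (Cohom.HEquivTop (Coh.toAb M) q).symm.toEquiv.subsingleton

/-- Perfect objects in degrees `≤ a` without maps from large negative twists above degree `a`. -/
def Good (a : ℤ) (P : DCoh.D (ProjSpace n A)) : Prop :=
  DCoh.IsPerfect P ∧ P.IsLE a ∧ ∃ N₀ : ℕ, ∀ N : ℕ, N₀ ≤ N → ∀ j : ℤ, a < j → Van n A j N P

theorem good_single (a : ℤ) (p : ℕ) : Good n A a (tw (Ample.ProjMap.pcoc n A) a p) := by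
  refine ⟨isPerfect_tw _ a p, inferInstance, p, fun N hN j hj => ?_⟩
  rw [van_iff n A _ (isQCohD_of_isPerfect (isPerfect_tw _ a p))]
  obtain ⟨g⟩ := GrTilde.nonempty_twist_tensor_twist (𝒜 := polyGrading n A) (ProjPic26.h1_polyGrading n A)
    (N : ℤ) (-(p : ℤ))
  refine (isZero_HD_Rres_nonneg n A ((N : ℤ) + -(p : ℤ)) (by omega) a j hj).of_iso
    ((DerivedCategory.homologyFunctor _ j).mapIso ((RR (ProjSpace.toSpec n A)).mapIso ?_))
  exact (TD (OO n A (N : ℤ))).mapIso ((DerivedCategory.singleFunctor _ a).mapIso (nonempty_nTwist_iso n A p).some) ≪≫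
    ((TT (OO n A (N : ℤ))).mapDerivedCategorySingleFunctor a).app _ ≪≫
    (DerivedCategory.singleFunctor _ a).mapIso g

theorem good_of_isZero (a : ℤ) {P : DCoh.D (ProjSpace n A)} (hP : IsZero P) : Good n A a P :=
  ⟨isPerfect_of_isZero_obj hP, (DerivedCategory.isLE_iff _ _).2 fun i _ =>
    (DerivedCategory.homologyFunctor _ i).map_isZero hP, 0, fun N _ j _ φ => hP.eq_of_tgt _ _⟩

theorem good_biprod {a : ℤ} {P Q : DCoh.D (ProjSpace n A)} (hP : Good n A a P) (hQ : Good n A a Q) :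
    Good n A a (P ⊞ Q) := by
  obtain ⟨hPp, hPl, M, hM⟩ := hP
  obtain ⟨hQp, hQl, M', hM'⟩ := hQ
  refine ⟨isPerfect_biprod hPp hQp, DerivedCategory.TStructure.t.isLE₂ _
    (binaryBiproductTriangle_distinguished P Q) a hPl hQl, max M M', fun N hN j hj φ => ?_⟩
  · apply biprod.hom_ext
    · rw [zero_comp]; exact hM N (le_of_max_le_left hN) j hj _
    · rw [zero_comp]; exact hM' N (le_of_max_le_right hN) j hj _

/-- Finitely many maps from negative twists factor through one map from a good object. -/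
theorem exists_good_factor {a : ℤ} {K : DCoh.D (ProjSpace n A)} :
    ∀ {k : ℕ} (p : Fin k → ℕ) (χ : ∀ s, tw (Ample.ProjMap.pcoc n A) a (p s) ⟶ K),
      ∃ (P : DCoh.D (ProjSpace n A)) (α : P ⟶ K), Good n A a P ∧ ∀ s, ∃ β, χ s = β ≫ α
  | 0, p, χ => by
    obtain ⟨Z, hZ⟩ : ∃ Z : DCoh.D (ProjSpace n A), IsZero Z := HasZeroObject.zero
    exact ⟨Z, 0, good_of_isZero n A a hZ, fun s => s.elim0⟩
  | k + 1, p, χ => by
    obtain ⟨P, α, hP, hα⟩ := exists_good_factor (fun s => p s.succ) (fun s => χ s.succ)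
    refine ⟨tw (Ample.ProjMap.pcoc n A) a (p 0) ⊞ P, biprod.desc (χ 0) α, good_biprod n A (good_single n A a _) hP,
      Fin.cases ⟨biprod.inl, biprod.inl_desc _ _ |>.symm⟩ fun s => ?_⟩
    obtain ⟨β, hβ⟩ := hα s
    exact ⟨β ≫ biprod.inr, by rw [Category.assoc, biprod.inr_desc, hβ]⟩

/-- Local maps extend after twisting. -/
theorem exists_extend {X : Scheme.{u}} [CompactSpace X] [QuasiSeparatedSpace X] (c : Ample.Cocycle X) (s : c.sect 1 ⊤)
    {U : Scheme.{u}} (j : U ⟶ X) [IsOpenImmersion j] [CompactSpace U] (hj : Set.range j = (c.locus s : Set X))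
    {K : DCoh.D X} (hK : DCoh.IsQCohD K) {m : ℤ} (φ : (resD j).obj (tw c m 0) ⟶ (resD j).obj K) :
    ∃ (k : ℕ) (χ : tw c m k ⟶ K),
      (resD j).map (twMap c s m k (show 0 + k = k by omega)) ≫ φ = (resD j).map χ := by
  haveI : QuasiCompact j := quasiCompact_of_isCompact_range j
    (by rw [← Set.image_univ]; exact isCompact_univ.image j.continuous)
  let adj := resDAdj j
  obtain ⟨C, q, d, hT⟩ := distinguished_cocone_triangle (adj.unit.app K)
  have hC : DCoh.IsQCohD C := isQCohD_obj₃ hT hK (isQCohD_Rres j _ (isQCohD_resD j hK))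
  have hCW : IsZero ((resD (c.locus s).ι).obj C) :=
    isZero_resD_of_le _ _ (by rw [Scheme.Opens.range_ι, hj])
      ((Triangle.isZero₃_iff_isIso₁ _ ((resD j).map_distinguished _ hT)).2 (isIso_resD_unit j K))
  obtain ⟨k, hk⟩ := exists_twMap_eq_zero c s m 0 hC hCW (adj.homEquiv _ _ φ ≫ q)
  obtain ⟨χ, hχ⟩ : ∃ χ : tw c m k ⟶ K,
      twMap c s m k (show 0 + k = k by omega) ≫ adj.homEquiv _ _ φ = χ ≫ adj.unit.app K :=
    Triangle.coyoneda_exact₂ _ hT _ ((Category.assoc _ _ _).trans (hk _ (by omega)))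
  refine ⟨k, χ, (adj.homEquiv _ _).injective ?_⟩
  rw [adj.homEquiv_naturality_left, hχ, adj.homEquiv_unit]
  exact adj.unit.naturality χ

/-- On an affine scheme a top cohomology sheaf of finite type is spanned by finitely many maps from `O`. -/
theorem exists_maps_spanning {R : CommRingCat.{u}} {E : DCoh.D (Spec R)} (hE : DCoh.IsQCohD E) (a : ℤ)
    (hFT : CohB1.IsFT (DCoh.HD E a)) :
    ∃ (k : ℕ) (φ : Fin k → ((DerivedCategory.singleFunctor (Spec R).Modules a).obj (Coh.structureModule (Spec R)) ⟶ E)),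
      ∀ (E' : DCoh.D (Spec R)) (q : E ⟶ E'), DCoh.IsQCohD E' → (∀ s, φ s ≫ q = 0) →
        (DerivedCategory.homologyFunctor (Spec R).Modules a).map q = 0 := by
  let X := Spec R
  haveI : (DCoh.HD E a).IsQuasicoherent := hE a
  have hfin := QCoh.moduleFinite_of_isFiniteType (DCoh.HD E a) hFT (isAffineOpen_top X)
  obtain ⟨k, g, hg⟩ := Module.Finite.exists_fin (R := Γ(X, ⊤)) (M := Γ(DCoh.HD E a, ⊤))
  let e := (DerivedCategory.singleFunctor X.Modules a).mapIso (genTopIso X)
  choose ψ hψ using fun s : Fin k => (theta_bijective (isAffineOpen_top X) hE a).2 ((genSec (DCoh.HD E a) ⊤).symm (g s))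
  refine ⟨k, fun s => e.inv ≫ ψ s, fun E' q hE' h => ?_⟩
  let Q : DCoh.HD E a ⟶ DCoh.HD E' a := (DerivedCategory.homologyFunctor X.Modules a).map q
  have hgen : ∀ s, Q.app ⊤ (g s) = 0 := fun s => by
    have h1 : ψ s ≫ q = 0 := by
      rw [← cancel_epi e.inv, comp_zero, ← Category.assoc]; exact h s
    have h2 : (genSec (DCoh.HD E a) ⊤).symm (g s) ≫ Q = 0 := by
      rw [← hψ s]
      exact (SiteDer.theta_comp (ψ s) q).symm.trans (by rw [h1]; simp [SiteDer.theta])
    have h3 := genSec_comp (⊤ : X.Opens) ((genSec (DCoh.HD E a) ⊤).symm (g s)) Q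
    rw [h2, Equiv.apply_symm_apply] at h3
    exact h3.symm.trans (genSecAdd (DCoh.HD E' a) ⊤).map_zero
  have hall : ∀ x : Γ(DCoh.HD E a, (⊤ : X.Opens)), Q.app ⊤ x = 0 := fun x => by
    have hx : x ∈ Submodule.span Γ(X, (⊤ : X.Opens)) (Set.range g) := by rw [hg]; trivial
    induction hx using Submodule.span_induction with
    | mem z hz => obtain ⟨s, rfl⟩ := hz; exact hgen s
    | zero => exact map_zero _
    | add z w _ _ hz hw => rw [map_add, hz, hw, add_zero]
    | smul r z _ hz => rw [Ample.app_smul, hz, smul_zero]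
  haveI : (DCoh.HD E' a).IsQuasicoherent := hE' a
  haveI := Scheme.Modules.isIso_fromTildeΓ_of_isQuasicoherent (R := R) (DCoh.HD E a)
  show Q = 0
  rw [← cancel_epi (Scheme.Modules.fromTildeΓ (R := R) (DCoh.HD E a)), comp_zero]
  refine ((Scheme.Modules.fromTildeΓNatTrans (R := R)).naturality Q).symm.trans ?_
  have h0 : (moduleSpecΓFunctor (R := R)).map Q = 0 := ModuleCat.hom_ext (LinearMap.ext fun x => hall x)
  change (tilde.functor R).map ((moduleSpecΓFunctor (R := R)).map Q) ≫ _ = 0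
  rw [h0, Functor.map_zero, zero_comp]

/-- The step: peel off the top cohomology sheaf. -/
theorem exists_good_cone (K : DCoh.D (ProjSpace n A)) (b a : ℤ) [K.IsGE b] [K.IsLE a]
    (hK : ∀ m : ℤ, DCoh.IsPseudoCoherentD m K) :
    ∃ (P C : DCoh.D (ProjSpace n A)) (α : P ⟶ K) (q : K ⟶ C) (d : C ⟶ P⟦(1 : ℤ)⟧) (b' : ℤ),
      Triangle.mk α q d ∈ distTriang _ ∧ Good n A a P ∧ C.IsGE b' ∧ C.IsLE (a - 1) ∧
      ∀ m : ℤ, DCoh.IsPseudoCoherentD m C := by
  haveI : IsProper (ProjSpace.toSpec n A) := Chow.isProper_toSpec n A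
  haveI : CompactSpace (ProjSpace n A) := QuasiCompact.compactSpace_of_compactSpace (ProjSpace.toSpec n A)
  haveI : (ProjSpace n A).IsSeparated := inferInstanceAs (Proj (polyGrading n A)).IsSeparated
  haveI : CompactSpace (Proj (polyGrading n A)) := inferInstanceAs (CompactSpace (ProjSpace n A))
  let c := Ample.ProjMap.pcoc n A
  have hKq := isQCohD_of_pc hK
  let j := fun l => (isAffineOpen_locus n A l).fromSpec
  have hjr : ∀ l, Set.range (j l) = SetLike.coe (c.locus (coordSect n A l)) := fun l =>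
    (isAffineOpen_locus n A l).range_fromSpec
  have hchart : ∀ l, ∃ (k : ℕ) (p : Fin k → ℕ) (χ : ∀ s, tw c a (p s) ⟶ K),
      ∀ (C : DCoh.D (ProjSpace n A)) (q : K ⟶ C), DCoh.IsQCohD C → (∀ s, χ s ≫ q = 0) →
        (DerivedCategory.homologyFunctor _ a).map ((resD (j l)).map q) = 0 := fun l => by
    obtain ⟨z⟩ := nonempty_nTwist_zero c
    let t := ((Scheme.Modules.restrictFunctor (j l)).mapDerivedCategorySingleFunctor a).app
        (NegTwist.nTwist c (Coh.structureModule (ProjSpace n A)) 0) ≪≫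
      (DerivedCategory.singleFunctor _ a).mapIso
        ((Scheme.Modules.restrictFunctor (j l)).mapIso z ≪≫ Scheme.Modules.restrictUnitIso (j l))
    have hFT : CohB1.IsFT (DCoh.HD ((resD (j l)).obj K) a) :=
      isFT_HD_top (OX.isPseudoCoherentD_resD (hK a) (j l)) fun i hi =>
        ((Scheme.Modules.restrictFunctor (j l)).map_isZero (DerivedCategory.isZero_of_isLE K a i hi)).of_iso
          (HDResIso (j l) K i)
    obtain ⟨k, φ, hφ⟩ := exists_maps_spanning (isQCohD_resD (j l) hKq) a hFT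
    choose p χ hχ using fun s => exists_extend c (coordSect n A l) (j l) (hjr l) hKq (t.hom ≫ φ s)
    refine ⟨k, p, χ, fun C q hC h => hφ _ _ (isQCohD_resD (j l) hC) fun s => ?_⟩
    haveI := isIso_resD_twMap c (coordSect n A l) (j l) (hjr l).le a (p s) (show 0 + p s = p s by omega)
    rw [← cancel_epi t.hom, comp_zero, ← cancel_epi ((resD (j l)).map
      (twMap c (coordSect n A l) a (p s) (show 0 + p s = p s by omega))), comp_zero, ← Category.assoc t.hom,
      ← Category.assoc ((resD (j l)).map _), hχ s, ← Functor.map_comp, h s, Functor.map_zero]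
  choose k p χ hspan using hchart
  let e := (Fintype.equivFin (Σ l, Fin (k l))).symm
  obtain ⟨P, α, hP, hα⟩ := exists_good_factor n A (fun s => p (e s).1 (e s).2) (fun s => χ (e s).1 (e s).2)
  obtain ⟨C, q, d, hT⟩ := distinguished_cocone_triangle α
  obtain ⟨aP, haP⟩ := exists_isGE_of_isPerfect hP.1
  haveI := hP.2.1
  have hCpc : ∀ m : ℤ, DCoh.IsPseudoCoherentD m C := fun m =>
    isPseudoCoherentD_cone hT (isPseudoCoherentD_of_isPerfect hP.1 _) (hK m)
  have hge : C.IsGE (min (aP - 1) b) := (DerivedCategory.isGE_iff _ _).2 fun i hi =>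
    ((DerivedCategory.homologyFunctor _ 0).homologySequence_exact₃ _ hT i (i + 1) rfl).isZero_of_both_zeros
      ((DerivedCategory.isZero_of_isGE K b i (by omega)).eq_of_src _ _)
      ((DerivedCategory.isZero_of_isGE P aP (i + 1) (by omega)).eq_of_tgt _ _)
  refine ⟨P, C, α, q, d, _, hT, hP, hge, (DerivedCategory.isLE_iff _ _).2 fun i hi => ?_, hCpc⟩
  rcases lt_or_eq_of_le (show a ≤ i by omega) with hlt | rfl
  · exact ((DerivedCategory.homologyFunctor _ 0).homologySequence_exact₃ _ hT i (i + 1) rfl).isZero_of_both_zeros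
      ((DerivedCategory.isZero_of_isLE K a i hlt).eq_of_src _ _)
      ((DerivedCategory.isZero_of_isLE P a (i + 1) (by omega)).eq_of_tgt _ _)
  have hloc : ∀ l, IsZero (DCoh.HD ((resD (j l)).obj C) a) := fun l => by
    have hz : (DerivedCategory.homologyFunctor _ a).map ((resD (j l)).map q) = 0 :=
      hspan l C q (isQCohD_of_pc hCpc) fun s => by
        obtain ⟨β, hβ⟩ := hα (e.symm ⟨l, s⟩)
        have : χ (e (e.symm ⟨l, s⟩)).1 (e (e.symm ⟨l, s⟩)).2 ≫ q = 0 := by
          rw [hβ, Category.assoc, show α ≫ q = 0 from comp_distTriang_mor_zero₁₂ _ hT, comp_zero]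
        rwa [Equiv.apply_symm_apply] at this
    exact ((DerivedCategory.homologyFunctor _ 0).homologySequence_exact₃ _
      ((resD (j l)).map_distinguished _ hT) a (a + 1) rfl).isZero_of_both_zeros hz
      ((((Scheme.Modules.restrictFunctor (j l)).map_isZero (DerivedCategory.isZero_of_isLE P a (a + 1) (by omega))).of_iso
        (HDResIso (j l) P (a + 1))).eq_of_tgt _ _)
  refine isZero_of_subsingleton_stalks _ fun x => ?_
  by_contra hx
  obtain ⟨l, hl⟩ := exists_mem_locus n A x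
  exact support_subset_of_isZero_HD_resD (j l) (hloc l) hx (by rw [hjr l]; exact hl)

/-- **Vanishing for large twists**, by descending induction on the excess. -/
theorem exists_van : ∀ (k : ℕ) (K : DCoh.D (ProjSpace n A)) (b a : ℤ), K.IsGE b → K.IsLE a →
    (∀ m : ℤ, DCoh.IsPseudoCoherentD m K) →
      ∃ N₀ : ℕ, ∀ N : ℕ, N₀ ≤ N → ∀ j : ℤ, a < j → a + n < j + k → Van n A j N K
  | 0, K, b, a, _, _, hK => ⟨0, fun N _ j _ hj => van_high n A K (isQCohD_of_pc hK) b a j (by simpa using hj) N⟩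
  | k + 1, K, b, a, hb, ha, hK => by
    obtain ⟨P, C, α, q, d, b', hT, hP, hCge, hCle, hC⟩ := exists_good_cone n A K b a hK
    obtain ⟨N₁, hN₁⟩ := exists_van k C b' (a - 1) hCge hCle hC
    obtain ⟨N₂, hN₂⟩ := hP.2.2
    refine ⟨max N₁ N₂, fun N hN j hj hjk φ => ?_⟩
    obtain ⟨ψ, hψ⟩ : ∃ ψ : _ ⟶ P, φ = ψ ≫ α := Triangle.coyoneda_exact₂ _ hT φ
      (hN₁ N (le_of_max_le_left hN) j (by omega) (by omega) _)
    rw [hψ, hN₂ N (le_of_max_le_right hN) j hj ψ, zero_comp]

theorem exists_forall_van (K : DCoh.D (ProjSpace n A)) (b a : ℤ) [K.IsGE b] [K.IsLE a]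
    (hK : ∀ m : ℤ, DCoh.IsPseudoCoherentD m K) :
    ∃ N₀ : ℕ, ∀ N : ℕ, N₀ ≤ N → ∀ j : ℤ, a < j → Van n A j N K := by
  obtain ⟨N₀, h⟩ := exists_van n A n K b a inferInstance inferInstance hK
  exact ⟨N₀, fun N hN j hj => h N hN j hj (by omega)⟩

end GrothLib.KSix19.ProjPush
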