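import Groth.Agent.Lib.TriCat.ThickGen

/-!
# Compact objects lie in the thick envelope of a small family of generators
-/

set_option autoImplicit false
set_option linter.style.haveILetI false
set_option backward.isDefEq.respectTransparency false

universe w v u

open CategoryTheory CategoryTheory.Limits CategoryTheory.Pretriangulated
open ZeroObject

namespace GrothLib.TriCat

attribute [local instance] Classical.decEq

variable {D : Type u} [Category.{v} D] [Preadditive D] [HasZeroObject D] [HasShift D ℤ]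
  [∀ n : ℤ, (shiftFunctor D n).Additive] [Pretriangulated D]

section Seq

variable [IsTriangulated D] [∀ J : Type w, HasColimitsOfShape (Discrete J) D] {P : D → Prop} {I : Type w} {G : I → D}

/-- Killing all maps from shifts of `G` at once. -/
theorem exists_kill_step_fam (hsum : ∀ (ι : Type w) (X : ι → D), (∀ i, P (X i)) → P (∐ X))
    (hcone : ∀ T ∈ distTriang D, P T.obj₁ → P T.obj₂ → P T.obj₃) (hG : ∀ (i : I) (m : ℤ), P ((G i)⟦m⟧))
    {Q : D → Prop} (hQ : Thick Q) (hQG : ∀ i, Q (G i)) (M : D) (hM : P M)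
    [∀ (i : I) (m : ℤ), Small.{w} ((G i)⟦m⟧ ⟶ M)] :
    ∃ (M' : D) (t : M ⟶ M'), P M' ∧ (∀ (i : I) (m : ℤ) (f : (G i)⟦m⟧ ⟶ M), f ≫ t = 0) ∧
      ∀ (A : D), FinHomOn.{w} P A → ∀ a : A ⟶ M, a ≫ t = 0 → ∃ (A' : D) (s : A' ⟶ A), ConeIn Q s ∧ s ≫ a = 0 := by
  let σ : Type w := Σ i : I, Σ m : ULift.{w} ℤ, Shrink.{w} ((G i)⟦m.down⟧ ⟶ M)
  let X : σ → D := fun k => (G k.1)⟦k.2.1.down⟧
  let y : (∐ X) ⟶ M := Sigma.desc fun k => (equivShrink _).symm k.2.2
  obtain ⟨M', t, d, hT⟩ := distinguished_cocone_triangle y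
  refine ⟨M', t, hcone _ hT (hsum _ X fun k => hG _ _) hM, fun i m f => ?_, fun A hA a ha => ?_⟩
  · have h : Sigma.ι X ⟨i, ⟨m⟩, equivShrink _ f⟩ ≫ y = f := by simp [y, X]
    rw [← h, Category.assoc, show y ≫ t = 0 from comp_distTriang_mor_zero₁₂ _ hT, comp_zero]
  · obtain ⟨b, hb⟩ : ∃ b : A ⟶ ∐ X, a = b ≫ y := Triangle.coyoneda_exact₂ _ hT a ha
    obtain ⟨c, hc⟩ := hA.finHom X (fun k => hG _ _) b
    obtain ⟨A', s, hs, e⟩ := exists_coneIn_kill hQ (fun k => hQ.shift _ (hQG _)) c (𝟙 A)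
    refine ⟨A', s, hs, ?_⟩
    rw [Category.id_comp, hc] at e
    rw [hb, ← Category.assoc, e, zero_comp]

/-- **Compact objects are in the thick envelope of a generator.** -/
theorem mem_thick_of_generators (hsum : ∀ (ι : Type w) (X : ι → D), (∀ i, P (X i)) → P (∐ X))
    (hcone : ∀ T ∈ distTriang D, P T.obj₁ → P T.obj₂ → P T.obj₃) (hG : ∀ (i : I) (m : ℤ), P ((G i)⟦m⟧))
    (hsm : ∀ (i : I) (m : ℤ) (M : D), Small.{w} ((G i)⟦m⟧ ⟶ M)) (hfinG : ∀ i, FinHomOn.{w} P (G i))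
    (hgen : ∀ M : D, P M → (∀ (i : I) (n : ℤ) (φ : (G i)⟦n⟧ ⟶ M), φ = 0) → IsZero M)
    {C : D} (hC : P C) (hfinC : FinHomOn.{w} P C) {Q₀ : D → Prop} (hQ₀ : Thick Q₀) (hQG₀ : ∀ i, Q₀ (G i)) : Q₀ C := by
  letI : DecidableEq (ULift.{w} ℕ) := Classical.decEq _
  let Q : D → Prop := fun A => Q₀ A ∧ FinHomOn.{w} P A
  have hQ : Thick Q := hQ₀.and (thick_finHomOn P)
  choose M' t hM' hkill hlift using fun M : {M : D // P M} =>
    exists_kill_step_fam hsum hcone hG hQ (fun i => ⟨hQG₀ i, hfinG i⟩) M.1 M.2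
  let K : ℕ → {M : D // P M} := fun n => Nat.rec ⟨C, hC⟩ (fun _ M => ⟨M' M, hM' M⟩) n
  let F : ℕ ⥤ D := Functor.ofSequence (X := fun n => (K n).1) (fun n => t (K n))
  let Y : ULift.{w} ℕ → D := fun n => F.obj n.down
  have hY : ∀ n, P (Y n) := fun n => (K n.down).2
  have hstep : ∀ n, seqT F n (n + 1) = t (K n) := fun n => by
    rw [seqT_of_le F (Nat.le_succ n)]
    exact Functor.ofSequence_map_homOfLE_succ _ n
  let shift1 : (∐ Y) ⟶ ∐ Y := Sigma.desc fun n => seqT F n.down (n.down + 1) ≫ Sigma.ι Y ⟨n.down + 1⟩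
  obtain ⟨L, q, δ, hT⟩ := distinguished_cocone_triangle (𝟙 _ - shift1)
  have hL : P L := hcone _ hT (hsum _ Y hY) (hsum _ Y hY)
  -- the components of `1 - shift`
  have hτ : ∀ n : ℕ, (𝟙 _ - shift1) ≫ Sigma.desc (fun k : ULift.{w} ℕ => seqT F k.down n) = Sigma.π Y ⟨n⟩ := fun n => by
    refine Sigma.hom_ext _ _ fun k => ?_
    rw [Preadditive.sub_comp, Category.id_comp, Preadditive.comp_sub, Sigma.ι_desc, Sigma.ι_desc_assoc,
      Category.assoc, Sigma.ι_desc]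
    rcases lt_trichotomy k.down n with h | h | h
    · rw [seqT_comp F (Nat.le_succ _) h, sub_self, Sigma.ι_π_of_ne Y (fun e => h.ne (congrArg ULift.down e))]
    · obtain ⟨j⟩ := k
      obtain rfl : j = n := h
      rw [Sigma.ι_π_eq_id, seqT_self]
      simp [seqT]
      rfl
    · rw [Sigma.ι_π_of_ne Y (fun e => h.ne' (congrArg ULift.down e))]
      simp [seqT, show ¬ k.down ≤ n by omega, show ¬ k.down + 1 ≤ n by omega]
  have hπ : ∀ {A : D}, FinHomOn.{w} P A → ∀ b : A ⟶ ∐ Y,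
      (∃ s : Finset (ULift.{w} ℕ), ∀ n ∉ s, b ≫ Sigma.π Y n = 0) ∧ ((∀ n, b ≫ Sigma.π Y n = 0) → b = 0) := by
    intro A hA b
    obtain ⟨d, rfl⟩ := hA.finHom Y hY b
    refine ⟨⟨d.support, fun n hn => by rw [homSum_π]; exact DFinsupp.notMem_support_iff.1 hn⟩, fun h => ?_⟩
    rw [show d = 0 from DFinsupp.ext fun n => (homSum_π Y A d n).symm.trans (h n), map_zero]
  -- `L` has no maps from shifts of `G`
  have hGL : ∀ (i : I) (m : ℤ) (φ : (G i)⟦m⟧ ⟶ L), φ = 0 := by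
    intro i m φ
    have hψ : φ ≫ δ = 0 := by
      let e := (shiftFunctorAdd' D (m - 1) 1 m (by omega)).app (G i)
      have : (shiftFunctor D (1 : ℤ)).Full := inferInstance
      let b : (G i)⟦m - 1⟧ ⟶ ∐ Y := (shiftFunctor D (1 : ℤ)).preimage (e.inv ≫ φ ≫ δ)
      have hb : b⟦(1 : ℤ)⟧' = e.inv ≫ φ ≫ δ := (shiftFunctor D (1 : ℤ)).map_preimage _
      have hb0 : b ≫ (𝟙 _ - shift1) = 0 := (shiftFunctor D (1 : ℤ)).map_injective (by
        rw [Functor.map_comp, hb, Functor.map_zero, Category.assoc, Category.assoc,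
          show δ ≫ (𝟙 _ - shift1)⟦(1 : ℤ)⟧' = 0 from comp_distTriang_mor_zero₃₁ _ hT, comp_zero, comp_zero])
      have : b = 0 := (hπ ((thick_finHomOn P).shift _ (hfinG i)) b).2 fun n => by
        rw [show Sigma.π Y n = _ from (hτ n.down).symm, ← Category.assoc, hb0, zero_comp]
      rw [this, Functor.map_zero] at hb
      rw [← cancel_epi e.inv, comp_zero]
      exact hb.symm
    obtain ⟨ψ, rfl⟩ : ∃ ψ : (G i)⟦m⟧ ⟶ ∐ Y, φ = ψ ≫ q := Triangle.coyoneda_exact₃ _ hT φ hψ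
    obtain ⟨d, rfl⟩ := ((thick_finHomOn P).shift m (hfinG i)).finHom Y hY ψ
    clear hψ
    induction d using DirectSum.induction_on with
    | zero => rw [map_zero, zero_comp]
    | add a b ha hb =>
      rw [map_add, Preadditive.add_comp, ha, hb, add_zero]
    | of n x =>
      have h0 : (𝟙 _ - shift1) ≫ q = 0 := comp_distTriang_mor_zero₁₂ _ hT
      have h1 : Sigma.ι Y n ≫ q = (seqT F n.down (n.down + 1) ≫ Sigma.ι Y ⟨n.down + 1⟩) ≫ q := by
        have := congrArg (Sigma.ι Y n ≫ ·) h0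
        simp only [comp_zero, Preadditive.sub_comp, Preadditive.comp_sub, Category.id_comp, sub_eq_zero] at this
        rw [this, Sigma.ι_desc_assoc]
      rw [homSum_of, Category.assoc, h1, ← Category.assoc, ← Category.assoc]
      have hk : x ≫ seqT F n.down (n.down + 1) = 0 := by rw [hstep]; exact hkill (K n.down) i m x
      rw [hk, zero_comp, zero_comp]
  have hLz : IsZero L := hgen L hL hGL
  -- the identity of `C` dies at a finite stage
  have : IsIso (𝟙 (∐ Y) - shift1) := (Triangle.isZero₃_iff_isIso₁ _ hT).1 hLz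
  let b : C ⟶ ∐ Y := Sigma.ι Y ⟨0⟩ ≫ inv (𝟙 (∐ Y) - shift1)
  obtain ⟨s, hs⟩ := (hπ hfinC b).1
  obtain ⟨n, hn⟩ : ∃ n : ℕ, (⟨n⟩ : ULift.{w} ℕ) ∉ s :=
    ⟨(s.sup ULift.down) + 1, fun h => Nat.not_succ_le_self _ (Finset.le_sup (f := ULift.down) h)⟩
  have hdie : seqT F 0 n = 0 := by
    have := hs _ hn
    rw [← hτ n, ← Category.assoc, show b ≫ (𝟙 _ - shift1) = Sigma.ι Y ⟨0⟩ from
        (Category.assoc _ _ _).trans ((congrArg _ (IsIso.inv_hom_id _)).trans (Category.comp_id _))] at this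
    exact (Sigma.ι_desc (f := Y) (fun k : ULift.{w} ℕ => seqT F k.down n) ⟨0⟩).symm.trans this
  have key : ∀ (j k : ℕ), k + j = n → ∀ (A : D), FinHomOn.{w} P A → ∀ a : A ⟶ F.obj k, a ≫ seqT F k n = 0 →
      ∃ (A' : D) (s : A' ⟶ A), ConeIn Q s ∧ s ≫ a = 0 := by
    intro j
    induction j with
    | zero =>
      intro k hk A _ a ha
      obtain rfl : k = n := by omega
      rw [seqT_self, Category.comp_id] at ha
      exact ⟨A, 𝟙 A, ConeIn.id hQ A, by rw [ha, comp_zero]⟩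
    | succ j ih =>
      intro k hk A hA a ha
      rw [← seqT_comp F (Nat.le_succ k) (by omega : k + 1 ≤ n), hstep] at ha
      replace ha : (a ≫ t (K k)) ≫ seqT F (k + 1) n = 0 := (Category.assoc _ _ _).trans ha
      obtain ⟨A₁, s₁, hs₁, e₁⟩ := ih (k + 1) (by omega) A hA _ ha
      obtain ⟨Z, p, d, hZT, hZ⟩ := hs₁
      have hA₁ : FinHomOn.{w} P A₁ := (thick_finHomOn P).ext₁ _ hZT hA hZ.2
      obtain ⟨c, hc⟩ : ∃ c : A₁ ⟶ _, c = s₁ ≫ a := ⟨_, rfl⟩
      obtain ⟨A₂, s₂, hs₂, e₂⟩ := hlift (K k) A₁ hA₁ c (by rw [hc]; exact (Category.assoc _ _ _).trans e₁)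
      exact ⟨A₂, s₂ ≫ s₁, hs₂.comp hQ ⟨Z, p, d, hZT, hZ⟩, by rw [Category.assoc, ← hc]; exact e₂⟩
  obtain ⟨A', s', ⟨Z, p, d, hZT, hZ⟩, e⟩ := key n 0 (by omega) C hfinC (𝟙 (F.obj 0)) ((Category.id_comp _).trans hdie)
  replace e : s' = 0 := (Category.comp_id _).symm.trans e
  obtain ⟨r, hr⟩ : ∃ r : Z ⟶ C, 𝟙 C = p ≫ r := Triangle.yoneda_exact₂ _ hZT (𝟙 C) (by
    change s' ≫ 𝟙 C = 0
    rw [Category.comp_id]
    exact e)
  exact hQ₀.retract p r hr.symm hZ.1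

end Seq

end GrothLib.TriCat
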