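import Groth.Agent.Lib.KSix19.ProjPush.Torsion
import Groth.Agent.Lib.KSix19.RpushAmp.Main
import Groth.Agent.Lib.ProjCohom.Corollaries
import Groth.Agent.Lib.BCCoh.FlatBC
import Groth.Agent.Lib.OX.TildePerfect
import Groth.Agent.Lib.GrTilde.NegTwist
import Groth.Agent.Lib.Ample.ProjSections
import Groth.Agent.Lib.Chow.Prod
import Groth.Agent.Lib.RelVanish.Basic

/-!
# The direct image of a negative twist on projective space over a ring is perfect
-/

set_option autoImplicit false
set_option backward.isDefEq.respectTransparency false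
set_option linter.style.haveILetI false
set_option maxHeartbeats 1000000
universe u

open CategoryTheory CategoryTheory.Limits AlgebraicGeometry TopologicalSpace Opposite
open scoped TensorProduct
attribute [local instance] HasDerivedCategory.standard

noncomputable section

namespace GrothLib.KSix19.ProjPush

open CohB1 OX

variable (n : ℕ) (A : Type u) [CommRing A]

theorem isFinLocFree_congr {Y : Scheme.{u}} {M N : Y.Modules} (e : M ≅ N) (h : FlatMod.IsFinLocFree M) :
    FlatMod.IsFinLocFree N := fun x =>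
  have ⟨U, r, hx, ⟨i⟩⟩ := h x
  ⟨U, r, hx, ⟨((Scheme.Modules.restrictFunctor U.ι).mapIso e).symm ≪≫ i⟩⟩

/-- Finite freeness of the cohomology of a negative twist. -/
theorem free_HH_twist (p q : ℕ) :
    Module.Finite A (Coh.HH (ProjSpace n A) (Twist.twistProjSpace n A (-(p : ℤ))) q) ∧
      Module.Projective A (Coh.HH (ProjSpace n A) (Twist.twistProjSpace n A (-(p : ℤ))) q) := by
  haveI : ∀ k : ℕ, Finite {P : Fin (n + 1) → ℕ // ∑ i, P i = k} := fun k =>
    Finite.of_equiv _ (Sym.equivNatSumOfFintype (Fin (n + 1)) k)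
  have hM : ∀ k : ℕ, Module.Finite A (MvPolynomial.homogeneousSubmodule (Fin (n + 1)) A k) ∧
      Module.Projective A (MvPolynomial.homogeneousSubmodule (Fin (n + 1)) A k) := fun k =>
    ⟨Module.Finite.equiv (ProjCohom.formsEquiv (n := n) (R := A) k).symm,
      Module.Projective.of_equiv (ProjCohom.formsEquiv (n := n) (R := A) k).symm⟩
  by_cases h0 : q = 0 ∧ p = 0
  · obtain ⟨rfl, rfl⟩ := h0
    obtain ⟨e⟩ := ProjCohom.nonempty_HH_zero (n := n) (R := A) 0
    haveI := (hM 0).1
    haveI := (hM 0).2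
    exact ⟨Module.Finite.equiv e.symm, Module.Projective.of_equiv e.symm⟩
  by_cases ht : q = n ∧ n + 1 ≤ p
  · obtain ⟨hq, hp⟩ := ht
    rw [hq]
    obtain ⟨k, rfl⟩ := Nat.exists_eq_add_of_le hp
    obtain ⟨e⟩ := ProjCohom.nonempty_HH_top (n := n) (R := A) k
    rw [show (-((n + 1 + k : ℕ) : ℤ)) = -((n : ℤ) + 1 + k) by push_cast; ring]
    haveI := (hM k).1
    haveI := (hM k).2
    exact ⟨Module.Finite.equiv e.symm, Module.Projective.of_equiv e.symm⟩
  haveI := ProjCohom.subsingleton_HH (n := n) (R := A) (d := -(p : ℤ)) (q := q)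
    (fun h => h0 ⟨h.1, by omega⟩) (fun h => ht ⟨h.1, by omega⟩)
  exact ⟨inferInstance, inferInstance⟩

theorem exists_affBase_square {P : Scheme.{u}} (π : P ⟶ Spec (CommRingCat.of A)) :
    IsPullback (π ⁻¹ᵁ (⊤ : (Spec (CommRingCat.of A)).Opens)).ι (BCCoh.affBase π (isAffineOpen_top _)) π
      (Spec.map (CommRingCat.ofHom (Scheme.ΓSpecIso (CommRingCat.of A)).inv.hom)) := by
  let S : Scheme.{u} := Spec (CommRingCat.of A)
  let hV : IsAffineOpen (⊤ : S.Opens) := isAffineOpen_top S
  haveI : IsIso (π ⁻¹ᵁ (⊤ : S.Opens)).ι := inferInstanceAs (IsIso P.topIso.hom)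
  haveI : IsIso (Spec.map (CommRingCat.ofHom (Scheme.ΓSpecIso (CommRingCat.of A)).inv.hom)) :=
    inferInstanceAs (IsIso (Spec.map (Scheme.ΓSpecIso (CommRingCat.of A)).inv))
  refine IsPullback.of_horiz_isIso ⟨?_⟩
  have h : hV.isoSpec.hom ≫ Spec.map (CommRingCat.ofHom (Scheme.ΓSpecIso (CommRingCat.of A)).inv.hom) = (⊤ : S.Opens).ι := by
    rw [show Spec.map (CommRingCat.ofHom (Scheme.ΓSpecIso (CommRingCat.of A)).inv.hom) = hV.fromSpec from
      (Scheme.isoSpec_Spec_inv (CommRingCat.of A)).symm.trans IsAffineOpen.fromSpec_top.symm]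
    exact hV.isoSpec_hom_fromSpec
  rw [BCCoh.affBase, Category.assoc, h, morphismRestrict_ι]

/-- Sections of a higher direct image on an affine base, over the base ring. -/
theorem moduleSpecΓ_Rpush {P : Scheme.{u}} (π : P ⟶ Spec (CommRingCat.of A)) [IsProper π] [CompactSpace P]
    [P.IsSeparated] [HasInjectiveResolutions P.Modules] (M : P.Modules) [M.IsQuasicoherent] (q : ℕ)
    (hfin : letI := BCCoh.modHH π M q; Module.Finite A (Coh.HH P M q))
    (hproj : letI := BCCoh.modHH π M q; Module.Projective A (Coh.HH P M q)) :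
    Module.Finite A ((moduleSpecΓFunctor (R := CommRingCat.of A)).obj ((Coh.Rpush π q).obj M) : ModuleCat.{u} A) ∧
      Module.Projective A ((moduleSpecΓFunctor (R := CommRingCat.of A)).obj ((Coh.Rpush π q).obj M) : ModuleCat.{u} A) := by
  let S : Scheme.{u} := Spec (CommRingCat.of A)
  let hV : IsAffineOpen (⊤ : S.Opens) := isAffineOpen_top S
  let φ : A →+* Γ(S, ⊤) := (Scheme.ΓSpecIso (CommRingCat.of A)).inv.hom
  have hbij : Function.Bijective φ := ConcreteCategory.bijective_of_isIso (Scheme.ΓSpecIso (CommRingCat.of A)).inv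
  have hφ : φ.Flat := RingHom.Flat.of_bijective hbij
  let j := (π ⁻¹ᵁ (⊤ : S.Opens)).ι
  letI := φ.toAlgebra
  obtain ⟨eb⟩ := BCCoh.exists_flatBC φ hφ π (BCCoh.affBase π hV) j (exists_affBase_square A π) M q
  obtain ⟨er, her⟩ := BCCoh.exists_Rpush_equiv π hV M q
  let N : (Spec (CommRingCat.of A)).Modules := (Coh.Rpush π q).obj M
  haveI : N.IsQuasicoherent := Cohom.isQuasicoherent_Rpush π M q
  letI : Module A (Coh.HH (P) M q) := BCCoh.modHH π M q
  haveI : Module.Finite A (Coh.HH (P) M q) := hfin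
  haveI : Module.Projective A (Coh.HH (P) M q) := hproj
  letI := BCCoh.modHH (A := Γ(S, (⊤ : S.Opens))) (BCCoh.affBase π hV) (M.restrict j) q
  letI := BCCoh.modHH (A := Γ(S, (⊤ : S.Opens))) (BCCoh.affBase π hV) ((Scheme.Modules.pullback j).obj M) q
  letI : ((π ⁻¹ᵁ (⊤ : S.Opens) : P.Opens) : Scheme.{u}).Over (Spec (CommRingCat.of Γ(S, (⊤ : S.Opens)))) := ⟨BCCoh.affBase π hV⟩
  obtain ⟨eη, -⟩ := FormalFn.exists_hh_equiv (A := Γ(S, (⊤ : S.Opens))) ((Scheme.Modules.restrictFunctorIsoPullback j).app M).symm q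
  let E : Γ(S, (⊤ : S.Opens)) ⊗[A] Coh.HH (P) M q ≃ₗ[Γ(S, (⊤ : S.Opens))] Γ(N, (⊤ : S.Opens)) :=
    (eb.trans eη).trans (er.toLinearEquiv her)
  let Q : ModuleCat.{u} (CommRingCat.of A) := (moduleSpecΓFunctor (R := CommRingCat.of A)).obj N
  let L : Coh.HH (P) M q →ₗ[A] Q :=
    { toFun := fun x => E (1 ⊗ₜ x)
      map_add' := fun x y => (congrArg E (TensorProduct.tmul_add _ _ _)).trans (map_add E _ _)
      map_smul' := fun r x => by
        show E (1 ⊗ₜ (r • x)) = φ r • E (1 ⊗ₜ x)
        rw [TensorProduct.tmul_smul, ← E.map_smul]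
        exact congrArg E (algebraMap_smul Γ(S, (⊤ : S.Opens)) r _).symm }
  have hL : Function.Bijective L := E.bijective.comp
    (show Function.Bijective (fun x : Coh.HH (P) M q => (1 : Γ(S, (⊤ : S.Opens))) ⊗ₜ[A] x) from by
      let a : A ≃ₗ[A] Γ(S, (⊤ : S.Opens)) := LinearEquiv.ofBijective (Algebra.linearMap A _) hbij
      have := ((TensorProduct.lid A (Coh.HH (P) M q)).symm.trans (TensorProduct.congr a (LinearEquiv.refl A (Coh.HH (P) M q)))).bijective
      convert this using 1
      funext x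
      show _ = (algebraMap A Γ(S, (⊤ : S.Opens)) 1) ⊗ₜ[A] x
      rw [map_one])
  haveI : Module.Finite A Q := Module.Finite.equiv (LinearEquiv.ofBijective L hL)
  haveI : Module.Projective A Q := Module.Projective.of_equiv (LinearEquiv.ofBijective L hL)
  exact ⟨‹_›, ‹_›⟩

theorem isFinLocFree_Rpush_of_free {P : Scheme.{u}} (π : P ⟶ Spec (CommRingCat.of A)) [IsProper π] [CompactSpace P]
    [P.IsSeparated] [HasInjectiveResolutions P.Modules] (M : P.Modules) [M.IsQuasicoherent] (q : ℕ)
    (hfin : letI := BCCoh.modHH π M q; Module.Finite A (Coh.HH P M q))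
    (hproj : letI := BCCoh.modHH π M q; Module.Projective A (Coh.HH P M q)) :
    FlatMod.IsFinLocFree ((Coh.Rpush π q).obj M) := by
  let N : (Spec (CommRingCat.of A)).Modules := (Coh.Rpush π q).obj M
  haveI : N.IsQuasicoherent := Cohom.isQuasicoherent_Rpush π M q
  haveI := Scheme.Modules.isIso_fromTildeΓ_of_isQuasicoherent (R := CommRingCat.of A) N
  obtain ⟨h1, h2⟩ := moduleSpecΓ_Rpush A π M q hfin hproj
  exact isFinLocFree_congr (asIso (Scheme.Modules.fromTildeΓ (R := CommRingCat.of A) N))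
    (@isFinLocFree_tilde (CommRingCat.of A) ((moduleSpecΓFunctor (R := CommRingCat.of A)).obj N) h1 h2)

theorem isFinLocFree_Rpush_twist [HasInjectiveResolutions (ProjSpace n A).Modules] (p q : ℕ) :
    FlatMod.IsFinLocFree ((Coh.Rpush (ProjSpace.toSpec n A) q).obj (Twist.twistProjSpace n A (-(p : ℤ)))) := by
  haveI : IsProper (ProjSpace.toSpec n A) := Chow.isProper_toSpec n A
  haveI : CompactSpace (ProjSpace n A) := QuasiCompact.compactSpace_of_compactSpace (ProjSpace.toSpec n A)
  haveI : (ProjSpace n A).IsSeparated := inferInstanceAs (Proj (polyGrading n A)).IsSeparated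
  haveI : (Twist.twistProjSpace n A (-(p : ℤ))).IsQuasicoherent := GrTilde.isQuasicoherent_twist _ _
  exact isFinLocFree_Rpush_of_free A (ProjSpace.toSpec n A) _ q (free_HH_twist n A p q).1 (free_HH_twist n A p q).2

theorem isPerfect_Rres_single {X Y : Scheme.{u}} (f : X ⟶ Y) (M : X.Modules)
    (h0 : DCoh.IsPerfect ((SiteDer.Rres (rmor f)).obj (DCoh.inD X M))) (m : ℤ) :
    DCoh.IsPerfect ((SiteDer.Rres (rmor f)).obj ((DerivedCategory.singleFunctor X.Modules m).obj M)) := by
  haveI := RpushSupp20.hasInjectiveResolutions X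
  haveI : (SiteDer.Rres (rmor f)).IsTriangulated := SiteDer.isTriangulated_res_map (rmor f).push
  let j : (DCoh.inD X M)⟦-m⟧ ≅ (DerivedCategory.singleFunctor X.Modules m).obj M :=
    ((SingleFunctors.shiftIso (DerivedCategory.singleFunctors X.Modules) (-m) m 0 (by omega))).app M
  let k : ((SiteDer.Rres (rmor f)).obj (DCoh.inD X M))⟦-m⟧ ≅
      (SiteDer.Rres (rmor f)).obj ((DerivedCategory.singleFunctor X.Modules m).obj M) :=
    (((SiteDer.Rres (rmor f)).commShiftIso (-m)).app (DCoh.inD X M)).symm ≪≫ (SiteDer.Rres (rmor f)).mapIso j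
  exact isPerfect_of_iso (isPerfect_shift h0 (-m)) k

/-- **The direct image of a negative twist is perfect.** -/
theorem isPerfect_Rpush_twist (m : ℤ) (p : ℕ) :
    DCoh.IsPerfect ((SiteDer.Rres (rmor (ProjSpace.toSpec n A))).obj
      ((DerivedCategory.singleFunctor (ProjSpace n A).Modules m).obj (Twist.twistProjSpace n A (-(p : ℤ))))) := by
  let π := ProjSpace.toSpec n A
  haveI := RpushSupp20.hasInjectiveResolutions (ProjSpace n A)
  haveI : (SiteDer.Rres (rmor π)).IsTriangulated := SiteDer.isTriangulated_res_map (rmor π).push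
  let M := Twist.twistProjSpace n A (-(p : ℤ))
  suffices h0 : DCoh.IsPerfect ((SiteDer.Rres (rmor π)).obj (DCoh.inD (ProjSpace n A) M)) by
    exact isPerfect_Rres_single π M h0 m
  let E := (SiteDer.Rres (rmor π)).obj (DCoh.inD (ProjSpace n A) M)
  let i₀ : ℕ := if p = 0 then 0 else n
  have hzero : ∀ i : ℤ, i ≠ (i₀ : ℤ) → IsZero (DCoh.HD E i) := fun i hi => by
    by_cases hneg : i < 0
    · have hM0 : ((DerivedCategory.singleFunctor (ProjSpace n A).Modules 0).obj M).IsGE 0 := inferInstance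
      haveI : E.IsGE 0 := by
        exact @SiteDer.isGE_Rres _ _ _ _ _ _ _ _ (rmor π) ((DerivedCategory.singleFunctor (ProjSpace n A).Modules 0).obj M) 0 hM0
      exact DerivedCategory.isZero_of_isGE E 0 i hneg
    obtain ⟨q, rfl⟩ := Int.eq_ofNat_of_zero_le (not_lt.1 hneg)
    refine IsZero.of_iso ?_ (SiteDer.nonempty_homology_Rres_single (rmor π) M q).some
    haveI : IsProper π := Chow.isProper_toSpec n A
    haveI : M.IsQuasicoherent := GrTilde.isQuasicoherent_twist _ _
    have hsub : Subsingleton (Coh.HH (ProjSpace n A) M q) :=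
      ProjCohom.subsingleton_HH (n := n) (R := A) (d := -(p : ℤ)) (q := q)
        (fun h => hi (by have : p = 0 := by omega
                         simp [i₀, this, h.1]))
        (fun h => hi (by have : p ≠ 0 := by omega
                         simp [i₀, this, h.1]))
    refine RelVanish.isZero_Rpush_of_cover π M q (fun _ : Unit => ⊤) (fun _ => isAffineOpen_top _)
      (fun _ => ⟨(), trivial⟩) fun _ => ?_
    exact (Cohom.HEquivTop (Coh.toAb M) q).symm.toEquiv.subsingleton
  haveI : E.IsGE (i₀ : ℤ) := (DerivedCategory.isGE_iff _ _).2 fun i hi => hzero i hi.ne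
  haveI : E.IsLE (i₀ : ℤ) := (DerivedCategory.isLE_iff _ _).2 fun i hi => hzero i hi.ne'
  obtain ⟨e⟩ := DerTrunc.nonempty_iso_single E (i₀ : ℤ)
  have hflf : FlatMod.IsFinLocFree (DCoh.HD E (i₀ : ℤ)) :=
    isFinLocFree_congr (SiteDer.nonempty_homology_Rres_single (rmor π) M i₀).some.symm (isFinLocFree_Rpush_twist n A p i₀)
  refine isPerfect_of_iso ?_ e.symm
  exact isPerfect_of_iso (isPerfect_shift (isPerfect_of_iso (isPerfect_single_of_finLocFree hflf)
      ((DerivedCategory.singleFunctorIsoCompQ _ 0).app _).symm) (-(i₀ : ℤ)))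
    (((SingleFunctors.shiftIso (DerivedCategory.singleFunctors _) (-(i₀ : ℤ)) (i₀ : ℤ) 0 (by omega))).app _)

end GrothLib.KSix19.ProjPush
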