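import Groth.Agent.Lib.KSix19.ProjPush.Detect
import Groth.Agent.Lib.KSix19.ProjPush.ThickFam
import Groth.Agent.Lib.KSix19.ProjPush.TwistPush
import Groth.Agent.Lib.OX.GeneratorBound
import Groth.Agent.Lib.OX.PerfectCriterion
import Groth.Agent.Lib.OX.BVdB
import Groth.Agent.Lib.GrTilde.Amp
import Groth.Agent.Lib.GrTilde.NegTwist

/-!
# The direct image of a perfect object on projective space over a ring is perfect
-/

set_option autoImplicit false
set_option backward.isDefEq.respectTransparency false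
set_option linter.style.haveILetI false
set_option maxHeartbeats 1000000
universe u

open CategoryTheory CategoryTheory.Limits AlgebraicGeometry TopologicalSpace Opposite Pretriangulated
attribute [local instance] HasDerivedCategory.standard

noncomputable section

namespace GrothLib.KSix19.ProjPush

open CohB1 OX
open GrothLib.Ample (Cocycle)

variable {X : Scheme.{u}}

theorem isPerfect_retract {A C : DCoh.D X} (i : C ⟶ A) (p : A ⟶ C) (h : i ≫ p = 𝟙 C) (hA : DCoh.IsPerfect A) :
    DCoh.IsPerfect C := by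
  obtain ⟨Z, q, d, hT⟩ := distinguished_cocone_triangle i
  haveI : Mono i := (SplitMono.mk (f := i) p h).mono
  have h0 : d = 0 := (Triangle.mor₃_eq_zero_iff_mono₁ _ hT).2 (show Mono i from inferInstance)
  obtain ⟨e, -, -⟩ := exists_iso_binaryBiproduct_of_distTriang _ hT h0
  exact isPerfect_summand (isPerfect_of_iso hA e)

/-- Perfect objects form a thick subcategory. -/
theorem thick_isPerfect : TriCat.Thick (fun K : DCoh.D X => DCoh.IsPerfect K) where
  zero h := isPerfect_of_isZero_obj h
  shift n h := isPerfect_shift h n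
  total i₁ p₁ i₂ p₂ h hA hB := by
    refine isPerfect_retract (biprod.lift p₁ p₂) (biprod.desc i₁ i₂) ?_ (isPerfect_biprod hA hB)
    rw [biprod.lift_desc, h]
  cone T hT h₁ h₂ := isPerfect_cone hT h₁ h₂

variable (n : ℕ) (A : Type u) [CommRing A]

/-- The coordinates, as sections of the cocycle of `O(1)`. -/
def coordSect (l : Fin (n + 1)) : (Ample.ProjMap.pcoc n A).sect 1 ⊤ :=
  (Ample.ProjMap.pcocIso n A).hom.app ⊤ (ProjUP.coord n A l)

theorem locus_coordSect (l : Fin (n + 1)) :
    (Ample.ProjMap.pcoc n A).locus (coordSect n A l) = Proj.basicOpen (polyGrading n A) (MvPolynomial.X l) :=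
  GrTilde.locus_eq_basicOpen (𝒜 := polyGrading n A) (N := 1) (fun x => by
      obtain ⟨i, hi⟩ := Opens.mem_iSup.mp ((Ample.ProjMap.iSup_basicOpen_X n A).ge (Opens.mem_top x))
      exact ⟨_, Ample.ProjMap.X_mem i, hi⟩)
    (Ample.ProjMap.pcoc n A) (Ample.ProjMap.pcocIso n A) (Ample.ProjMap.X_mem l)

theorem exists_mem_locus (x : ProjSpace n A) : ∃ l, x ∈ (Ample.ProjMap.pcoc n A).locus (coordSect n A l) := by
  obtain ⟨i, hi⟩ := Opens.mem_iSup.mp ((Ample.ProjMap.iSup_basicOpen_X n A).ge (Opens.mem_top x))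
  exact ⟨i, (locus_coordSect n A i).ge hi⟩

theorem isAffineOpen_locus (l : Fin (n + 1)) :
    IsAffineOpen ((Ample.ProjMap.pcoc n A).locus (coordSect n A l)) := by
  rw [locus_coordSect]
  exact Proj.isAffineOpen_basicOpen _ _ (MvPolynomial.isHomogeneous_X _ l) one_pos

theorem nonempty_nTwist_iso (p : ℕ) :
    Nonempty (NegTwist.nTwist (Ample.ProjMap.pcoc n A) (Coh.structureModule (ProjSpace n A)) p ≅
      Twist.twistProjSpace n A (-(p : ℤ))) := by
  obtain ⟨q⟩ := (NegTwist.inv (Ample.ProjMap.pcoc n A)).nonempty_tensor_modTwist (Coh.structureModule (ProjSpace n A)) p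
  obtain ⟨e⟩ := GrTilde.nonempty_inv_twist_iso (polyGrading n A)
    (fun i : ULift.{u} (Fin (n + 1)) => MvPolynomial.X i.down) (fun i => Ample.ProjMap.X_mem i.down)
    (eq_top_iff.mpr fun x _ => by
      obtain ⟨i, hi⟩ := Opens.mem_iSup.mp ((Ample.ProjMap.iSup_basicOpen_X n A).ge (Opens.mem_top x))
      exact Opens.mem_iSup.mpr ⟨⟨i⟩, hi⟩) p
  exact ⟨q.symm ≪≫ OX.tensorUnitLeftIso ((NegTwist.inv (Ample.ProjMap.pcoc n A)).twist p) ≪≫ e⟩

/-- The negative twists generate: a thick property of all of them holds of every perfect object. -/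
theorem prop_of_isPerfect_proj {Q : DCoh.D (ProjSpace n A) → Prop} (hQ : TriCat.Thick Q)
    (hQG : ∀ (p : ℕ) (m : ℤ),
      Q ((DerivedCategory.singleFunctor (ProjSpace n A).Modules m).obj (Twist.twistProjSpace n A (-(p : ℤ)))))
    {P : DCoh.D (ProjSpace n A)} (hP : DCoh.IsPerfect P) : Q P := by
  haveI : IsProper (ProjSpace.toSpec n A) := Chow.isProper_toSpec n A
  haveI : CompactSpace (ProjSpace n A) := QuasiCompact.compactSpace_of_compactSpace (ProjSpace.toSpec n A)
  haveI : (ProjSpace n A).IsSeparated := inferInstanceAs (Proj (polyGrading n A)).IsSeparated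
  haveI : CompactSpace (Proj (polyGrading n A)) := inferInstanceAs (CompactSpace (ProjSpace n A))
  have : ∀ J : Type u, HasColimitsOfShape (Discrete J) (DCoh.D (ProjSpace n A)) := fun J =>
    HoCat.derivedCategory_hasColimitsOfShape (C := (ProjSpace n A).Modules) (J := J)
  have hfin : ∀ {K : DCoh.D (ProjSpace n A)}, DCoh.IsPerfect K →
      TriCat.FinHomOn.{u} (fun L : DCoh.D (ProjSpace n A) => DCoh.IsQCohD L) K :=
    fun hK ι M _ hM k => finHom_of_isPerfect (isPerfect_shift hK k) M hM
  have hsm := HDU.locallySmall_derivedCategory (ProjSpace n A).Modules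
  let c := Ample.ProjMap.pcoc n A
  let G : ULift.{u} ℕ → DCoh.D (ProjSpace n A) := fun p => tw c 0 p.down
  refine TriCat.mem_thick_of_generators.{u} (P := fun L : DCoh.D (ProjSpace n A) => DCoh.IsQCohD L) (G := G)
    (fun ι M hM => isQCohD_coprod M hM) (fun T hT => isQCohD_obj₃ hT)
    (fun i m => isQCohD_shift (isQCohD_of_isPerfect (isPerfect_tw c 0 i.down)) m) (fun i m M => hsm.hom_small _ _)
    (fun i => hfin (isPerfect_tw c 0 i.down)) (fun M hM h => ?_)
    (isQCohD_of_isPerfect hP) (hfin hP) hQ fun i => ?_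
  · refine isZero_of_hom_tw c (coordSect n A) (exists_mem_locus n A) (isAffineOpen_locus n A) hM fun p m φ => ?_
    let j : (tw c 0 p)⟦-m⟧ ≅ tw c m p :=
      ((SingleFunctors.shiftIso (DerivedCategory.singleFunctors (ProjSpace n A).Modules) (-m) m 0 (by omega))).app _
    rw [← cancel_epi j.hom, comp_zero]
    exact h ⟨p⟩ (-m) _
  · exact hQ.of_iso ((DerivedCategory.singleFunctor (ProjSpace n A).Modules 0).mapIso
      (nonempty_nTwist_iso n A i.down).some).symm (hQG i.down 0)

/-- **The direct image of a perfect object is perfect.** -/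
theorem isPerfect_Rres_of_perfect {P : DCoh.D (ProjSpace n A)} (hP : DCoh.IsPerfect P) :
    DCoh.IsPerfect ((SiteDer.Rres (rmor (ProjSpace.toSpec n A))).obj P) := by
  haveI := RpushSupp20.hasInjectiveResolutions (ProjSpace n A)
  haveI : (SiteDer.Rres (rmor (ProjSpace.toSpec n A))).IsTriangulated :=
    SiteDer.isTriangulated_res_map (rmor (ProjSpace.toSpec n A)).push
  exact prop_of_isPerfect_proj n A (TriCat.Thick.comap (SiteDer.Rres (rmor (ProjSpace.toSpec n A))) thick_isPerfect)
    (fun p m => isPerfect_Rpush_twist n A m p) hP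

end GrothLib.KSix19.ProjPush
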