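import Groth.Agent.Lib.KSix19.ProjPush.Serre
import Groth.Agent.Lib.Ample.Criterion
import Groth.Agent.Lib.QCoh.Extension
import Groth.Prelude.Def_KSix
import Groth.Prelude.Def_PerfAux
import Groth.Prelude.Def_MoreMor

/-!
# Ample families: quotients of sums of negative powers
-/

set_option autoImplicit false
set_option backward.isDefEq.respectTransparency false
set_option linter.style.haveILetI false
set_option maxHeartbeats 1000000
universe u

open CategoryTheory CategoryTheory.Limits AlgebraicGeometry TopologicalSpace Opposite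
attribute [local instance] HasDerivedCategory.standard

noncomputable section

namespace GrothLib.KSix19.ProjPush

open OX

variable {X : Scheme.{u}}

/-- Local maps of modules extend after twisting. -/
theorem exists_extend_mod [CompactSpace X] [QuasiSeparatedSpace X] (c : Ample.Cocycle X) (s : c.sect 1 ⊤)
    {U : Scheme.{u}} (j : U ⟶ X) [IsOpenImmersion j] [CompactSpace U] (hj : Set.range j = (c.locus s : Set X))
    {G : X.Modules} (hG : Coh.IsQCoh G)
    (φ : (Scheme.Modules.restrictFunctor j).obj (NegTwist.nTwist c (Coh.structureModule X) 0) ⟶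
      (Scheme.Modules.restrictFunctor j).obj G) :
    ∃ (k : ℕ) (χ : NegTwist.nTwist c (Coh.structureModule X) k ⟶ G),
      (Scheme.Modules.restrictFunctor j).map (NegTwist.negHom c _ (apow c s k) (show 0 + k = k by omega)) ≫ φ =
        (Scheme.Modules.restrictFunctor j).map χ := by
  let α := (Scheme.Modules.restrictFunctor j).mapDerivedCategorySingleFunctor 0
  have hK : DCoh.IsQCohD ((DerivedCategory.singleFunctor X.Modules 0).obj G) := fun i => by
    by_cases hi : i = 0
    · subst hi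
      exact isQCoh_of_iso ((DerivedCategory.singleFunctorCompHomologyFunctorIso X.Modules 0).app G).symm hG
    · refine isQCoh_of_isZero ?_
      rcases lt_or_gt_of_ne hi with h' | h'
      · exact DerivedCategory.isZero_of_isGE _ 0 i h'
      · exact DerivedCategory.isZero_of_isLE _ 0 i h'
  obtain ⟨k, χ, hχ⟩ := exists_extend c s j hj hK
    (α.hom.app _ ≫ (DerivedCategory.singleFunctor U.Modules 0).map φ ≫ α.inv.app G)
  obtain ⟨χ', rfl⟩ := (DerivedCategory.singleFunctor X.Modules 0).map_surjective χ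
  refine ⟨k, χ', (DerivedCategory.singleFunctor U.Modules 0).map_injective ?_⟩
  rw [Functor.map_comp, ← cancel_epi (α.hom.app _), ← cancel_mono (α.inv.app G)]
  refine Eq.trans ?_ (hχ.trans ?_)
  · have := α.hom.naturality (NegTwist.negHom c (Coh.structureModule X) (apow c s k) (show 0 + k = k by omega))
    simp only [Category.assoc]
    erw [← reassoc_of% this]
  · have := α.hom.naturality χ'
    rw [← cancel_mono (α.hom.app G)]
    simp only [Category.assoc, Iso.inv_hom_id_app]
    erw [Category.comp_id]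
    exact this

theorem isIso_restrict_negHom {U : Scheme.{u}} (c : Ample.Cocycle X) (s : c.sect 1 ⊤) (j : U ⟶ X) [IsOpenImmersion j]
    (hj : Set.range j ⊆ c.locus s) (k : ℕ) {p q : ℕ} (e : q + k = p) :
    IsIso ((Scheme.Modules.restrictFunctor j).map (NegTwist.negHom c (Coh.structureModule X) (apow c s k) e)) := by
  rw [Scheme.Modules.Hom.isIso_iff_isIso_app]
  intro W
  exact (ConcreteCategory.isIso_iff_bijective _).2 (NegTwist.bijective_negHom_app c (apow c s k) e
    (fun x hx => locus_le_apow c s k (hj (by obtain ⟨y, -, rfl⟩ := hx; exact ⟨y, rfl⟩))))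

/-- On the affine locus of a section, sums of negative twists cover. -/
theorem exists_chart_span [CompactSpace X] [QuasiSeparatedSpace X] (c : Ample.Cocycle X) (s : c.sect 1 ⊤)
    (hA : IsAffineOpen (c.locus s)) {G H : X.Modules} (hG : Coh.IsQCoh G) (hH : Coh.IsQCoh H) (hH' : CohB1.IsFT H)
    (h : G ⟶ H) [Epi h] :
    ∃ (k : ℕ) (p : Fin k → ℕ) (χ : ∀ t, NegTwist.nTwist c (Coh.structureModule X) (p t + 1) ⟶ G),
      ∀ (Q : X.Modules) (q : H ⟶ Q), Coh.IsQCoh Q → (∀ t, χ t ≫ h ≫ q = 0) →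
        (Scheme.Modules.restrictFunctor hA.fromSpec).map q = 0 := by
  let j := hA.fromSpec
  have hj : Set.range j = (c.locus s : Set X) := hA.range_fromSpec
  let R := Γ(X, c.locus s)
  have hV : IsAffineOpen (j ''ᵁ (⊤ : (Spec R).Opens)) :=
    (isAffineOpen_top (Spec R)).image_of_isOpenImmersion j
  haveI : G.IsQuasicoherent := hG
  haveI : H.IsQuasicoherent := hH
  haveI : (kernel h).IsQuasicoherent := QCoh.isQuasicoherent_kernel h
  have hsurj : Function.Surjective (h.app (j ''ᵁ (⊤ : (Spec R).Opens))) :=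
    QCoh.app_surjective_of_isAffineOpen (S := ShortComplex.mk (kernel.ι h) h (kernel.condition h))
      { exact := ShortComplex.exact_of_f_is_kernel _ (kernelIsKernel h) } hV
  obtain ⟨k, g, hg⟩ := (QCoh.moduleFinite_of_isFiniteType H hH' hV).exists_fin
    (R := Γ(X, j ''ᵁ (⊤ : (Spec R).Opens))) (M := Γ(H, j ''ᵁ (⊤ : (Spec R).Opens)))
  choose g' hg' using fun t => hsurj (g t)
  obtain ⟨z⟩ := nonempty_nTwist_zero c
  let u := (Scheme.Modules.restrictFunctor j).mapIso z ≪≫ Scheme.Modules.restrictUnitIso j ≪≫ (genTopIso (Spec R)).symm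
  let φ : ∀ t, (Scheme.Modules.restrictFunctor j).obj (NegTwist.nTwist c (Coh.structureModule X) 0) ⟶
      (Scheme.Modules.restrictFunctor j).obj G := fun t =>
    u.hom ≫ (genSec ((Scheme.Modules.restrictFunctor j).obj G) ⊤).symm (g' t)
  choose p χ hχ using fun t => exists_extend_mod c s j hj hG (φ t)
  refine ⟨k, p, fun t => NegTwist.negHom c _ (apow c s 1) rfl ≫ χ t, fun Q q hQ hz => ?_⟩
  haveI : Q.IsQuasicoherent := hQ
  have hgen : ∀ t, q.app (j ''ᵁ (⊤ : (Spec R).Opens)) (g t) = 0 := fun t => by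
    have hiso : ∀ (i a b : ℕ) (e : b + i = a),
        IsIso ((Scheme.Modules.restrictFunctor j).map (NegTwist.negHom c (Coh.structureModule X) (apow c s i) e)) :=
      fun i a b e => isIso_restrict_negHom c s j hj.le i e
    haveI := hiso 1 (p t + 1) (p t) rfl
    haveI := hiso (p t) (p t) 0 (show 0 + p t = p t by omega)
    have h1 := congrArg (Scheme.Modules.restrictFunctor j).map (hz t)
    rw [Category.assoc, Functor.map_comp, Functor.map_zero, Preadditive.IsIso.comp_left_eq_zero, Functor.map_comp, ← hχ t,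
      Category.assoc, Preadditive.IsIso.comp_left_eq_zero] at h1
    simp only [φ, Category.assoc, Preadditive.IsIso.comp_left_eq_zero] at h1
    have h2 := genSec_comp (⊤ : (Spec R).Opens) ((genSec ((Scheme.Modules.restrictFunctor j).obj G) ⊤).symm (g' t))
      ((Scheme.Modules.restrictFunctor j).map (h ≫ q))
    rw [h1, Equiv.apply_symm_apply] at h2
    rw [← hg' t]
    exact h2.symm.trans (genSecAdd ((Scheme.Modules.restrictFunctor j).obj Q) ⊤).map_zero
  have hall : ∀ x : Γ(H, j ''ᵁ (⊤ : (Spec R).Opens)), q.app _ x = 0 := fun x => by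
    have hx : x ∈ Submodule.span Γ(X, j ''ᵁ (⊤ : (Spec R).Opens)) (Set.range g) := by rw [hg]; trivial
    induction hx using Submodule.span_induction with
    | mem z hz => obtain ⟨t, rfl⟩ := hz; exact hgen t
    | zero => exact map_zero _
    | add z w _ _ hz hw => rw [map_add, hz, hw, add_zero]
    | smul r z _ hz => rw [Ample.app_smul, hz, smul_zero]
  haveI : ((Scheme.Modules.restrictFunctor j).obj H).IsQuasicoherent := inferInstanceAs (H.restrict j).IsQuasicoherent
  haveI := Scheme.Modules.isIso_fromTildeΓ_of_isQuasicoherent (R := R) ((Scheme.Modules.restrictFunctor j).obj H)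
  let Qm := (Scheme.Modules.restrictFunctor j).map q
  show Qm = 0
  rw [← cancel_epi (Scheme.Modules.fromTildeΓ (R := R) ((Scheme.Modules.restrictFunctor j).obj H)), comp_zero]
  refine ((Scheme.Modules.fromTildeΓNatTrans (R := R)).naturality Qm).symm.trans ?_
  have h0 : (moduleSpecΓFunctor (R := R)).map Qm = 0 := ModuleCat.hom_ext (LinearMap.ext fun x => hall x)
  change (tilde.functor R).map ((moduleSpecΓFunctor (R := R)).map Qm) ≫ _ = 0
  rw [h0, Functor.map_zero, zero_comp]

theorem isFinLocFree_biproduct {k : ℕ} (N : Fin k → X.Modules) (h : ∀ t, FlatMod.IsFinLocFree (N t)) :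
    FlatMod.IsFinLocFree (⨁ N) :=
  isFinLocFree_congr (biproduct.isoCoproduct N).symm (OX.isFinLocFree_sigma N h)

variable {ι : Type u} {L : ι → X.Modules}

theorem nonempty_tensorPow_structure : ∀ m : ℕ,
    Nonempty (CohB1.tensorPow (Coh.structureModule X) m ≅ Coh.structureModule X)
  | 0 => ⟨Iso.refl _⟩
  | m + 1 => by
    obtain ⟨e⟩ := nonempty_tensorPow_structure m
    exact ⟨Ample.LineData.tensorModMapIso e (Iso.refl (Coh.structureModule X)) ≪≫
      OX.tensorUnitLeftIso (Coh.structureModule X)⟩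

theorem nonempty_tensor_inv_twist (c : Ample.Cocycle X) (p : ℕ) :
    Nonempty (CohB1.tensorMod (NegTwist.nTwist c (Coh.structureModule X) p) (c.twist p) ≅ Coh.structureModule X) := by
  obtain ⟨t⟩ := (NegTwist.inv c).nonempty_tensor_modTwist (Coh.structureModule X) p
  obtain ⟨v⟩ := (NegTwist.inv c).nonempty_tensor_prod c p
  obtain ⟨h1⟩ := Cube.eqv_prod_inv c
  obtain ⟨o⟩ := Ample.Cocycle.nonempty_structureModule_iso_triv (X := X)
  obtain ⟨w⟩ := ((NegTwist.inv c).prod c).nonempty_tensorPow_iso (o ≪≫ h1.symm) p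
  obtain ⟨y⟩ := nonempty_tensorPow_structure (X := X) p
  have u : CohB1.tensorMod (Coh.structureModule X) ((NegTwist.inv c).twist p) ≅ (NegTwist.inv c).twist p :=
    OX.tensorUnitLeftIso ((NegTwist.inv c).twist p)
  have x : NegTwist.nTwist c (Coh.structureModule X) p ≅ (NegTwist.inv c).twist p := t.symm.trans u
  exact ⟨Ample.LineData.tensorModMapIso x (Iso.refl _) ≪≫ v ≪≫ w.symm ≪≫ y⟩

/-- A negative twist by a positive power cocycle is a negative power. -/
theorem isNegPower_nTwist {i : ι} {c₀ : Ample.Cocycle X} (e₀ : L i ≅ c₀.twist 1) (n p : ℕ) :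
    KSix.IsNegPower L (NegTwist.nTwist (c₀.pow (n + 1)) (Coh.structureModule X) (p + 1)) := by
  refine ⟨i, (n + 1) * (p + 1), Nat.mul_pos n.succ_pos p.succ_pos, ?_⟩
  obtain ⟨a⟩ := c₀.nonempty_tensorPow_iso e₀ ((n + 1) * (p + 1))
  obtain ⟨b⟩ := c₀.nonempty_pow_twist (n + 1) (p + 1)
  obtain ⟨u⟩ := nonempty_tensor_inv_twist (c₀.pow (n + 1)) (p + 1)
  exact ⟨Ample.LineData.tensorModMapIso (Iso.refl _) (a ≪≫ b.symm) ≪≫ u⟩

/-- The main lifting property of an ample family. -/
theorem exists_negPower_cover (hL : KSix.IsAmpleFamily L) {G H : X.Modules} (hG : Coh.IsQCoh G) (hH : Coh.IsQCoh H)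
    (hH' : CohB1.IsFT H) (h : G ⟶ H) [Epi h] :
    ∃ (k : ℕ) (N : Fin k → X.Modules) (χ : ∀ t, N t ⟶ G), (∀ t, KSix.IsNegPower L (N t)) ∧
      FlatMod.IsFinLocFree (⨁ N) ∧ Epi (biproduct.desc χ ≫ h) := by
  classical
  obtain ⟨hc, hqs, hinv, hcov⟩ := hL
  have hdat : ∀ x : X, ∃ (i : ι) (c₀ : Ample.Cocycle X) (_ : L i ≅ c₀.twist 1) (n : ℕ)
      (s : (c₀.pow (n + 1)).sect 1 ⊤), x ∈ (c₀.pow (n + 1)).locus s ∧ IsAffineOpen ((c₀.pow (n + 1)).locus s) :=
    fun x => by
    obtain ⟨i, n, s, hx, hA⟩ := hcov x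
    obtain ⟨c₀, ⟨e₀⟩⟩ := Ample.exists_cocycle (hinv i)
    obtain ⟨d⟩ := c₀.nonempty_tensorPow_iso_pow e₀ (n + 1)
    obtain ⟨a, ha⟩ := (c₀.pow (n + 1)).exists_sect_of_section d s
    exact ⟨i, c₀, e₀, n, a, ha.symm ▸ hx, ha.symm ▸ hA⟩
  choose i c₀ e₀ n s hx hA using hdat
  obtain ⟨T, hT⟩ := isCompact_univ.elim_finite_subcover
    (fun x => (((c₀ x).pow (n x + 1)).locus (s x) : Set X)) (fun x => ((c₀ x).pow (n x + 1)).locus (s x) |>.isOpen)
    fun x _ => Set.mem_iUnion.2 ⟨x, hx x⟩
  choose k p χ hspan using fun x : T => exists_chart_span ((c₀ x.1).pow (n x.1 + 1)) (s x.1) (hA x.1) hG hH hH' h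
  let e := (Fintype.equivFin (Σ x : T, Fin (k x))).symm
  refine ⟨_, fun t => NegTwist.nTwist ((c₀ (e t).1.1).pow (n (e t).1.1 + 1)) (Coh.structureModule X)
    (p (e t).1 (e t).2 + 1), fun t => χ (e t).1 (e t).2, fun t => isNegPower_nTwist (e₀ _) _ _,
    isFinLocFree_biproduct _ fun t => isFinLocFree_nTwist _ _,
    Preadditive.epi_of_isZero_cokernel _ (isZero_of_subsingleton_stalks _ fun y => ?_)⟩
  obtain ⟨x, hxT, hy⟩ : ∃ x ∈ T, y ∈ ((c₀ x).pow (n x + 1)).locus (s x) := by
    have := hT (Set.mem_univ y)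
    simpa using this
  haveI : H.IsQuasicoherent := hH
  have hQ : Coh.IsQCoh (cokernel (biproduct.desc (fun t => χ (e t).1 (e t).2) ≫ h)) := by
    haveI : (⨁ fun t => NegTwist.nTwist ((c₀ (e t).1.1).pow (n (e t).1.1 + 1)) (Coh.structureModule X)
        (p (e t).1 (e t).2 + 1)).IsQuasicoherent :=
      Euler.isQuasicoherent_of_isFinLocFree (isFinLocFree_biproduct _ fun t => isFinLocFree_nTwist _ _)
    exact QCoh.isQuasicoherent_cokernel _
  have hzero := hspan ⟨x, hxT⟩ _ (cokernel.π _) hQ fun t => by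
    have h2 := biproduct.ι _ (e.symm ⟨⟨x, hxT⟩, t⟩) ≫= cokernel.condition
      (biproduct.desc (fun t => χ (e t).1 (e t).2) ≫ h)
    simp only [comp_zero, biproduct.ι_desc_assoc, Category.assoc] at h2
    rw [Equiv.apply_symm_apply] at h2
    exact h2
  haveI : Epi ((Scheme.Modules.restrictFunctor (hA x).fromSpec).map
      (cokernel.π (biproduct.desc (fun t => χ (e t).1 (e t).2) ≫ h))) := inferInstance
  by_contra hc'
  exact support_subset_of_isZero_restrict _ (IsZero.of_epi_eq_zero _ hzero) hc' (by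
    rw [(hA x).range_fromSpec]; exact hy)

end GrothLib.KSix19.ProjPush

namespace GrothLib.KSix19.ProjPush

open OX

variable {X : Scheme.{u}}

/-- An ample family in the existential sense gives one in the data sense. -/
theorem exists_isAmpleFamily (h : MoreMor.HasAmpleFamily X) :
    ∃ (ι : Type u) (L : ι → X.Modules), KSix.IsAmpleFamily L := by
  obtain ⟨hc, hcov⟩ := h
  choose L n s hL hn hx hA using hcov
  haveI := hc
  obtain ⟨T, hT⟩ := isCompact_univ.elim_finite_subcover
    (fun x => ((CohB1.genLocus (CohB1.tensorPow (L x) (n x)) (s x) : X.Opens) : Set X))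
    (fun x => (CohB1.genLocus (CohB1.tensorPow (L x) (n x)) (s x)).isOpen)
    fun x _ => Set.mem_iUnion.2 ⟨x, hx x⟩
  have haff : ∀ x, IsAffineHom (CohB1.genLocus (CohB1.tensorPow (L x) (n x)) (s x)).ι := fun x =>
    Ample.isAffineHom_genLocus_ι (Ample.isInvertible_tensorPow (hL x) _) _
  refine ⟨ULift.{u} T, fun t => L t.down.1, hc, ?_, fun t => hL _, fun y => ?_⟩
  · refine (quasiSeparatedSpace_iff_forall_affineOpens).2 ?_
    intro U V
    let W := fun x => CohB1.genLocus (CohB1.tensorPow (L x) (n x)) (s x)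
    have hinf : ∀ x (U : X.Opens), IsAffineOpen U → IsAffineOpen (W x ⊓ U) := fun x U hU => by
      haveI := haff x
      have := (hU.preimage (W x).ι).image_of_isOpenImmersion (W x).ι
      rwa [Scheme.Hom.image_preimage_eq_opensRange_inf, Scheme.Opens.opensRange_ι] at this
    have e : (U : Set X) ∩ V = ⋃ p ∈ T, ((W p ⊓ U.1 : X.Opens) : Set X) ∩ ((W p ⊓ V.1 : X.Opens) : Set X) := by
      ext z
      simp only [Set.mem_inter_iff, Set.mem_iUnion, SetLike.mem_coe, Opens.mem_inf, exists_prop]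
      constructor
      · rintro ⟨hU, hV⟩
        obtain ⟨p, hp, hz⟩ := Set.mem_iUnion₂.mp (hT (Set.mem_univ z))
        exact ⟨p, hp, ⟨hz, hU⟩, hz, hV⟩
      · rintro ⟨p, -, ⟨-, hU⟩, -, hV⟩
        exact ⟨hU, hV⟩
    rw [e]
    refine T.isCompact_biUnion fun p _ => ?_
    exact (hA p).isQuasiSeparated _ _ Set.inter_subset_left (W p ⊓ U.1).2 (hinf p _ U.2).isCompact
      Set.inter_subset_left (W p ⊓ V.1).2 (hinf p _ V.2).isCompact
  · obtain ⟨x, hxT, hy⟩ : ∃ x ∈ T, y ∈ CohB1.genLocus (CohB1.tensorPow (L x) (n x)) (s x) := by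
      have := hT (Set.mem_univ y)
      simpa using this
    obtain ⟨m, hm⟩ : ∃ m, n x = m + 1 := ⟨n x - 1, by have := hn x; omega⟩
    have key : ∀ (k : ℕ) (s' : Coh.structureModule X ⟶ CohB1.tensorPow (L x) k), k = m + 1 →
        y ∈ CohB1.genLocus _ s' → IsAffineOpen (CohB1.genLocus _ s') →
        ∃ (s'' : Coh.structureModule X ⟶ CohB1.tensorPow (L x) (m + 1)),
          y ∈ CohB1.genLocus _ s'' ∧ IsAffineOpen (CohB1.genLocus _ s'') := by
      rintro k s' rfl h1 h2
      exact ⟨s', h1, h2⟩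
    obtain ⟨s'', h1, h2⟩ := key _ (s x) hm hy (hA x)
    exact ⟨⟨⟨x, hxT⟩⟩, m, s'', h1, h2⟩

end GrothLib.KSix19.ProjPush
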