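import Groth.Agent.Lib.KSix19.ProjPush.AmpleFam
import Groth.Agent.Lib.KSix19.ProjPush.PerfAmp
import Groth.Agent.Lib.KSix19.ProjPush.PCoh
import Mathlib.CategoryTheory.Abelian.Projective.Extend
import Mathlib.Algebra.Homology.DerivedCategory.SingleTriangle
import Mathlib.Algebra.Homology.DerivedCategory.Fractions

/-!
# Global resolutions by negative powers of an ample family
-/

set_option autoImplicit false
set_option backward.isDefEq.respectTransparency false
set_option linter.style.haveILetI false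
set_option maxHeartbeats 1000000
universe w v u

open CategoryTheory CategoryTheory.Limits AlgebraicGeometry TopologicalSpace Opposite Pretriangulated
attribute [local instance] HasDerivedCategory.standard

noncomputable section

namespace GrothLib.KSix19.ProjPush

section Strictify

variable {A : Type u} [Category.{v} A] [Abelian A] [HasDerivedCategory.{w} A]

/-- A morphism from a single object in the lowest degree of a complex is a chain map. -/
theorem exists_single_hom (F : CochainComplex A ℤ) (k : ℤ) [F.IsStrictlyGE k] (P : A)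
    (ψ : DerivedCategory.Q.obj ((HomologicalComplex.single A (ComplexShape.up ℤ) k).obj P) ⟶ DerivedCategory.Q.obj F) :
    ∃ g : (HomologicalComplex.single A (ComplexShape.up ℤ) k).obj P ⟶ F, ψ = DerivedCategory.Q.map g := by
  obtain ⟨F', hF', g', s, hs, rfl⟩ := DerivedCategory.left_fac_of_isStrictlyGE ψ k
  haveI : QuasiIso s := (DerivedCategory.isIso_Q_map_iff_quasiIso A s).1 hs
  haveI := F.isIso_homologyπ (k - 1) k (by simp) ((F.isZero_of_isStrictlyGE k (k - 1)).eq_of_src _ _)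
  haveI := F'.isIso_homologyπ (k - 1) k (by simp) ((F'.isZero_of_isStrictlyGE k (k - 1)).eq_of_src _ _)
  haveI : IsIso (HomologicalComplex.homologyMap s k) := inferInstance
  haveI : IsIso (HomologicalComplex.cyclesMap s k) := by
    haveI : IsIso (HomologicalComplex.cyclesMap s k ≫ F'.homologyπ k) := by
      rw [← HomologicalComplex.homologyπ_naturality]; infer_instance
    exact IsIso.of_isIso_comp_right _ (F'.homologyπ k)
  let S := (HomologicalComplex.single A (ComplexShape.up ℤ) k).obj P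
  let ι := (HomologicalComplex.singleObjXSelf (ComplexShape.up ℤ) k P).inv
  have hcyc : (ι ≫ g'.f k) ≫ F'.d k (k + 1) = 0 := by
    rw [Category.assoc, g'.comm]; simp
  let z := F'.liftCycles (ι ≫ g'.f k) (k + 1) (by simp) hcyc ≫ inv (HomologicalComplex.cyclesMap s k)
  let g : S ⟶ F := HomologicalComplex.mkHomFromSingle (z ≫ F.iCycles k) fun j _ => by simp
  refine ⟨g, ?_⟩
  have hgs : g ≫ s = g' := by
    refine HomologicalComplex.from_single_hom_ext ?_
    rw [← cancel_epi ι]
    simp only [ι, g, HomologicalComplex.comp_f, HomologicalComplex.mkHomFromSingle_f, Iso.inv_hom_id_assoc,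
      Category.assoc, z, ← HomologicalComplex.cyclesMap_i, IsIso.inv_hom_id_assoc, HomologicalComplex.liftCycles_i]
  rw [← hgs, Functor.map_comp, Category.assoc, IsIso.hom_inv_id, Category.comp_id]

/-- Killing a map from a single object into a cone: the fibre of the composite is again a complex. -/
theorem exists_extend_complex (F : CochainComplex A ℤ) (k : ℤ) [F.IsStrictlyGE k] {E C : DerivedCategory A}
    {α : DerivedCategory.Q.obj F ⟶ E} {c : E ⟶ C} {δ : C ⟶ (DerivedCategory.Q.obj F)⟦(1 : ℤ)⟧}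
    (hT : Triangle.mk α c δ ∈ distTriang _) {P : A} {C' : DerivedCategory A}
    {φ : (DerivedCategory.singleFunctor A (k - 1)).obj P ⟶ C} {c' : C ⟶ C'}
    {δ' : C' ⟶ ((DerivedCategory.singleFunctor A (k - 1)).obj P)⟦(1 : ℤ)⟧}
    (hT' : Triangle.mk φ c' δ' ∈ distTriang _) :
    ∃ (g : (HomologicalComplex.single A (ComplexShape.up ℤ) k).obj P ⟶ F)
      (α' : DerivedCategory.Q.obj (CochainComplex.mappingCone g) ⟶ E) (c'' : E ⟶ C')
      (δ'' : C' ⟶ (DerivedCategory.Q.obj (CochainComplex.mappingCone g))⟦(1 : ℤ)⟧),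
      Triangle.mk α' c'' δ'' ∈ distTriang _ := by
  obtain ⟨W, α₁, δ₁, hW⟩ := distinguished_cocone_triangle₁ (c ≫ c')
  let o := Triangulated.someOctahedron' rfl hT hT' hW
  let T := (Triangle.mk o.m₁ o.m₃ (φ ≫ δ)).invRotate
  have hT₁ : T ∈ distTriang _ := inv_rot_of_distTriang _ o.mem
  let S := (HomologicalComplex.single A (ComplexShape.up ℤ) k).obj P
  let u : DerivedCategory.Q.obj S ≅ T.obj₁ :=
    ((DerivedCategory.singleFunctorIsoCompQ A k).app P).symm ≪≫
      ((SingleFunctors.shiftIso (DerivedCategory.singleFunctors A) (-1) k (k - 1) (by omega)).app P).symm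
  obtain ⟨g, hg⟩ := exists_single_hom F k P (u.hom ≫ T.mor₁)
  let M := DerivedCategory.Q.mapTriangle.obj (CochainComplex.mappingCone.triangle g)
  let i := isoTriangleOfIso₁₂ M T (DerivedCategory.mappingCone_triangle_distinguished g) hT₁ u (Iso.refl _)
    (by exact (Category.comp_id _).trans hg.symm)
  let v : DerivedCategory.Q.obj (CochainComplex.mappingCone g) ≅ W := Triangle.π₃.mapIso i
  refine ⟨g, v.hom ≫ α₁, c ≫ c', δ₁ ≫ v.inv⟦(1 : ℤ)⟧', isomorphic_distinguished _ hW _
    (Triangle.isoMk _ _ v (Iso.refl _) (Iso.refl _) ?_ ?_ ?_)⟩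
  · exact Category.comp_id _
  · exact (Category.comp_id _).trans (Category.id_comp _).symm
  · refine (Category.assoc _ _ _).trans ?_
    rw [← Functor.map_comp, Iso.inv_hom_id, CategoryTheory.Functor.map_id]
    exact (Category.comp_id _).trans (Category.id_comp _).symm

end Strictify

end GrothLib.KSix19.ProjPush

namespace GrothLib.KSix19.ProjPush

open OX

variable {X : Scheme.{u}}

/-- On the affine locus of a section, twists span the top cohomology. -/
theorem exists_chart_top [CompactSpace X] [QuasiSeparatedSpace X] (c : Ample.Cocycle X) (s : c.sect 1 ⊤)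
    (hA : IsAffineOpen (c.locus s)) {K : DCoh.D X} (hKq : DCoh.IsQCohD K) (a : ℤ) (hFT : CohB1.IsFT (DCoh.HD ((resD hA.fromSpec).obj K) a)) :
    ∃ (k : ℕ) (p : Fin k → ℕ) (χ : ∀ t, tw c a (p t + 1) ⟶ K),
      ∀ (C : DCoh.D X) (q : K ⟶ C), DCoh.IsQCohD C → (∀ t, χ t ≫ q = 0) →
        (DerivedCategory.homologyFunctor _ a).map ((resD hA.fromSpec).map q) = 0 := by
  let j := hA.fromSpec
  have hjr : Set.range j = (c.locus s : Set X) := hA.range_fromSpec
  obtain ⟨z⟩ := nonempty_nTwist_zero c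
  let t := ((Scheme.Modules.restrictFunctor j).mapDerivedCategorySingleFunctor a).app
      (NegTwist.nTwist c (Coh.structureModule X) 0) ≪≫
    (DerivedCategory.singleFunctor _ a).mapIso
      ((Scheme.Modules.restrictFunctor j).mapIso z ≪≫ Scheme.Modules.restrictUnitIso j)
  obtain ⟨k, φ, hφ⟩ := exists_maps_spanning (isQCohD_resD j hKq) a hFT
  choose p χ hχ using fun i => exists_extend c s j hjr hKq (t.hom ≫ φ i)
  refine ⟨k, p, fun i => twMap c s a 1 (show p i + 1 = p i + 1 by omega) ≫ χ i,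
    fun C q hC h => hφ _ _ (isQCohD_resD j hC) fun i => ?_⟩
  haveI := isIso_resD_twMap c s j hjr.le a (p i) (show 0 + p i = p i by omega)
  haveI := isIso_resD_twMap c s j hjr.le a 1 (show p i + 1 = p i + 1 by omega)
  have h1 : (resD j).map (χ i ≫ q) = 0 := by
    rw [← cancel_epi ((resD j).map (twMap c s a 1 (show p i + 1 = p i + 1 by omega))), comp_zero, ← Functor.map_comp,
      ← Category.assoc, h i, Functor.map_zero]
  rw [← cancel_epi t.hom, comp_zero, ← cancel_epi ((resD j).map (twMap c s a (p i) (show 0 + p i = p i by omega))),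
    comp_zero, ← Category.assoc t.hom, ← Category.assoc ((resD j).map _), hχ i, ← Functor.map_comp, h1]

variable {ι : Type u} {L : ι → X.Modules}

theorem inAddL_biproduct {k : ℕ} (N : Fin k → X.Modules) (h : ∀ t, KSix.IsNegPower L (N t)) :
    KSix.InAddL L (⨁ N) := ⟨k, N, h, ⟨Iso.refl _⟩⟩

theorem inAddL_of_iso {M M' : X.Modules} (e : M ≅ M') (h : KSix.InAddL L M) : KSix.InAddL L M' := by
  obtain ⟨k, N, hN, ⟨g⟩⟩ := h
  exact ⟨k, N, hN, ⟨e.symm ≪≫ g⟩⟩

theorem inAddL_of_isZero {M : X.Modules} (h : IsZero M) : KSix.InAddL L M :=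
  ⟨0, fun t => t.elim0, fun t => t.elim0, ⟨h.iso ((IsZero.iff_id_eq_zero _).2
    (biproduct.hom_ext _ _ fun t : Fin 0 => t.elim0))⟩⟩

theorem inAddL_of_iso_biprod {M M' Z : X.Modules} (e : M ≅ M' ⊞ Z) (h : KSix.InAddL L M') (hZ : IsZero Z) :
    KSix.InAddL L M :=
  inAddL_of_iso (isoBiprodZero hZ ≪≫ e.symm) h

/-- The top cohomology is covered by sums of negative powers. -/
theorem exists_top_cover (hL : KSix.IsAmpleFamily L) (C : DCoh.D X) (hC : ∀ m : ℤ, DCoh.IsPseudoCoherentD m C)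
    (a : ℤ) (hz : ∀ i, a < i → IsZero (DCoh.HD C i)) :
    ∃ (P : X.Modules) (φ : (DerivedCategory.singleFunctor X.Modules a).obj P ⟶ C),
      KSix.InAddL L P ∧ FlatMod.IsFinLocFree P ∧
        Epi ((DerivedCategory.homologyFunctor X.Modules a).map φ) := by
  classical
  obtain ⟨hc, hqs, hinv, hcov⟩ := hL
  haveI := hc
  haveI := hqs
  have hCq := isQCohD_of_pc hC
  have hdat : ∀ x : X, ∃ (i : ι) (c₀ : Ample.Cocycle X) (_ : L i ≅ c₀.twist 1) (n : ℕ)
      (s : (c₀.pow (n + 1)).sect 1 ⊤), x ∈ (c₀.pow (n + 1)).locus s ∧ IsAffineOpen ((c₀.pow (n + 1)).locus s) :=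
    fun x => by
    obtain ⟨i, n, s, hx, hA⟩ := hcov x
    obtain ⟨c₀, ⟨e₀⟩⟩ := Ample.exists_cocycle (hinv i)
    obtain ⟨d⟩ := c₀.nonempty_tensorPow_iso_pow e₀ (n + 1)
    obtain ⟨b, hb⟩ := (c₀.pow (n + 1)).exists_sect_of_section d s
    exact ⟨i, c₀, e₀, n, b, hb.symm ▸ hx, hb.symm ▸ hA⟩
  choose i c₀ e₀ n s hx hA using hdat
  obtain ⟨T, hT⟩ := isCompact_univ.elim_finite_subcover
    (fun x => (((c₀ x).pow (n x + 1)).locus (s x) : Set X)) (fun x => ((c₀ x).pow (n x + 1)).locus (s x) |>.isOpen)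
    fun x _ => Set.mem_iUnion.2 ⟨x, hx x⟩
  have hFT : ∀ x, CohB1.IsFT (DCoh.HD ((resD (hA x).fromSpec).obj C) a) := fun x =>
    isFT_HD_top (OX.isPseudoCoherentD_resD (hC a) _) fun k hk =>
      ((Scheme.Modules.restrictFunctor (hA x).fromSpec).map_isZero (hz k hk)).of_iso (HDResIso _ C k)
  choose k p χ hspan using fun x : T => exists_chart_top ((c₀ x.1).pow (n x.1 + 1)) (s x.1) (hA x.1) hCq a (hFT x.1)
  let e := (Fintype.equivFin (Σ x : T, Fin (k x))).symm
  let N := fun t => NegTwist.nTwist ((c₀ (e t).1.1).pow (n (e t).1.1 + 1)) (Coh.structureModule X)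
    (p (e t).1 (e t).2 + 1)
  let F := DerivedCategory.singleFunctor X.Modules a
  let φ : F.obj (⨁ N) ⟶ C := ∑ t, F.map (biproduct.π N t) ≫ χ (e t).1 (e t).2
  have hN : FlatMod.IsFinLocFree (⨁ N) := isFinLocFree_biproduct _ fun t => isFinLocFree_nTwist _ _
  refine ⟨⨁ N, φ, inAddL_biproduct N fun t => isNegPower_nTwist (e₀ _) _ _, hN, ?_⟩
  have hι : ∀ t, F.map (biproduct.ι N t) ≫ φ = χ (e t).1 (e t).2 := fun t => by
    rw [Preadditive.comp_sum, Finset.sum_eq_single t]
    · rw [← Category.assoc, ← Functor.map_comp, biproduct.ι_π_self, CategoryTheory.Functor.map_id, Category.id_comp]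
    · intro t' _ ht'
      rw [← Category.assoc, ← Functor.map_comp, biproduct.ι_π_ne _ (Ne.symm ht'), Functor.map_zero, zero_comp]
    · exact fun h => absurd (Finset.mem_univ t) h
  obtain ⟨C', q, δ, hTr⟩ := distinguished_cocone_triangle φ
  have hPp : DCoh.IsPerfect (F.obj (⨁ N)) := by
    have h0 := isPerfect_single_of_finLocFree hN
    exact isPerfect_of_iso (isPerfect_shift (isPerfect_of_iso h0
      ((DerivedCategory.singleFunctorIsoCompQ X.Modules 0).app _).symm) (-a))
      ((((SingleFunctors.shiftIso (DerivedCategory.singleFunctors X.Modules) (-a) a 0 (by omega))).app _))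
  have hC' : DCoh.IsQCohD C' := isQCohD_obj₃ hTr (isQCohD_of_isPerfect hPp) hCq
  have hzero : IsZero (DCoh.HD C' a) := isZero_of_subsingleton_stalks _ fun y => by
    by_contra hy
    obtain ⟨x, hxT, hyx⟩ : ∃ x ∈ T, y ∈ ((c₀ x).pow (n x + 1)).locus (s x) := by
      have := hT (Set.mem_univ y)
      simpa using this
    refine support_subset_of_isZero_HD_resD (hA x).fromSpec ?_ hy (by rw [(hA x).range_fromSpec]; exact hyx)
    refine ((DerivedCategory.homologyFunctor _ 0).homologySequence_exact₃ _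
      ((resD (hA x).fromSpec).map_distinguished _ hTr) a (a + 1) rfl).isZero_of_both_zeros ?_ ?_
    · refine hspan ⟨x, hxT⟩ C' q hC' fun t => ?_
      have := hι (e.symm ⟨⟨x, hxT⟩, t⟩)
      have h2 : χ (e (e.symm ⟨⟨x, hxT⟩, t⟩)).1 (e (e.symm ⟨⟨x, hxT⟩, t⟩)).2 ≫ q = 0 := by
        rw [← this, Category.assoc, show φ ≫ q = 0 from comp_distTriang_mor_zero₁₂ _ hTr, comp_zero]
      rwa [Equiv.apply_symm_apply] at h2
    · exact ((((Scheme.Modules.restrictFunctor (hA x).fromSpec).map_isZero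
        (DerivedCategory.isZero_of_isLE (F.obj (⨁ N)) a (a + 1) (by omega))).of_iso
        (HDResIso (hA x).fromSpec _ (a + 1))).eq_of_tgt _ _)
  exact ((DerivedCategory.homologyFunctor X.Modules 0).homologySequence_exact₂ _ hTr a).epi_f
    (hzero.eq_of_tgt _ _)

/-- An approximation of `E` by a complex of sums of negative powers in degrees `[k, b]`. -/
def Stage (L : ι → X.Modules) (E : DCoh.D X) (b k : ℤ) : Prop :=
  ∃ (F : CochainComplex X.Modules ℤ) (C : DCoh.D X) (α : DerivedCategory.Q.obj F ⟶ E) (c : E ⟶ C)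
    (δ : C ⟶ (DerivedCategory.Q.obj F)⟦(1 : ℤ)⟧),
    (∀ i, i < k ∨ b < i → IsZero (F.X i)) ∧ (∀ i, KSix.InAddL L (F.X i)) ∧ (∀ i, FlatMod.IsFinLocFree (F.X i)) ∧
      Triangle.mk α c δ ∈ distTriang _ ∧ ∀ i, k ≤ i → IsZero (DCoh.HD C i)

theorem stage_top (E : DCoh.D X) (b : ℤ) [E.IsLE b] : Stage L E b (b + 1) := by
  obtain ⟨O, hO⟩ : ∃ O : CochainComplex X.Modules ℤ, IsZero O := ⟨_, HomologicalComplex.isZero_zero⟩
  have hz : ∀ i, IsZero (O.X i) := fun i => (HomologicalComplex.eval _ _ i).map_isZero hO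
  obtain ⟨C, c, δ, hT⟩ := distinguished_cocone_triangle (0 : DerivedCategory.Q.obj O ⟶ E)
  haveI : IsIso c :=
    (Triangle.isZero₁_iff_isIso₂ _ hT).1 (DerivedCategory.Q.map_isZero hO)
  exact ⟨O, C, 0, c, δ, fun i _ => hz i, fun i => inAddL_of_isZero (hz i), fun i => DCoh.isFinLocFree_of_isZero (hz i),
    hT, fun i hi => (DerivedCategory.isZero_of_isLE E b i (by omega)).of_iso
      (asIso ((DerivedCategory.homologyFunctor _ i).map c)).symm⟩

/-- A bounded complex of finite locally free modules is perfect. -/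
theorem isPerfect_Q (F : CochainComplex X.Modules ℤ) (hF : DCoh.IsStrictlyPerfect F) :
    DCoh.IsPerfect (DerivedCategory.Q.obj F) :=
  isPerfect_iff.2 fun x => ⟨X, 𝟙 X, inferInstance, ⟨x, rfl⟩,
    Strict.restrict ⟨F, hF, ⟨Iso.refl _⟩⟩ (𝟙 X)⟩

/-- Adding one term at the bottom. -/
theorem exists_stage_cons (F : CochainComplex X.Modules ℤ) (b k : ℤ) (hkb : k ≤ b + 1)
    (hF : ∀ i, i < k ∨ b < i → IsZero (F.X i)) {E C : DCoh.D X} {α : DerivedCategory.Q.obj F ⟶ E} {c : E ⟶ C}
    {δ : C ⟶ (DerivedCategory.Q.obj F)⟦(1 : ℤ)⟧} (hT : Triangle.mk α c δ ∈ distTriang _)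
    (hC : ∀ i, k ≤ i → IsZero (DCoh.HD C i)) {P : X.Modules}
    (φ : (DerivedCategory.singleFunctor X.Modules (k - 1)).obj P ⟶ C)
    (hφ : Epi ((DerivedCategory.homologyFunctor X.Modules (k - 1)).map φ)) :
    ∃ (g : (HomologicalComplex.single X.Modules (ComplexShape.up ℤ) k).obj P ⟶ F) (C' : DCoh.D X)
      (α' : DerivedCategory.Q.obj (CochainComplex.mappingCone g) ⟶ E) (c' : E ⟶ C')
      (δ' : C' ⟶ (DerivedCategory.Q.obj (CochainComplex.mappingCone g))⟦(1 : ℤ)⟧),
      Triangle.mk α' c' δ' ∈ distTriang _ ∧ (∀ i, k - 1 ≤ i → IsZero (DCoh.HD C' i)) ∧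
      (∀ i, i < k - 1 → Mono ((DerivedCategory.homologyFunctor X.Modules (k - 1)).map φ) →
        IsZero (DCoh.HD C i) → IsZero (DCoh.HD C' i)) ∧
      (∀ i, i < k - 1 ∨ b < i → i ≠ k - 1 → IsZero ((CochainComplex.mappingCone g).X i)) ∧
      (∀ i, i ≠ k - 1 → Nonempty ((CochainComplex.mappingCone g).X i ≅ F.X i)) ∧
      Nonempty ((CochainComplex.mappingCone g).X (k - 1) ≅ P) := by
  haveI : F.IsStrictlyGE k := (CochainComplex.isStrictlyGE_iff _ _).2 fun i hi => hF i (Or.inl hi)
  obtain ⟨C', c', δ', hT'⟩ := distinguished_cocone_triangle φ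
  obtain ⟨g, α', c'', δ'', hT''⟩ := exists_extend_complex F k hT hT'
  let S := (DerivedCategory.singleFunctor X.Modules (k - 1)).obj P
  let H := DerivedCategory.homologyFunctor X.Modules 0
  have hX : ∀ i, i ≠ k - 1 → Nonempty ((CochainComplex.mappingCone g).X i ≅ F.X i) := fun i hi =>
    ⟨HomologicalComplex.homotopyCofiber.XIsoBiprod g i (i + 1) rfl ≪≫
      (isoZeroBiprod (HomologicalComplex.isZero_single_obj_X _ _ _ _ (by omega))).symm⟩
  refine ⟨g, C', α', c'', δ'', hT'', fun i hi => ?_, fun i hi hm hCi => ?_, fun i hi hne => ?_, hX, ?_⟩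
  · refine (H.homologySequence_exact₃ _ hT' i (i + 1) rfl).isZero_of_both_zeros ?_
      ((DerivedCategory.isZero_of_isLE S (k - 1) (i + 1) (by omega)).eq_of_tgt _ _)
    rcases eq_or_lt_of_le hi with rfl | h
    · have h0 : (DerivedCategory.homologyFunctor X.Modules (k - 1)).map φ ≫
          (DerivedCategory.homologyFunctor X.Modules (k - 1)).map c' = 0 := by
        rw [← Functor.map_comp, show φ ≫ c' = 0 from comp_distTriang_mor_zero₁₂ _ hT', Functor.map_zero]
      haveI := hφ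
      exact (cancel_epi ((DerivedCategory.homologyFunctor X.Modules (k - 1)).map φ)).1 (h0.trans comp_zero.symm)
    · exact (hC i (by omega)).eq_of_src _ _
  · refine (H.homologySequence_exact₃ _ hT' i (i + 1) rfl).isZero_of_both_zeros (hCi.eq_of_src _ _) ?_
    rcases eq_or_lt_of_le (show i + 1 ≤ k - 1 by omega) with h | h
    · have h0 := H.homologySequenceδ_comp _ hT' i (i + 1) rfl
      haveI : Mono ((H.shift (i + 1)).map φ) := by rw [h]; exact hm
      exact (cancel_mono ((H.shift (i + 1)).map φ)).1 (h0.trans zero_comp.symm)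
    · exact (DerivedCategory.isZero_of_isGE S (k - 1) (i + 1) h).eq_of_tgt _ _
  · obtain ⟨e⟩ := hX i hne
    exact (hF i (by omega)).of_iso e
  · refine ⟨HomologicalComplex.homotopyCofiber.XIsoBiprod g (k - 1) (k - 1 + 1) rfl ≪≫
      (isoBiprodZero (hF (k - 1) (Or.inl (by omega)))).symm ≪≫ ?_⟩
    exact eqToIso (by rw [show k - 1 + 1 = k by omega]) ≪≫ HomologicalComplex.singleObjXSelf (ComplexShape.up ℤ) k P

/-- Going one step down. -/
theorem stage_step (hL : KSix.IsAmpleFamily L) {E : DCoh.D X} (hE : ∀ m : ℤ, DCoh.IsPseudoCoherentD m E)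
    {b k : ℤ} (hkb : k ≤ b + 1) (h : Stage L E b k) : Stage L E b (k - 1) := by
  obtain ⟨F, C, α, c, δ, hF, hadd, hfl, hT, hC⟩ := h
  have hCpc : ∀ m : ℤ, DCoh.IsPseudoCoherentD m C := fun m =>
    isPseudoCoherentD_cone hT (isPseudoCoherentD_of_isPerfect (isPerfect_Q F ⟨⟨k, b, hF⟩, hfl⟩) _) (hE m)
  obtain ⟨P, φ, hP, hPfl, hφ⟩ := exists_top_cover hL C hCpc (k - 1) fun i hi => hC i (by omega)
  obtain ⟨g, C', α', c', δ', hT', hC', -, hzero, hX, ⟨e⟩⟩ := exists_stage_cons F b k hkb hF hT hC φ hφ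
  refine ⟨CochainComplex.mappingCone g, C', α', c', δ', fun i hi => hzero i hi (by omega), fun i => ?_, fun i => ?_,
    hT', hC'⟩
  · by_cases hi : i = k - 1
    · subst hi; exact inAddL_of_iso e.symm hP
    · obtain ⟨e'⟩ := hX i hi
      exact inAddL_of_iso e'.symm (hadd i)
  · by_cases hi : i = k - 1
    · subst hi; exact DCoh.isFinLocFree_of_iso e.symm hPfl
    · obtain ⟨e'⟩ := hX i hi
      exact DCoh.isFinLocFree_of_iso e'.symm (hfl i)

/-- Stages exist in every degree. -/
theorem exists_stage (hL : KSix.IsAmpleFamily L) {E : DCoh.D X} (hE : ∀ m : ℤ, DCoh.IsPseudoCoherentD m E)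
    (b : ℤ) [E.IsLE b] : ∀ (r : ℕ), Stage L E b (b + 1 - r)
  | 0 => by simpa using stage_top E b
  | r + 1 => by
    have := stage_step hL hE (show b + 1 - (r : ℤ) ≤ b + 1 by omega) (exists_stage hL hE b r)
    rwa [show b + 1 - ((r + 1 : ℕ) : ℤ) = b + 1 - (r : ℤ) - 1 by push_cast; ring]

section Resolution

variable {A : Type u} [Category.{v} A] [Abelian A]

theorem exact_epi_mono {P' P W : A} {Z : A} (π : P ⟶ Z) (f : P' ⟶ kernel π) [Epi f] (g : Z ⟶ W) [Mono g] :
    (ShortComplex.mk (f ≫ kernel.ι π) (π ≫ g) (by simp)).Exact := by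
  rw [ShortComplex.exact_iff_exact_up_to_refinements]
  intro B x hx
  dsimp at hx
  have hx' : x ≫ π = 0 := (cancel_mono g).1 ((Category.assoc _ _ _).trans (hx.trans zero_comp.symm))
  obtain ⟨B', q, hq, y, hy⟩ := surjective_up_to_refinements_of_epi f (kernel.lift π x hx')
  refine ⟨B', q, hq, y, ?_⟩
  dsimp
  rw [← Category.assoc, ← hy, Category.assoc, kernel.lift_ι]

/-- Resolutions from covers with good kernels. -/
theorem exists_cover_resolution (Q R : A → Prop)
    (h : ∀ M, Q M → ∃ (P : A) (π : P ⟶ M), R P ∧ Epi π ∧ Q (kernel π)) (M : A) (hM : Q M) :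
    ∃ (K : ChainComplex A ℕ) (π : K ⟶ (ChainComplex.single₀ A).obj M), QuasiIso π ∧ ∀ n, R (K.X n) := by
  classical
  choose P π hR hπ hker using h
  let M' : ℕ → {N : A // Q N} := fun n => n.rec ⟨M, hM⟩ fun _ N => ⟨kernel (π N.1 N.2), hker N.1 N.2⟩
  let X : ℕ → A := fun n => P (M' n).1 (M' n).2
  let e : ∀ n, X n ⟶ (M' n).1 := fun n => π (M' n).1 (M' n).2
  have : ∀ n, Epi (e n) := fun n => hπ _ _
  let d : ∀ n, X (n + 1) ⟶ X n := fun n => e (n + 1) ≫ kernel.ι (e n)
  have hde : ∀ n, d n ≫ e n = 0 := fun n => (Category.assoc _ _ _).trans (by rw [kernel.condition, comp_zero])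
  let K : ChainComplex A ℕ := ChainComplex.of X d fun n => by
    show d (n + 1) ≫ e (n + 1) ≫ kernel.ι (e n) = 0
    exact (Category.assoc _ _ _).symm.trans ((congrArg (· ≫ kernel.ι (e n)) (hde (n + 1))).trans zero_comp)
  have hd : ∀ n, K.d (n + 1) n = d n := fun n => ChainComplex.of_d X d n
  refine ⟨K, (ChainComplex.toSingle₀Equiv K M).symm ⟨e 0, by rw [hd]; exact hde 0⟩, ⟨fun n => ?_⟩, fun n => hR _ _⟩
  cases n with
  | zero =>
    rw [ChainComplex.quasiIsoAt₀_iff, ShortComplex.quasiIso_iff_of_zeros']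
    · refine (ShortComplex.exact_and_epi_g_iff_of_iso (S₂ := ShortComplex.mk (d 0) (e 0) (hde 0)) ?_).2 ⟨?_, this 0⟩
      · exact ShortComplex.isoMk (Iso.refl _) (Iso.refl _) (Iso.refl _) (by simp [hd]) (by simp)
      · let i₀ : ShortComplex.mk (d 0) (e 0) (hde 0) ≅ ShortComplex.mk (e 1 ≫ kernel.ι (e 0)) (e 0 ≫ 𝟙 _) (by simp) :=
          ShortComplex.isoMk (Iso.refl (X 1)) (Iso.refl (X 0)) (Iso.refl _) (by simp [d]) (by simp)
        exact (ShortComplex.exact_iff_of_iso i₀).2 (exact_epi_mono (e 0) (e 1) (𝟙 _))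
    all_goals rfl
  | succ n =>
    rw [quasiIsoAt_iff_exactAt']
    · rw [HomologicalComplex.exactAt_iff' _ (n + 2) (n + 1) n (by simp) (by simp)]
      let i₁ : K.sc' (n + 2) (n + 1) n ≅ ShortComplex.mk (e (n + 2) ≫ kernel.ι (e (n + 1)))
          (e (n + 1) ≫ kernel.ι (e n)) (by simp) :=
        ShortComplex.isoMk (Iso.refl (X (n + 2))) (Iso.refl (X (n + 1))) (Iso.refl (X n)) ?_ ?_
      · exact (ShortComplex.exact_iff_of_iso i₁).2 (exact_epi_mono (e (n + 1)) (e (n + 2)) (kernel.ι (e n)))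
      · exact (Category.id_comp _).trans ((hd (n + 1)).symm.trans (Category.comp_id _).symm)
      · exact (Category.id_comp _).trans ((hd n).symm.trans (Category.comp_id _).symm)
    · apply ChainComplex.exactAt_succ_single_obj

end Resolution

/-- A module which is pseudo-coherent as a complex. -/
def IsPCMod (M : X.Modules) : Prop :=
  ∀ m : ℤ, DCoh.IsPseudoCoherentD m ((DerivedCategory.singleFunctor X.Modules 0).obj M)

theorem exists_pc_cover (hL : KSix.IsAmpleFamily L) (M : X.Modules) (hM : IsPCMod M) :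
    ∃ (P : X.Modules) (π : P ⟶ M), (KSix.InAddL L P ∧ FlatMod.IsFinLocFree P) ∧ Epi π ∧ IsPCMod (kernel π) := by
  obtain ⟨P, φ, hP, hPfl, hφ⟩ := exists_top_cover hL _ hM 0 fun i hi =>
    DerivedCategory.isZero_of_isLE _ 0 i hi
  obtain ⟨π, rfl⟩ := (DerivedCategory.singleFunctor X.Modules 0).map_surjective φ
  haveI : Epi π := by
    let e := DerivedCategory.singleFunctorCompHomologyFunctorIso X.Modules 0
    haveI := hφ
    haveI : Epi ((DerivedCategory.singleFunctor X.Modules 0 ⋙ DerivedCategory.homologyFunctor X.Modules 0).map π) := hφ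
    rw [show π = e.inv.app P ≫ (DerivedCategory.singleFunctor X.Modules 0 ⋙
      DerivedCategory.homologyFunctor X.Modules 0).map π ≫ e.hom.app M from
      (by rw [e.hom.naturality, Iso.inv_hom_id_app_assoc]; rfl)]
    infer_instance
  refine ⟨P, π, ⟨hP, hPfl⟩, inferInstance, fun m => ?_⟩
  let S := ShortComplex.mk (kernel.ι π) π (kernel.condition π)
  have hS : S.ShortExact := { exact := ShortComplex.exact_of_f_is_kernel _ (kernelIsKernel π) }
  have hPp : DCoh.IsPerfect ((DerivedCategory.singleFunctor X.Modules 0).obj P) :=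
    isPerfect_of_iso (isPerfect_single_of_finLocFree hPfl)
      ((DerivedCategory.singleFunctorIsoCompQ X.Modules 0).app _).symm
  have := (isPseudoCoherentD_triangle (m - 1) hS.singleTriangle_distinguished).2.2
    (isPseudoCoherentD_of_isPerfect hPp _) (hM _)
  rwa [sub_add_cancel] at this

/-- **Global resolutions of pseudo-coherent objects.** -/
theorem exists_pc_resolution (hL : KSix.IsAmpleFamily L) (E : DCoh.D X)
    (hE : ∀ m : ℤ, DCoh.IsPseudoCoherentD m E) (a b : ℤ) [E.IsGE a] [E.IsLE b] :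
    ∃ (F : CochainComplex X.Modules ℤ) (c : ℤ), (∀ i : ℤ, c < i → IsZero (F.X i)) ∧
      (∀ i : ℤ, KSix.InAddL L (F.X i)) ∧ Nonempty (DerivedCategory.Q.obj F ≅ E) := by
  let r := (b + 1 - (a - 1)).toNat
  obtain ⟨F, C, α, c, δ, hF, hadd, hfl, hT, hC⟩ := exists_stage hL hE b r
  let k : ℤ := b + 1 - r
  have hka : k ≤ a - 1 := by omega
  have hkb : k ≤ b + 1 := by omega
  haveI : F.IsStrictlyGE k := (CochainComplex.isStrictlyGE_iff _ _).2 fun i hi => hF i (Or.inl hi)
  haveI : C.IsLE (k - 1) := (DerivedCategory.isLE_iff _ _).2 fun i hi => hC i (by omega)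
  haveI : C.IsGE (k - 1) := (DerivedCategory.isGE_iff _ _).2 fun i hi =>
    ((DerivedCategory.homologyFunctor X.Modules 0).homologySequence_exact₃ _ hT i (i + 1) rfl).isZero_of_both_zeros
      ((DerivedCategory.isZero_of_isGE E a i (by omega)).eq_of_src _ _)
      ((DerivedCategory.isZero_of_isGE (DerivedCategory.Q.obj F) k (i + 1) (by omega)).eq_of_tgt _ _)
  obtain ⟨e⟩ := DerTrunc.nonempty_iso_single C (k - 1)
  let M := DCoh.HD C (k - 1)
  have hCpc : ∀ m : ℤ, DCoh.IsPseudoCoherentD m C := fun m =>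
    isPseudoCoherentD_cone hT (isPseudoCoherentD_of_isPerfect (isPerfect_Q F ⟨⟨k, b, hF⟩, hfl⟩) _) (hE m)
  have hM : IsPCMod M := fun m => isPseudoCoherentD_of_iso
    (isPseudoCoherentD_shift (hCpc (m + (k - 1))) (k - 1) m (by omega))
    ((shiftFunctor _ (k - 1)).mapIso e ≪≫
      (SingleFunctors.shiftIso (DerivedCategory.singleFunctors X.Modules) (k - 1) 0 (k - 1) (by omega)).app M)
  obtain ⟨g, C', α', c', δ', hT', hC', hlow, -, hX, -⟩ := exists_stage_cons F b k hkb hF hT hC e.inv inferInstance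
  have hz : IsZero C' := by
    have hiso : IsIso (0 : C' ⟶ C') := (DerivedCategory.isIso_iff _ _).2 fun i => by
      have : IsZero (DCoh.HD C' i) := by
        rcases lt_or_ge i (k - 1) with h | h
        · exact hlow i h inferInstance (DerivedCategory.isZero_of_isGE C (k - 1) i h)
        · exact hC' i h
      exact ⟨0, this.eq_of_src _ _, this.eq_of_src _ _⟩
    exact (IsZero.iff_id_eq_zero C').2 ((cancel_epi (0 : C' ⟶ C')).1 (by simp))
  haveI : IsIso α' := (Triangle.isZero₃_iff_isIso₁ _ hT').1 hz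
  obtain ⟨K, π, hπ, hK⟩ := exists_cover_resolution IsPCMod
    (fun P => KSix.InAddL L P ∧ FlatMod.IsFinLocFree P) (fun N hN => exists_pc_cover hL N hN) M hM
  let R₀ : CochainComplex X.Modules ℤ := K.extend ComplexShape.embeddingDownNat
  let ρ₀ : R₀ ⟶ (HomologicalComplex.single X.Modules (ComplexShape.up ℤ) 0).obj M :=
    (ComplexShape.embeddingDownNat.extendFunctor X.Modules).map π ≫
      (HomologicalComplex.extendSingleIso _ _ _ _ (by simp)).hom
  haveI : QuasiIso ρ₀ := by
    have : QuasiIso ((ComplexShape.embeddingDownNat.extendFunctor X.Modules).map π) :=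
      (HomologicalComplex.quasiIso_extendMap_iff π ComplexShape.embeddingDownNat).2 hπ
    exact quasiIso_comp _ _
  let R : CochainComplex X.Modules ℤ := R₀⟦-k⟧
  let sIso := (SingleFunctors.shiftIso (CochainComplex.singleFunctors X.Modules) (-k) k 0 (by omega)).app M
  let ρ : R ⟶ (HomologicalComplex.single X.Modules (ComplexShape.up ℤ) k).obj M := ρ₀⟦-k⟧' ≫ sIso.hom
  haveI : IsIso (DerivedCategory.Q.map ρ) := by
    haveI : IsIso (DerivedCategory.Q.map ρ₀) := (DerivedCategory.isIso_Q_map_iff_quasiIso _ _).2 inferInstance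
    haveI : IsIso (DerivedCategory.Q.map (ρ₀⟦-k⟧')) :=
      (NatIso.isIso_map_iff (DerivedCategory.Q.commShiftIso (-k)) ρ₀).2
        (inferInstanceAs (IsIso ((shiftFunctor _ (-k)).map (DerivedCategory.Q.map ρ₀))))
    rw [show DerivedCategory.Q.map ρ = DerivedCategory.Q.map (ρ₀⟦-k⟧') ≫ DerivedCategory.Q.map sIso.hom from
      DerivedCategory.Q.map_comp _ _]
    infer_instance
  have hR : ∀ i, k < i → IsZero (R.X i) := fun i hi =>
    HomologicalComplex.isZero_extend_X _ _ _ fun j => by show -(j : ℤ) ≠ i + -k; omega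
  have hRX : ∀ i, KSix.InAddL L (R.X i) := fun i => by
    by_cases hi : k < i
    · exact inAddL_of_isZero (hR i hi)
    · exact inAddL_of_iso (K.extendXIso ComplexShape.embeddingDownNat (i := (k - i).toNat) (i' := i + -k)
        (by show -((k - i).toNat : ℤ) = i + -k; omega)).symm (hK _).1
  refine ⟨CochainComplex.mappingCone (ρ ≫ g), max b (k - 1), fun i hi => ?_, fun i => ?_, ⟨?_⟩⟩
  · exact ((biprod_isZero_iff _ _).2 ⟨hR (i + 1) (by omega), hF i (Or.inr (by omega))⟩).of_iso
      (HomologicalComplex.homotopyCofiber.XIsoBiprod (ρ ≫ g) i (i + 1) rfl)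
  · let x := HomologicalComplex.homotopyCofiber.XIsoBiprod (ρ ≫ g) i (i + 1) rfl
    rcases lt_or_ge i k with h | h
    · exact inAddL_of_iso_biprod x (hRX (i + 1)) (hF i (Or.inl h))
    · exact inAddL_of_iso (isoZeroBiprod (hR (i + 1) (by omega)) ≪≫ x.symm) (hadd i)
  · let i' := isoTriangleOfIso₁₂ (DerivedCategory.Q.mapTriangle.obj (CochainComplex.mappingCone.triangle (ρ ≫ g)))
      (DerivedCategory.Q.mapTriangle.obj (CochainComplex.mappingCone.triangle g))
      (DerivedCategory.mappingCone_triangle_distinguished _) (DerivedCategory.mappingCone_triangle_distinguished _)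
      (asIso (DerivedCategory.Q.map ρ)) (Iso.refl _)
      (by exact (Category.comp_id _).trans (DerivedCategory.Q.map_comp _ _))
    exact Triangle.π₃.mapIso i' ≪≫ asIso α'

/-- The bottom cone of an approximation of an object of perfect amplitude `[m, n]` is locally free. -/
theorem isFinLocFree_bottom (F : CochainComplex X.Modules ℤ) (m n : ℤ)
    (hF : ∀ i, i < m + 1 ∨ n < i → IsZero (F.X i)) (hfl : ∀ i, FlatMod.IsFinLocFree (F.X i)) {E C : DCoh.D X}
    (hE : KSix.HasPerfectAmplitudeIn m n E) {α : DerivedCategory.Q.obj F ⟶ E} {c : E ⟶ C}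
    {δ : C ⟶ (DerivedCategory.Q.obj F)⟦(1 : ℤ)⟧} (hT : Triangle.mk α c δ ∈ distTriang _)
    (hC : ∀ i, m + 1 ≤ i → IsZero (DCoh.HD C i)) : FlatMod.IsFinLocFree (DCoh.HD C m) := by
  refine OX.isFinLocFree_of_local fun x => ?_
  obtain ⟨U, j, hj, ⟨y, rfl⟩, E', hE', hE'fl, ⟨a⟩⟩ := hasPerfectAmplitudeIn_iff.1 hE x
  have hFU : DCoh.IsStrictlyPerfect ((resCx j).obj F) := strictlyPerfect_resCx j ⟨⟨m + 1, n, hF⟩, hfl⟩
  let f : DerivedCategory.Q.obj ((resCx j).obj F) ⟶ DerivedCategory.Q.obj E' :=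
    (resDFac j).inv.app F ≫ (resD j).map α ≫ a.inv
  obtain ⟨V, β, hy, hβ⟩ := exists_resD_chain hFU f y
  let E'' := (resCx V.ι).obj E'
  let F'' := (resCx V.ι).obj ((resCx j).obj F)
  have hFz : ∀ i, i < m + 1 ∨ n < i → IsZero (F''.X i) := fun i hi =>
    (Scheme.Modules.restrictFunctor V.ι).map_isZero ((Scheme.Modules.restrictFunctor j).map_isZero (hF i hi))
  have hEz : ∀ i, i < m ∨ n < i → IsZero (E''.X i) := fun i hi =>
    (Scheme.Modules.restrictFunctor V.ι).map_isZero (hE' i hi)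
  have hM : DCoh.IsStrictlyPerfect (CochainComplex.mappingCone β) :=
    strictlyPerfect_mappingCone β (strictlyPerfect_resCx V.ι hFU)
      (strictlyPerfect_resCx V.ι ⟨⟨m, n, hE'⟩, hE'fl⟩)
  let C₂ := (resD V.ι).obj ((resD j).obj C)
  have hT₂ := (resD V.ι).map_distinguished _ ((resD j).map_distinguished _ hT)
  let e₁ : DerivedCategory.Q.obj F'' ≅ (resD V.ι).obj ((resD j).obj (DerivedCategory.Q.obj F)) :=
    ((resDFac V.ι).app _).symm ≪≫ (resD V.ι).mapIso ((resDFac j).app F).symm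
  let e₂ : DerivedCategory.Q.obj E'' ≅ (resD V.ι).obj ((resD j).obj E) :=
    ((resDFac V.ι).app _).symm ≪≫ (resD V.ι).mapIso a
  let i₃ := isoTriangleOfIso₁₂ _ _ (DerivedCategory.mappingCone_triangle_distinguished β) hT₂ e₁ e₂ (by
    show DerivedCategory.Q.map β ≫ e₂.hom = e₁.hom ≫ (resD V.ι).map ((resD j).map α)
    have h1 : (resD j).map α = (resDFac j).hom.app F ≫ f ≫ a.hom := by simp [f]
    rw [h1]
    simp only [e₁, e₂, Iso.trans_hom, Iso.symm_hom, Iso.app_inv, Functor.mapIso_hom, Functor.map_comp, hβ,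
      Category.assoc]
    rw [← reassoc_of% (Functor.map_comp (resD V.ι) ((resDFac j).inv.app F) ((resDFac j).hom.app F)),
      Iso.inv_hom_id_app]
    erw [CategoryTheory.Functor.map_id]
    erw [Category.id_comp, Iso.inv_hom_id_app_assoc])
  let e₃ : DerivedCategory.Q.obj (CochainComplex.mappingCone β) ≅ C₂ := Triangle.π₃.mapIso i₃
  let R₂ := Scheme.Modules.restrictFunctor V.ι
  let hd : ∀ i, (CochainComplex.mappingCone β).homology i ≅ R₂.obj ((Scheme.Modules.restrictFunctor j).obj (DCoh.HD C i)) :=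
    fun i => (hdIso (CochainComplex.mappingCone β) i).symm ≪≫ (DerivedCategory.homologyFunctor _ i).mapIso e₃ ≪≫
      HDResIso V.ι ((resD j).obj C) i ≪≫ R₂.mapIso (HDResIso j C i)
  have hex : ∀ i, m < i → (CochainComplex.mappingCone β).ExactAt i := fun i hi =>
    (HomologicalComplex.exactAt_iff_isZero_homology _ _).2 ((R₂.map_isZero
      ((Scheme.Modules.restrictFunctor j).map_isZero (hC i (by omega)))).of_iso (hd i))
  haveI := (CochainComplex.mappingCone β).isIso_homologyπ (m - 1) m (by simp) ((IsZero.of_iso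
    ((biprod_isZero_iff _ _).2 ⟨hFz (m - 1 + 1) (Or.inl (by omega)), hEz (m - 1) (Or.inl (by omega))⟩)
    (HomologicalComplex.homotopyCofiber.XIsoBiprod β (m - 1) (m - 1 + 1) rfl)).eq_of_src _ _)
  refine ⟨_, V.ι ≫ j, inferInstance, ⟨⟨y, hy⟩, rfl⟩, ?_⟩
  exact DCoh.isFinLocFree_of_iso (asIso ((CochainComplex.mappingCone β).homologyπ m) ≪≫ hd m ≪≫
    ((Scheme.Modules.restrictFunctorComp V.ι j).app _).symm) (isFinLocFree_cycles hM m hex)

/-- **Global resolutions of perfect objects.** -/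
theorem exists_perfect_resolution (hL : KSix.IsAmpleFamily L) (E : DCoh.D X) (m n : ℤ)
    (hE : KSix.HasPerfectAmplitudeIn m n E) :
    ∃ F : CochainComplex X.Modules ℤ, DCoh.VanishesOutside F m n ∧ (∀ i : ℤ, m < i → KSix.InAddL L (F.X i)) ∧
      FlatMod.IsFinLocFree (F.X m) ∧ Nonempty (DerivedCategory.Q.obj F ≅ E) := by
  have hflat := flatAmplitude_of_perfectAmplitude hE
  haveI := isGE_of_flatAmplitude hflat
  haveI := isLE_of_flatAmplitude hflat
  have hiso0 : ∀ (Z : DCoh.D X), (∀ i, IsZero (DCoh.HD Z i)) → IsZero Z := fun Z h => by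
    have : IsIso (0 : Z ⟶ Z) := (DerivedCategory.isIso_iff _ _).2 fun i => ⟨0, (h i).eq_of_src _ _, (h i).eq_of_src _ _⟩
    exact (IsZero.iff_id_eq_zero Z).2 ((cancel_epi (0 : Z ⟶ Z)).1 (by simp))
  rcases lt_or_ge n m with hmn | hmn
  · obtain ⟨O, hO⟩ : ∃ O : CochainComplex X.Modules ℤ, IsZero O := ⟨_, HomologicalComplex.isZero_zero⟩
    have hz : ∀ i, IsZero (O.X i) := fun i => (HomologicalComplex.eval _ _ i).map_isZero hO
    refine ⟨O, fun i _ => hz i, fun i _ => inAddL_of_isZero (hz i), DCoh.isFinLocFree_of_isZero (hz m),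
      ⟨(DerivedCategory.Q.map_isZero hO).iso (hiso0 E fun i => ?_)⟩⟩
    rcases lt_or_ge i m with h | h
    · exact DerivedCategory.isZero_of_isGE E m i h
    · exact DerivedCategory.isZero_of_isLE E n i (by omega)
  have hEpc : ∀ k : ℤ, DCoh.IsPseudoCoherentD k E := fun k =>
    isPseudoCoherentD_of_isPerfect (isPerfect_of_perfectAmplitude hE) k
  obtain ⟨F, C, α, c, δ, hF, hadd, hfl, hT, hC⟩ := exists_stage hL hEpc n (n - m).toNat
  rw [show n + 1 - ((n - m).toNat : ℤ) = m + 1 by omega] at hF hC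
  haveI : F.IsStrictlyGE (m + 1) := (CochainComplex.isStrictlyGE_iff _ _).2 fun i hi => hF i (Or.inl hi)
  haveI : C.IsLE m := (DerivedCategory.isLE_iff _ _).2 fun i hi => hC i (by omega)
  haveI : C.IsGE m := (DerivedCategory.isGE_iff _ _).2 fun i hi =>
    ((DerivedCategory.homologyFunctor X.Modules 0).homologySequence_exact₃ _ hT i (i + 1) rfl).isZero_of_both_zeros
      ((DerivedCategory.isZero_of_isGE E m i (by omega)).eq_of_src _ _)
      ((DerivedCategory.isZero_of_isGE (DerivedCategory.Q.obj F) (m + 1) (i + 1) (by omega)).eq_of_tgt _ _)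
  have hM := isFinLocFree_bottom F m n hF hfl hE hT hC
  obtain ⟨e⟩ := DerTrunc.nonempty_iso_single C m
  let e' : (DerivedCategory.singleFunctor X.Modules (m + 1 - 1)).obj (DCoh.HD C m) ≅ C :=
    eqToIso (by rw [show m + 1 - 1 = m by omega]) ≪≫ e.symm
  obtain ⟨g, C', α', c', δ', hT', hC', hlow, hzero, hX, ⟨eP⟩⟩ :=
    exists_stage_cons F n (m + 1) (by omega) hF hT hC e'.hom inferInstance
  haveI : IsIso α' := (Triangle.isZero₃_iff_isIso₁ _ hT').1 (hiso0 C' fun i => by
    rcases lt_or_ge i (m + 1 - 1) with h | h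
    · exact hlow i h inferInstance (DerivedCategory.isZero_of_isGE C m i (by omega))
    · exact hC' i h)
  refine ⟨CochainComplex.mappingCone g, fun i hi => hzero i (by omega) (by omega), fun i hi => ?_, ?_, ⟨asIso α'⟩⟩
  · obtain ⟨ei⟩ := hX i (by omega)
    exact inAddL_of_iso ei.symm (hadd i)
  · exact DCoh.isFinLocFree_of_iso (eP.symm ≪≫ eqToIso (by rw [show m + 1 - 1 = m by omega])) hM

end GrothLib.KSix19.ProjPush
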