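import Groth.Agent.Lib.KSix19.ProjPush.Torsion
import Groth.Agent.Lib.OX.KoszulOrth
import Groth.Agent.Lib.OX.ClosedPush
import Groth.Agent.Lib.Ample.CocTensor
import Groth.Agent.Lib.Ample.ModTwist
import Groth.Agent.Lib.OX.RRLocal

/-!
# The negative twists detect quasi-coherent objects when the loci of finitely many sections are an affine cover
-/

set_option autoImplicit false
set_option backward.isDefEq.respectTransparency false
set_option linter.style.haveILetI false
universe u

open CategoryTheory CategoryTheory.Limits AlgebraicGeometry TopologicalSpace Opposite Pretriangulated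
attribute [local instance] HasDerivedCategory.standard

noncomputable section

namespace GrothLib.KSix19.ProjPush

open GrothLib.Ample (Cocycle)
open OX

variable {X : Scheme.{u}} (c : Cocycle X)

set_option maxHeartbeats 1000000 in
theorem nonempty_nTwist_zero :
    Nonempty (NegTwist.nTwist c (Coh.structureModule X) 0 ≅ Coh.structureModule X) := by
  obtain ⟨q⟩ := (NegTwist.inv c).nonempty_tensor_modTwist (Coh.structureModule X) 0
  obtain ⟨t⟩ := (NegTwist.inv c).nonempty_twist_zero
  exact ⟨q.symm ≪≫ OX.tensorUnitLeftIso ((NegTwist.inv c).twist 0) ≪≫ t.symm⟩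

/-- Quasi-coherent objects on a spectrum without maps from shifts of the structure sheaf are zero. -/
theorem isZero_of_hom_structure {A : CommRingCat.{u}} {F : DCoh.D (Spec A)} (hF : DCoh.IsQCohD F)
    (h : ∀ (m : ℤ) (φ : (DerivedCategory.singleFunctor (Spec A).Modules m).obj (Coh.structureModule (Spec A)) ⟶ F), φ = 0) :
    IsZero F := by
  haveI := (tildeD_full_faithful_essImage (R := A)).2.1
  obtain ⟨N, ⟨e⟩⟩ := (tildeD_full_faithful_essImage (R := A)).2.2 F hF
  refine IsZero.of_iso ?_ e.symm
  refine (DCoh.tildeD A).map_isZero ?_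
  refine DR.isZero_of_homology N fun q => ?_
  have hz := DR.detector_koszul (A := A) [] N (fun f hf => absurd hf List.not_mem_nil) (-q) (fun φ => by
    obtain ⟨k₀⟩ := DR.koszul_nil_iso (A := A)
    let s : (DerivedCategory.singleFunctor (ModuleCat.{u} A) q).obj (ModuleCat.of A A) ≅
        ((DerivedCategory.Q.obj (Koszul.koszul A [])) : Dual.D A)⟦-q⟧ :=
      ((SingleFunctors.shiftIso (DerivedCategory.singleFunctors (ModuleCat.{u} A)) (-q) q 0 (by omega)).app _).symm ≪≫
        (shiftFunctor (Dual.D A) (-q)).mapIso k₀.symm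
    rw [← cancel_epi s.hom, comp_zero]
    apply (DCoh.tildeD A).map_injective
    rw [Functor.map_zero]
    let g : (DerivedCategory.singleFunctor (Spec A).Modules q).obj (Coh.structureModule (Spec A)) ≅
        (DCoh.tildeD A).obj ((DerivedCategory.singleFunctor (ModuleCat.{u} A) q).obj (ModuleCat.of A A)) :=
      (DerivedCategory.singleFunctor (Spec A).Modules q).mapIso ((genTopIso (Spec A)).symm ≪≫ tildeGenIso A) ≪≫
        (((tilde.functor A).mapDerivedCategorySingleFunctor q).app (ModuleCat.of A A)).symm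
    rw [← cancel_epi g.hom, ← cancel_mono e.hom, comp_zero, zero_comp]
    exact h q _)
  rwa [neg_neg] at hz

variable (a : c.sect 1 ⊤)

theorem isIso_resD_twMap {U : Scheme.{u}} (j : U ⟶ X) [IsOpenImmersion j] (hj : Set.range j ⊆ c.locus a)
    (m : ℤ) (k : ℕ) {p q : ℕ} (e : q + k = p) : IsIso ((resD j).map (twMap c a m k e)) := by
  haveI : IsIso ((Scheme.Modules.restrictFunctor j).map (NegTwist.negHom c (Coh.structureModule X) (apow c a k) e)) := by
    rw [Scheme.Modules.Hom.isIso_iff_isIso_app]
    intro W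
    exact (ConcreteCategory.isIso_iff_bijective _).2 (NegTwist.bijective_negHom_app c (apow c a k) e
      (fun x hx => locus_le_apow c a k (hj (by obtain ⟨y, -, rfl⟩ := hx; exact ⟨y, rfl⟩))))
  let α := (Scheme.Modules.restrictFunctor j).mapDerivedCategorySingleFunctor m
  have := α.hom.naturality (NegTwist.negHom c (Coh.structureModule X) (apow c a k) e)
  haveI : IsIso ((resD j).map (twMap c a m k e) ≫ α.hom.app _) := by
    erw [this]
    exact IsIso.comp_isIso' inferInstance
      (inferInstanceAs (IsIso ((DerivedCategory.singleFunctor U.Modules m).map _)))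
  exact IsIso.of_isIso_comp_right _ (α.hom.app _)

/-- Detection on an affine locus. -/
theorem isZero_resD_of_hom_tw [CompactSpace X] [QuasiSeparatedSpace X] {A : CommRingCat.{u}} (j : Spec A ⟶ X)
    [IsOpenImmersion j] (hj : Set.range j = (c.locus a : Set X)) {K : DCoh.D X} (hK : DCoh.IsQCohD K)
    (h : ∀ (p : ℕ) (m : ℤ) (φ : tw c m p ⟶ K), φ = 0) : IsZero ((resD j).obj K) := by
  haveI : QuasiCompact j := quasiCompact_of_isCompact_range j
    (by rw [← Set.image_univ]; exact isCompact_univ.image j.continuous)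
  refine isZero_of_hom_structure (isQCohD_resD j hK) fun m φ₀ => ?_
  obtain ⟨z⟩ := nonempty_nTwist_zero c
  let t : (resD j).obj (tw c m 0) ≅ (DerivedCategory.singleFunctor (Spec A).Modules m).obj (Coh.structureModule (Spec A)) :=
    ((Scheme.Modules.restrictFunctor j).mapDerivedCategorySingleFunctor m).app _ ≪≫
      (DerivedCategory.singleFunctor (Spec A).Modules m).mapIso
        ((Scheme.Modules.restrictFunctor j).mapIso z ≪≫ Scheme.Modules.restrictUnitIso j)
  suffices ∀ φ : (resD j).obj (tw c m 0) ⟶ (resD j).obj K, φ = 0 by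
    rw [← cancel_epi t.hom, comp_zero]; exact this _
  intro φ
  let adj := resDAdj j
  obtain ⟨C, q, d, hT⟩ := distinguished_cocone_triangle (adj.unit.app K)
  have hR : DCoh.IsQCohD ((RR j).obj ((resD j).obj K)) := isQCohD_Rres j _ (isQCohD_resD j hK)
  have hC : DCoh.IsQCohD C := isQCohD_obj₃ hT hK hR
  have hCW : IsZero ((resD (c.locus a).ι).obj C) := by
    have hCj : IsZero ((resD j).obj C) :=
      (Triangle.isZero₃_iff_isIso₁ _ ((resD j).map_distinguished _ hT)).2 (isIso_resD_unit j K)
    exact isZero_resD_of_le _ _ (by rw [Scheme.Opens.range_ι, hj]) hCj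
  obtain ⟨k, hk⟩ := exists_twMap_eq_zero c a m 0 hC hCW (adj.homEquiv _ _ φ ≫ q)
  obtain ⟨χ, hχ⟩ : ∃ χ : tw c m (0 + k) ⟶ K,
      twMap c a m k rfl ≫ adj.homEquiv _ _ φ = χ ≫ adj.unit.app K :=
    Triangle.coyoneda_exact₂ _ hT _ ((Category.assoc _ _ _).trans (hk _ rfl))
  rw [h _ _ χ, zero_comp, ← Adjunction.homEquiv_naturality_left] at hχ
  have h0 : (resD j).map (twMap c a m k (rfl : 0 + k = 0 + k)) ≫ φ = 0 :=
    (adj.homEquiv _ _).injective (hχ.trans (by rw [adj.homEquiv_unit, Functor.map_zero, comp_zero]))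
  haveI := isIso_resD_twMap c a j hj.le m k (rfl : 0 + k = 0 + k)
  rwa [← cancel_epi ((resD j).map (twMap c a m k (rfl : 0 + k = 0 + k))), comp_zero]

/-- **Detection.** -/
theorem isZero_of_hom_tw [CompactSpace X] [QuasiSeparatedSpace X] {ι : Type*} (a : ι → c.sect 1 ⊤)
    (hcov : ∀ x : X, ∃ l, x ∈ c.locus (a l)) (haff : ∀ l, IsAffineOpen (c.locus (a l))) {K : DCoh.D X}
    (hK : DCoh.IsQCohD K) (h : ∀ (p : ℕ) (m : ℤ) (φ : tw c m p ⟶ K), φ = 0) : IsZero K := by
  refine isZero_of_support_empty fun q => Set.eq_empty_iff_forall_notMem.2 fun x hx => ?_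
  obtain ⟨l, hl⟩ := hcov x
  exact (isZero_resD_iff_support (haff l).fromSpec K).1
    (isZero_resD_of_hom_tw c (a l) (haff l).fromSpec (haff l).range_fromSpec hK h) q hx
    (by rw [(haff l).range_fromSpec]; exact hl)

end GrothLib.KSix19.ProjPush
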