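import Groth.Agent.Lib.KSix19.ProjPush.PCoh
import Groth.Agent.Lib.KSix19.PushPC
import Groth.Agent.Lib.KSix19.SmoothPush
import Groth.Agent.Lib.KSix19.RelOps
import Groth.Agent.Lib.OX.RpushQCoh
import Groth.Agent.Lib.KSix19.RelNoeth.Perf
import Groth.Agent.Lib.RLpsi8.PCSource

/-!
# Direct images from closed subschemes of a projective space
-/

set_option autoImplicit false
set_option backward.isDefEq.respectTransparency false
set_option linter.style.haveILetI false
set_option maxHeartbeats 1000000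
universe u

open CategoryTheory CategoryTheory.Limits AlgebraicGeometry HomologicalComplex
attribute [local instance] HasDerivedCategory.standard

noncomputable section

namespace GrothLib.KSix19.ProjPush

open CohB1 OX GrothLib.KSix19

variable {X Z : Scheme.{u}} (i : X ⟶ Z) [IsClosedImmersion i]

/-- The derived direct image along a closed immersion is the termwise direct image. -/
def rresPushDIso (E : DCoh.D X) : (RR i).obj E ≅ (pushD i).obj E :=
  ((Scheme.Modules.pushforward i).mapDerivedCategoryFactorsh.app ((KInj.res X.Modules).obj E)).symm ≪≫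
    (pushD i).mapIso ((asIso (KInj.resAdj X.Modules).counit).app E)

theorem nonempty_RR_toD (F : CochainComplex X.Modules ℤ) :
    Nonempty ((RR i).obj (DCoh.toD X F) ≅ DCoh.toD Z ((DerSch.pushCx i).obj F)) :=
  ⟨rresPushDIso i _ ≪≫ pushDFac i F⟩

/-- `Rf_*` for a morphism factoring through a closed immersion. -/
theorem nonempty_Rpush_comp {Y : Scheme.{u}} (g : Z ⟶ Y) [DCoh.HasRpush (i ≫ g)] (F : CochainComplex X.Modules ℤ) :
    Nonempty ((DCoh.Rpush (i ≫ g)).obj (DCoh.toD X F) ≅ (RR g).obj (DCoh.toD Z ((DerSch.pushCx i).obj F))) :=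
  ⟨(rpushIsoRres _).app _ ≪≫ ((RRCompIso i g).app _).symm ≪≫ (RR g).mapIso (nonempty_RR_toD i F).some⟩

theorem isGE_push (F : CochainComplex X.Modules ℤ) (b : ℤ) [(DCoh.toD X F).IsGE b] :
    (DCoh.toD Z ((DerSch.pushCx i).obj F)).IsGE b := by
  haveI := isGE_RR i (DCoh.toD X F) b
  exact DerivedCategory.TStructure.t.isGE_of_iso (nonempty_RR_toD i F).some b

instance smooth_toBase (r : ℕ) (Y : Scheme.{u}) : Smooth (ProjSpaceOver.toBase r Y) :=
  ProjPic26.smooth_toBase Y

/-- Objects perfect relative to the base push forward to perfect objects. -/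
theorem isPerfect_Rpush_of_isPerfectRel {Y : Scheme.{u}} (r : ℕ) (i : X ⟶ ProjSpaceOver r Y) [IsClosedImmersion i]
    [DCoh.HasRpush (i ≫ ProjSpaceOver.toBase r Y)] (F : CochainComplex X.Modules ℤ)
    (hF : DerSch.IsPerfectRel (i ≫ ProjSpaceOver.toBase r Y) F) :
    DCoh.IsPerfect ((DCoh.Rpush (i ≫ ProjSpaceOver.toBase r Y)).obj (DCoh.toD X F)) :=
  isPerfect_of_iso (isPerfect_RR_toBase r Y ((isPerfectRel_iff_push i (ProjSpaceOver.toBase r Y) F).1 hF))
    (nonempty_Rpush_comp i (ProjSpaceOver.toBase r Y) F).some.symm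

/-- Bounded below objects pseudo-coherent relative to the base push forward to pseudo-coherent objects. -/
theorem isPseudoCoherentD_Rpush_of_rel {Y : Scheme.{u}} (r : ℕ) (i : X ⟶ ProjSpaceOver r Y) [IsClosedImmersion i]
    [DCoh.HasRpush (i ≫ ProjSpaceOver.toBase r Y)] (E : DCoh.D X) (b : ℤ) [E.IsGE b]
    (hE : DerSch.IsPseudoCoherentRelAll (i ≫ ProjSpaceOver.toBase r Y) E) (m : ℤ) :
    DCoh.IsPseudoCoherentD m ((DCoh.Rpush (i ≫ ProjSpaceOver.toBase r Y)).obj E) := by
  let G := DerivedCategory.Q.objPreimage E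
  let e : DCoh.toD X G ≅ E := DerivedCategory.Q.objObjPreimageIso E
  haveI : (DCoh.toD X G).IsGE b := DerivedCategory.TStructure.t.isGE_of_iso e.symm b
  haveI := isGE_push i G b
  refine isPseudoCoherentD_of_iso (isPseudoCoherentD_RR_toBase r Y _ b (fun k => ?_) m)
    ((nonempty_Rpush_comp i (ProjSpaceOver.toBase r Y) G).some.symm ≪≫ (DCoh.Rpush _).mapIso e)
  exact (isPseudoCoherentRel_closedImmersion_iff i (ProjSpaceOver.toBase r Y)
    (fun j => isNPseudoCoherent_of_flat _ j) k G).1 (isPseudoCoherentRel_of_iso e.symm (hE k))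

/-- A perfect object is perfect relative to a perfect morphism. -/
theorem isPerfectRel_of_perfectMor {Y : Scheme.{u}} (f : X ⟶ Y) (hf : MoreMor.IsPerfectMor f)
    (G : CochainComplex X.Modules ℤ) (hG : DCoh.IsPerfect (DCoh.toD X G)) : DerSch.IsPerfectRel f G := by
  have hpc : MoreMor.IsPseudoCoherentMor f := fun U V hU hV h => (hf U V hU hV h).1
  obtain ⟨hlft, hn⟩ := (GrothLib.RLpsi8.PCSource.isPseudoCoherentMor_iff f).1 hpc
  refine ⟨fun m => (isPseudoCoherentD_iff_rel hn).1 (isPseudoCoherentD_of_isPerfect hG m), fun x => ?_⟩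
  obtain ⟨V, c, b, hx, hV⟩ := locHasFiniteTorDim_of_isPerfect hG x
  obtain ⟨V₁, n, hx₁, hn₁⟩ := RpushAmp.exists_torDim_near (RelNoeth.locFiniteTorDim_of_perfectMor hf) x
  refine ⟨V ⊓ V₁, c - n, b, ⟨hx, hx₁⟩, fun x' hx' => ?_⟩
  have h1 : DCoh.HasFlatAmplitudeIn c b (DCoh.toD V.toScheme ((resCx V.ι).obj G)) := hV _ ⟨Iso.refl _⟩
  have h2 : DerSch.HasTorAmplitudeAt (𝟙 _) c b G x' :=
    (hasTorAmplitudeAt_id_restrict_iff V.ι ⟨x', hx'.1⟩ c b _).1 (stalks_of_flatAmplitude h1 _)
  have h3 := hasTorAmplitudeAt_comp (𝟙 X) f x' n (hn₁ x' hx'.2) h2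
  rw [Category.id_comp] at h3
  exact h3

end GrothLib.KSix19.ProjPush
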