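import Groth.Agent.Lib.KSix19.ProjPush.KoszulTwist
import Groth.Agent.Lib.KSix19.ProjPush.Detect
import Groth.Agent.Lib.DerCat.BoundedDevissage
import Groth.Agent.Lib.FilRep19.Main

/-!
# The twists `O, O(-1), …, O(-n)` generate
-/

set_option autoImplicit false
set_option backward.isDefEq.respectTransparency false
set_option linter.style.haveILetI false
universe u

open CategoryTheory CategoryTheory.Limits AlgebraicGeometry TopologicalSpace Opposite Pretriangulated
attribute [local instance] HasDerivedCategory.standard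

noncomputable section

namespace GrothLib.KSix19.ProjPush

section Thick

variable {C : Type*} [Category C] [Abelian C] [HasDerivedCategory C] {P : DerivedCategory C → Prop}

theorem thick_single_shift (hP : TriCat.Thick P) {M : C} (h : P ((DerivedCategory.singleFunctor C 0).obj M)) (i : ℤ) :
    P ((DerivedCategory.singleFunctor C i).obj M) :=
  hP.of_iso ((SingleFunctors.shiftIso (DerivedCategory.singleFunctors C) (-i) i 0 (by omega)).app M)
    (hP.shift (-i) h)

theorem thick_single_sigma [HasFiniteCoproducts C] (hP : TriCat.Thick P) {M : C} (i : ℤ)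
    (h : P ((DerivedCategory.singleFunctor C i).obj M)) :
    ∀ k : ℕ, P ((DerivedCategory.singleFunctor C i).obj (∐ fun _ : Fin k => M))
  | 0 => hP.zero ((DerivedCategory.singleFunctor C i).map_isZero
      ((IsZero.iff_id_eq_zero _).2 (Sigma.hom_ext _ _ fun k : Fin 0 => k.elim0)))
  | k + 1 => by
    obtain ⟨e₁⟩ := nonempty_sigma_one M
    obtain ⟨e⟩ := nonempty_biprod_sigma M k 1 (k + 1) rfl
    refine hP.of_iso ((DerivedCategory.singleFunctor C i).mapIso e) ?_
    haveI := preservesBinaryBiproduct_of_preservesBiproduct (DerivedCategory.singleFunctor C i)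
      (∐ fun _ : Fin k => M) (∐ fun _ : Fin 1 => M)
    exact hP.of_iso ((DerivedCategory.singleFunctor C i).mapBiprod _ _).symm
      (hP.biprod (thick_single_sigma hP i h k) (hP.of_iso ((DerivedCategory.singleFunctor C i).mapIso e₁) h))

/-- The bottom term of an acyclic bounded complex lies in any thick subcategory containing the others. -/
theorem thick_single_of_acyclic (hP : TriCat.Thick P) (E : CochainComplex C ℤ) (hE : ∀ i, E.ExactAt i) (m : ℕ)
    (hb : ∀ i : ℤ, i < 0 ∨ (m : ℤ) < i → IsZero (E.X i))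
    (hX : ∀ i : ℤ, 0 < i → P ((DerivedCategory.singleFunctor C i).obj (E.X i))) :
    P ((DerivedCategory.singleFunctor C 0).obj (E.X 0)) := by
  let p : E ⟶ (HomologicalComplex.single C (ComplexShape.up ℤ) 0).obj (E.X 0) :=
    HomologicalComplex.mkHomToSingle (𝟙 _) fun i hi => (hb i (Or.inl (by simp at hi; omega))).eq_of_src _ _
  have hp : p.f 0 = (HomologicalComplex.singleObjXSelf (ComplexShape.up ℤ) 0 (E.X 0)).inv := by simp [p]
  have : Epi p := by
    refine @HomologicalComplex.epi_of_epi_f _ _ _ _ _ _ _ p fun i => ?_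
    by_cases h : i = 0
    · subst h; rw [hp]; infer_instance
    · exact ⟨fun g g' _ => (HomologicalComplex.isZero_single_obj_X _ _ _ _ h).eq_of_src g g'⟩
  let S : ShortComplex (CochainComplex C ℤ) := ShortComplex.mk (kernel.ι p) p (kernel.condition p)
  have hS : S.ShortExact := { exact := ShortComplex.exact_kernel p }
  let e : ∀ i, (kernel p).X i ≅ kernel (p.f i) := fun i =>
    PreservesKernel.iso (HomologicalComplex.eval C (ComplexShape.up ℤ) i) p
  have hz : IsZero ((kernel p).X 0) := by
    have : IsIso (p.f 0) := by rw [hp]; infer_instance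
    exact (isZero_kernel_of_mono (p.f 0)).of_iso (e 0)
  have hK : ∀ i, i ≠ 0 → Nonempty ((kernel p).X i ≅ E.X i) := fun i hi => by
    have h0 : p.f i = 0 := (HomologicalComplex.isZero_single_obj_X _ _ _ _ hi).eq_of_tgt _ _
    exact ⟨e i ≪≫ eqToIso (by rw [h0]) ≪≫ kernelZeroIsoSource⟩
  have h1 : P (DerivedCategory.Q.obj (kernel p)) := by
    refine DerCat.prop_Q_of_bounded hP m (kernel p) 1 (fun i hi => ?_) (fun i => ?_)
    · rcases eq_or_ne i 0 with rfl | h
      · exact hz
      · obtain ⟨ei⟩ := hK i h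
        exact (hb i (by omega)).of_iso ei
    · rcases eq_or_ne i 0 with rfl | h
      · exact hP.zero ((DerivedCategory.singleFunctor C 0).map_isZero hz)
      · obtain ⟨ei⟩ := hK i h
        refine hP.of_iso ((DerivedCategory.singleFunctor C i).mapIso ei).symm ?_
        rcases lt_or_gt_of_ne h with h' | h'
        · exact hP.zero ((DerivedCategory.singleFunctor C i).map_isZero (hb i (Or.inl h')))
        · exact hX i h'
  have h2 : P (DerivedCategory.Q.obj E) := hP.zero (FilRep19.isZero_Q_of_acyclic E hE)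
  have h3 := hP.cone _ (DerivedCategory.triangleOfSES_distinguished hS) h1 h2
  exact hP.of_iso (((SingleFunctors.evaluation _ _ 0).mapIso
    (DerivedCategory.singleFunctorsPostcompQIso C)).app (E.X 0)).symm h3

theorem thick_homOrth (K : DerivedCategory C) :
    TriCat.Thick (fun A : DerivedCategory C => ∀ (j : ℤ) (φ : A⟦j⟧ ⟶ K), φ = 0) where
  zero h j φ := ((shiftFunctor _ j).map_isZero h).eq_of_src _ _
  shift {A} k hA j φ := by
    let e := (shiftFunctorAdd (DerivedCategory C) k j).app A
    rw [← cancel_epi e.hom, comp_zero]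
    exact hA (k + j) (e.hom ≫ φ)
  total {A B X} i₁ p₁ i₂ p₂ h hA hB j φ := by
    rw [← Category.id_comp φ, ← CategoryTheory.Functor.map_id, ← h, Functor.map_add, Preadditive.add_comp,
      Functor.map_comp, Functor.map_comp, Category.assoc, Category.assoc, hA j ((shiftFunctor _ j).map i₁ ≫ φ), hB j ((shiftFunctor _ j).map i₂ ≫ φ), comp_zero, comp_zero,
      add_zero]
  cone T hT h₁ h₂ j φ := by
    obtain ⟨ψ, hψ⟩ : ∃ ψ, φ = ((shiftFunctor _ j).obj T).mor₃ ≫ ψ :=
      Triangle.yoneda_exact₃ _ (Triangle.shift_distinguished T hT j) φ (h₂ j _)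
    rw [hψ]
    have h0 : ψ = 0 := by
      let e := (shiftFunctorAdd (DerivedCategory C) j 1).app T.obj₁
      rw [← cancel_epi e.hom, comp_zero]
      exact h₁ (j + 1) (e.hom ≫ ψ)
    rw [h0, comp_zero]

end Thick

variable (n : ℕ) (A : Type u) [CommRing A]

/-- All negative twists lie in the thick subcategory of the first `n + 1`. -/
theorem thick_twist_neg {P : DCoh.D (CohB1.ProjSpace n A) → Prop} (hP : TriCat.Thick P)
    (h : ∀ d : ℕ, d ≤ n → P (DCoh.inD _ (Twist.twistProjSpace n A (-(d : ℤ))))) (p : ℕ) :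
    P (DCoh.inD _ (Twist.twistProjSpace n A (-(p : ℤ)))) := by
  induction p using Nat.strong_induction_on with
  | _ p ih =>
    by_cases hp : p ≤ n
    · exact h p hp
    let c := Ample.ProjMap.pcoc n A
    let s := coordSeq n A
    let M := Twist.twistProjSpace n A (-(p : ℤ))
    let E := kosCx c s (n + 1) M
    have hterm : ∀ i : ℕ, Nonempty (E.X (i : ℤ) ≅
        ∐ fun _ : Fin ((n + 1).choose i) => Twist.twistProjSpace n A (-(p : ℤ) + i)) := fun i => by
      obtain ⟨e⟩ := nonempty_kos_term c s (n + 1) i M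
      obtain ⟨g⟩ := nonempty_twPow_twist n A i (-(p : ℤ))
      exact ⟨kosCxIso c s (n + 1) M i ≪≫ e ≪≫ Sigma.mapIso fun _ => g⟩
    obtain ⟨e₀⟩ : Nonempty (E.X 0 ≅ M) := by
      obtain ⟨e⟩ := hterm 0
      exact ⟨e ≪≫ (Sigma.reindex (finCongr (Nat.choose_zero_right _).symm) _).symm ≪≫
        coproductUniqueIso _ ≪≫ eqToIso (by simp [M])⟩
    refine hP.of_iso ((DerivedCategory.singleFunctor _ 0).mapIso e₀) (thick_single_of_acyclic hP E
      (exactAt_kosCx c s (n + 1) M (exists_mem_locus_coordSeq n A)) (n + 1)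
      (fun i hi => isZero_kosCx c s (n + 1) M i hi) fun i hi => ?_)
    obtain ⟨i, rfl⟩ : ∃ j : ℕ, (j : ℤ) = i := ⟨i.toNat, by omega⟩
    by_cases hin : n + 1 < i
    · exact hP.zero ((DerivedCategory.singleFunctor _ _).map_isZero (isZero_kosCx c s (n + 1) M i (by omega)))
    obtain ⟨e⟩ := hterm i
    refine hP.of_iso ((DerivedCategory.singleFunctor _ _).mapIso e).symm
      (thick_single_sigma hP _ (thick_single_shift hP ?_ _) _)
    have := ih (p - i) (by omega)
    rwa [show -((p - i : ℕ) : ℤ) = -(p : ℤ) + i by omega] at this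

end GrothLib.KSix19.ProjPush
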