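import Groth.Agent.Lib.KSix19.ProjPush.Serre
import Groth.Agent.Lib.KSix19.ProjPush.Generate
import Groth.Agent.Lib.KSix19.ProjPush.PCoh
import Groth.Agent.Lib.OX.RpushQCoh

/-!
# Pseudo-coherence on a projective space is detected by the direct images of `n + 1` twists
-/

set_option autoImplicit false
set_option backward.isDefEq.respectTransparency false
set_option linter.style.haveILetI false
set_option maxHeartbeats 1000000
universe u

open CategoryTheory CategoryTheory.Limits AlgebraicGeometry TopologicalSpace Opposite Pretriangulated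
attribute [local instance] HasDerivedCategory.standard

noncomputable section

namespace GrothLib.KSix19.ProjPush

open CohB1 OX

section OneSided

variable {C : Type*} [Category C] [Abelian C] [HasDerivedCategory C]

/-- Dévissage of bounded complexes along extensions only. -/
theorem prop_Q_of_bounded_ext {P : DerivedCategory C → Prop} (h0 : ∀ {Z}, IsZero Z → P Z)
    (hiso : ∀ {A B}, (A ≅ B) → P A → P B)
    (hext : ∀ T ∈ distTriang (DerivedCategory C), P T.obj₁ → P T.obj₃ → P T.obj₂) :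
    ∀ (m : ℕ) (E : CochainComplex C ℤ) (a : ℤ), (∀ i : ℤ, i < a ∨ a + m ≤ i → IsZero (E.X i)) →
      (∀ i, P ((DerivedCategory.singleFunctor C i).obj (E.X i))) → P (DerivedCategory.Q.obj E)
  | 0, E, a, hE, _ => by
    refine h0 (DerivedCategory.Q.map_isZero ?_)
    rw [IsZero.iff_id_eq_zero]
    ext i
    exact (hE i (by omega)).eq_of_src _ _
  | m + 1, E, a, hE, hX => by
    let p : E ⟶ (HomologicalComplex.single C (ComplexShape.up ℤ) a).obj (E.X a) :=
      HomologicalComplex.mkHomToSingle (𝟙 _) fun i hi => (hE i (Or.inl (by simp at hi; omega))).eq_of_src _ _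
    have hp : p.f a = (HomologicalComplex.singleObjXSelf (ComplexShape.up ℤ) a (E.X a)).inv := by simp [p]
    have : Epi p := by
      refine @HomologicalComplex.epi_of_epi_f _ _ _ _ _ _ _ p fun i => ?_
      by_cases h : i = a
      · subst h; rw [hp]; infer_instance
      · exact ⟨fun g g' _ => (HomologicalComplex.isZero_single_obj_X _ _ _ _ h).eq_of_src g g'⟩
    let S : ShortComplex (CochainComplex C ℤ) := ShortComplex.mk (kernel.ι p) p (kernel.condition p)
    have hS : S.ShortExact := { exact := ShortComplex.exact_kernel p }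
    refine hext _ (DerivedCategory.triangleOfSES_distinguished hS) ?_ ?_
    · let e : ∀ i, (kernel p).X i ≅ kernel (p.f i) := fun i =>
        PreservesKernel.iso (HomologicalComplex.eval C (ComplexShape.up ℤ) i) p
      have hz : IsZero ((kernel p).X a) := by
        have : IsIso (p.f a) := by rw [hp]; infer_instance
        exact (isZero_kernel_of_mono (p.f a)).of_iso (e a)
      have hK : ∀ i, i ≠ a → Nonempty ((kernel p).X i ≅ E.X i) := fun i hi => by
        have h0 : p.f i = 0 := (HomologicalComplex.isZero_single_obj_X _ _ _ _ hi).eq_of_tgt _ _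
        exact ⟨e i ≪≫ eqToIso (by rw [h0]) ≪≫ kernelZeroIsoSource⟩
      refine prop_Q_of_bounded_ext h0 hiso hext m (kernel p) (a + 1) (fun i hi => ?_) (fun i => ?_)
      · rcases eq_or_ne i a with rfl | h
        · exact hz
        · obtain ⟨ei⟩ := hK i h
          exact (hE i (by omega)).of_iso ei
      · rcases eq_or_ne i a with rfl | h
        · exact h0 ((DerivedCategory.singleFunctor C i).map_isZero hz)
        · obtain ⟨ei⟩ := hK i h
          exact hiso ((DerivedCategory.singleFunctor C i).mapIso ei).symm (hX i)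
    · exact hiso (((SingleFunctors.evaluation _ _ a).mapIso
        (DerivedCategory.singleFunctorsPostcompQIso C)).app (E.X a)) (hX a)

/-- No maps out of the single objects of finitely many copies. -/
theorem hom_single_sigma_eq_zero [HasFiniteCoproducts C] {M : C} {i : ℤ} {W : DerivedCategory C}
    (h : ∀ φ : (DerivedCategory.singleFunctor C i).obj M ⟶ W, φ = 0) :
    ∀ (k : ℕ) (φ : (DerivedCategory.singleFunctor C i).obj (∐ fun _ : Fin k => M) ⟶ W), φ = 0
  | 0, φ => ((DerivedCategory.singleFunctor C i).map_isZero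
      ((IsZero.iff_id_eq_zero _).2 (Sigma.hom_ext _ _ fun k : Fin 0 => k.elim0))).eq_of_src _ _
  | k + 1, φ => by
    obtain ⟨e₁⟩ := nonempty_sigma_one M
    obtain ⟨e⟩ := nonempty_biprod_sigma M k 1 (k + 1) rfl
    let F := DerivedCategory.singleFunctor C i
    have h1 : F.map (biprod.inl ≫ e.hom) ≫ φ = 0 := hom_single_sigma_eq_zero h k _
    have h2 : F.map (e₁.hom ≫ biprod.inr ≫ e.hom) ≫ φ = 0 := h _
    rw [Functor.map_comp F e₁.hom, Category.assoc, Preadditive.IsIso.comp_left_eq_zero] at h2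
    rw [← Category.id_comp φ, ← CategoryTheory.Functor.map_id, ← e.inv_hom_id, ← Category.id_comp e.hom,
      ← biprod.total (X := ∐ fun _ : Fin k => M) (Y := ∐ fun _ : Fin 1 => M)]
    simp only [Preadditive.add_comp, Preadditive.comp_add, Category.assoc, Functor.map_comp, Functor.map_add] at h1 h2 ⊢
    rw [h1, h2, comp_zero, comp_zero, comp_zero, comp_zero, add_zero]

/-- Maps out of the bottom term of an acyclic bounded complex. -/
theorem hom_single_of_acyclic (E : CochainComplex C ℤ) (hE : ∀ i, E.ExactAt i) (m : ℕ)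
    (hb : ∀ i : ℤ, i < 0 ∨ (m : ℤ) < i → IsZero (E.X i)) (W : DerivedCategory C) (j : ℤ)
    (hX : ∀ (i : ℤ), 0 < i → ∀ φ : (DerivedCategory.singleFunctor C (i + j - 1)).obj (E.X i) ⟶ W, φ = 0)
    (φ : (DerivedCategory.singleFunctor C j).obj (E.X 0) ⟶ W) : φ = 0 := by
  let p : E ⟶ (HomologicalComplex.single C (ComplexShape.up ℤ) 0).obj (E.X 0) :=
    HomologicalComplex.mkHomToSingle (𝟙 _) fun i hi => (hb i (Or.inl (by simp at hi; omega))).eq_of_src _ _
  have hp : p.f 0 = (HomologicalComplex.singleObjXSelf (ComplexShape.up ℤ) 0 (E.X 0)).inv := by simp [p]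
  have : Epi p := by
    refine @HomologicalComplex.epi_of_epi_f _ _ _ _ _ _ _ p fun i => ?_
    by_cases h : i = 0
    · subst h; rw [hp]; infer_instance
    · exact ⟨fun g g' _ => (HomologicalComplex.isZero_single_obj_X _ _ _ _ h).eq_of_src g g'⟩
  let S : ShortComplex (CochainComplex C ℤ) := ShortComplex.mk (kernel.ι p) p (kernel.condition p)
  have hS : S.ShortExact := { exact := ShortComplex.exact_kernel p }
  let e : ∀ i, (kernel p).X i ≅ kernel (p.f i) := fun i =>
    PreservesKernel.iso (HomologicalComplex.eval C (ComplexShape.up ℤ) i) p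
  let P : DerivedCategory C → Prop := fun A => ∀ ψ : A⟦1 - j⟧ ⟶ W, ψ = 0
  have hiso : ∀ {A B}, (A ≅ B) → P A → P B := fun {A B} g h ψ => by
    rw [← cancel_epi ((shiftFunctor _ (1 - j)).map g.hom), comp_zero]
    exact h _
  have h0 : ∀ {Z}, IsZero Z → P Z := fun {Z} hZ ψ => ((shiftFunctor _ (1 - j)).map_isZero hZ).eq_of_src _ _
  have hext : ∀ T ∈ distTriang (DerivedCategory C), P T.obj₁ → P T.obj₃ → P T.obj₂ := fun T hT h₁ h₃ ψ => by
    obtain ⟨χ, hχ⟩ : ∃ χ, ψ = ((shiftFunctor _ (1 - j)).obj T).mor₂ ≫ χ :=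
      Triangle.yoneda_exact₂ _ (Triangle.shift_distinguished T hT (1 - j)) ψ (h₁ _)
    have h3 : χ = 0 := h₃ χ
    rw [hχ, h3, comp_zero]
  have h1 : P (DerivedCategory.Q.obj (kernel p)) := by
    have hzero : IsZero ((kernel p).X 0) := by
      have : IsIso (p.f 0) := by rw [hp]; infer_instance
      exact (isZero_kernel_of_mono (p.f 0)).of_iso (e 0)
    have hK : ∀ i, i ≠ 0 → Nonempty ((kernel p).X i ≅ E.X i) := fun i hi => by
      have h0 : p.f i = 0 := (HomologicalComplex.isZero_single_obj_X _ _ _ _ hi).eq_of_tgt _ _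
      exact ⟨e i ≪≫ eqToIso (by rw [h0]) ≪≫ kernelZeroIsoSource⟩
    refine prop_Q_of_bounded_ext h0 hiso hext m (kernel p) 1 (fun i hi => ?_) (fun i => ?_)
    · rcases eq_or_ne i 0 with rfl | h
      · exact hzero
      · obtain ⟨ei⟩ := hK i h
        exact (hb i (by omega)).of_iso ei
    · rcases eq_or_ne i 0 with rfl | h
      · exact h0 ((DerivedCategory.singleFunctor C 0).map_isZero hzero)
      · obtain ⟨ei⟩ := hK i h
        refine hiso ((DerivedCategory.singleFunctor C i).mapIso ei).symm fun ψ => ?_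
        rcases lt_or_gt_of_ne h with h' | h'
        · exact ((shiftFunctor _ (1 - j)).map_isZero
            ((DerivedCategory.singleFunctor C i).map_isZero (hb i (Or.inl h')))).eq_of_src _ _
        · let g := (SingleFunctors.shiftIso (DerivedCategory.singleFunctors C) (1 - j) (i + j - 1) i (by omega)).app (E.X i)
          exact (cancel_epi g.inv).1 ((hX i h' (g.inv ≫ ψ)).trans comp_zero.symm)
  let T := DerivedCategory.triangleOfSES hS
  have hT : T ∈ distTriang _ := DerivedCategory.triangleOfSES_distinguished hS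
  haveI : IsIso T.mor₃ := (Triangle.isZero₂_iff_isIso₃ _ hT).1 (FilRep19.isZero_Q_of_acyclic E hE)
  let u : (DerivedCategory.singleFunctor C 0).obj (E.X 0) ≅ (DerivedCategory.Q.obj (kernel p))⟦(1 : ℤ)⟧ :=
    ((SingleFunctors.evaluation _ _ 0).mapIso (DerivedCategory.singleFunctorsPostcompQIso C)).app (E.X 0) ≪≫
      asIso T.mor₃
  let v : (DerivedCategory.Q.obj (kernel p))⟦1 - j⟧ ≅ (DerivedCategory.singleFunctor C j).obj (E.X 0) :=
    (shiftFunctorAdd' (DerivedCategory C) 1 (-j) (1 - j) (by omega)).app _ ≪≫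
      (shiftFunctor _ (-j)).mapIso u.symm ≪≫
      (SingleFunctors.shiftIso (DerivedCategory.singleFunctors C) (-j) j 0 (by omega)).app (E.X 0)
  exact (cancel_epi v.hom).1 ((h1 (v.hom ≫ φ)).trans comp_zero.symm)

end OneSided

variable (n : ℕ) (A : Type u) [CommRing A]

/-- Vanishing for the first `n + 1` twists gives it for all, in all higher degrees. -/
theorem van_all {K : DCoh.D (ProjSpace n A)} (m : ℤ) (h : ∀ d : ℕ, d ≤ n → ∀ j, m ≤ j → Van n A j d K) :
    ∀ (p : ℕ) (j : ℤ), m ≤ j → Van n A j p K := by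
  intro p
  induction p using Nat.strong_induction_on with
  | _ p ih =>
    intro j hj
    by_cases hp : p ≤ n
    · exact h p hp j hj
    let c := Ample.ProjMap.pcoc n A
    let s := coordSeq n A
    let M := Twist.twistProjSpace n A (-(p : ℤ))
    let E := kosCx c s (n + 1) M
    have hterm : ∀ i : ℕ, Nonempty (E.X (i : ℤ) ≅
        ∐ fun _ : Fin ((n + 1).choose i) => Twist.twistProjSpace n A (-(p : ℤ) + i)) := fun i => by
      obtain ⟨e⟩ := nonempty_kos_term c s (n + 1) i M
      obtain ⟨g⟩ := nonempty_twPow_twist n A i (-(p : ℤ))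
      exact ⟨kosCxIso c s (n + 1) M i ≪≫ e ≪≫ Sigma.mapIso fun _ => g⟩
    obtain ⟨e₀⟩ : Nonempty (E.X 0 ≅ M) := by
      obtain ⟨e⟩ := hterm 0
      exact ⟨e ≪≫ (Sigma.reindex (finCongr (Nat.choose_zero_right _).symm) _).symm ≪≫
        coproductUniqueIso _ ≪≫ eqToIso (by simp [M])⟩
    intro φ
    refine (cancel_epi ((DerivedCategory.singleFunctor _ j).mapIso e₀).hom).1
      (Eq.trans ?_ comp_zero.symm)
    refine hom_single_of_acyclic E
      (exactAt_kosCx c s (n + 1) M (exists_mem_locus_coordSeq n A)) (n + 1)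
      (fun i hi => isZero_kosCx c s (n + 1) M i hi) K j (fun i hi => ?_) _
    obtain ⟨i, rfl⟩ : ∃ t : ℕ, (t : ℤ) = i := ⟨i.toNat, by omega⟩
    intro ψ
    by_cases hin : n + 1 < i
    · exact ((DerivedCategory.singleFunctor _ _).map_isZero (isZero_kosCx c s (n + 1) M i (by omega))).eq_of_src _ _
    obtain ⟨e⟩ := hterm i
    refine (cancel_epi ((DerivedCategory.singleFunctor _ ((i : ℤ) + j - 1)).mapIso e).inv).1
      (Eq.trans ?_ comp_zero.symm)
    refine hom_single_sigma_eq_zero (fun χ => ?_) _ _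
    have := ih (p - i) (by omega) ((i : ℤ) + j - 1) (by omega)
    rw [Van, show -((p - i : ℕ) : ℤ) = -(p : ℤ) + i by omega] at this
    exact this χ

/-- No maps from the twists in degrees `≥ m` means no cohomology in degrees `≥ m`. -/
theorem isLE_of_van {K : DCoh.D (ProjSpace n A)} (hK : DCoh.IsQCohD K) (m : ℤ)
    (h : ∀ (p : ℕ) (j : ℤ), m ≤ j → Van n A j p K) (j : ℤ) (hj : m ≤ j) : IsZero (DCoh.HD K j) := by
  haveI : IsProper (ProjSpace.toSpec n A) := Chow.isProper_toSpec n A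
  haveI : CompactSpace (ProjSpace n A) := QuasiCompact.compactSpace_of_compactSpace (ProjSpace.toSpec n A)
  haveI : (ProjSpace n A).IsSeparated := inferInstanceAs (Proj (polyGrading n A)).IsSeparated
  haveI : CompactSpace (Proj (polyGrading n A)) := inferInstanceAs (CompactSpace (ProjSpace n A))
  let c := Ample.ProjMap.pcoc n A
  refine isZero_of_subsingleton_stalks _ fun x => ?_
  by_contra hx
  obtain ⟨l, hl⟩ := exists_mem_locus n A x
  let jl := (isAffineOpen_locus n A l).fromSpec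
  have hjr : Set.range jl = SetLike.coe (c.locus (coordSect n A l)) := (isAffineOpen_locus n A l).range_fromSpec
  refine support_subset_of_isZero_HD_resD jl ?_ hx (by rw [hjr]; exact hl)
  refine (isZero_HD_iff_hom (isQCohD_resD jl hK) j).2 fun φ => ?_
  obtain ⟨z⟩ := nonempty_nTwist_zero c
  let t := ((Scheme.Modules.restrictFunctor jl).mapDerivedCategorySingleFunctor j).app
      (NegTwist.nTwist c (Coh.structureModule (ProjSpace n A)) 0) ≪≫
    (DerivedCategory.singleFunctor _ j).mapIso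
      ((Scheme.Modules.restrictFunctor jl).mapIso z ≪≫ Scheme.Modules.restrictUnitIso jl)
  obtain ⟨k, χ, hχ⟩ := exists_extend c (coordSect n A l) jl hjr hK (t.hom ≫ φ)
  haveI := isIso_resD_twMap c (coordSect n A l) jl hjr.le j k (show 0 + k = k by omega)
  obtain ⟨e⟩ := nonempty_nTwist_iso n A k
  have hχ0 : χ = 0 := by
    refine (cancel_epi ((DerivedCategory.singleFunctor _ j).mapIso e.symm).hom).1 ?_
    exact (h k j hj _).trans comp_zero.symm
  rw [← cancel_epi t.hom, comp_zero, ← cancel_epi ((resD jl).map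
    (twMap c (coordSect n A l) j k (show 0 + k = k by omega))), comp_zero, hχ, hχ0, Functor.map_zero]

/-- The direct images of bounded above objects are bounded above. -/
theorem isZero_HD_RR_of_isLE (K : DCoh.D (ProjSpace n A)) (hK : DCoh.IsQCohD K) (b : ℤ) [K.IsLE b] (j : ℤ)
    (hj : b + (n + 1 : ℕ) ≤ j) : IsZero (DCoh.HD ((RR (ProjSpace.toSpec n A)).obj K) j) := by
  haveI : IsProper (ProjSpace.toSpec n A) := Chow.isProper_toSpec n A
  haveI : (ProjSpace n A).IsSeparated := inferInstanceAs (Proj (polyGrading n A)).IsSeparated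
  refine (isZero_HD_iff_hom (isQCohD_Rres _ K hK) j).2 ((hom_structure_eq_zero_iff _ K j).1 fun φ => ?_)
  let e := (DerivedCategory.singleFunctor (ProjSpace n A).Modules j).mapIso (genTopIso (ProjSpace n A))
  refine (cancel_epi e.hom).1 (Eq.trans ?_ comp_zero.symm)
  refine hom_gen_eq_zero_of_isLE (d := n + 1) (fun M _ => ?_) K hK b j hj _
  rw [← show (⨆ i, Proj.basicOpen (polyGrading n A) (MvPolynomial.X i)) = (⊤ : (ProjSpace n A).Opens) from
    Ample.ProjMap.iSup_basicOpen_X n A]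
  exact Cohom.vanishFrom_iSup M (fun V => IsAffineOpen V) (fun V hV => hV) (fun V V' hV hV' => hV.inf hV') (n + 1)
    (fun i => Proj.basicOpen (polyGrading n A) (MvPolynomial.X i)) fun i =>
    Proj.isAffineOpen_basicOpen _ _ (MvPolynomial.isHomogeneous_X _ i) one_pos

/-- **Pseudo-coherent objects push forward to pseudo-coherent objects.** -/
theorem isPseudoCoherentD_RR_toSpec (K : DCoh.D (ProjSpace n A)) (hK : ∀ m : ℤ, DCoh.IsPseudoCoherentD m K) (m : ℤ) :
    DCoh.IsPseudoCoherentD m ((RR (ProjSpace.toSpec n A)).obj K) := by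
  let π := ProjSpace.toSpec n A
  haveI : IsProper π := Chow.isProper_toSpec n A
  haveI : CompactSpace (ProjSpace n A) := QuasiCompact.compactSpace_of_compactSpace π
  haveI : (ProjSpace n A).IsSeparated := inferInstanceAs (Proj (polyGrading n A)).IsSeparated
  haveI : QuasiSeparatedSpace (ProjSpace n A) := by infer_instance
  haveI := RpushSupp20.hasInjectiveResolutions (ProjSpace n A)
  haveI : (RR π).IsTriangulated := SiteDer.isTriangulated_res_map (rmor π).push
  have hKq := isQCohD_of_pc hK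
  obtain ⟨r₀, hr₀⟩ := hasApprox_of_qcqs (ProjSpace n A) ⊥ (fun O _ => by simp)
  let k : ℤ := m - n
  obtain ⟨P, C, α, q, d, hT, hP, -, hC⟩ := hr₀ k K hKq (hK _) fun i _ =>
    isZero_restrict_of_support _ fun y => (y.2 : y.1 ∈ (⊥ : (ProjSpace n A).Opens)).elim
  haveI : C.IsLE (k - 1) := (DerivedCategory.isLE_iff _ _).2 fun i hi => hC i (by omega)
  have hCq : DCoh.IsQCohD C := isQCohD_obj₃ hT (isQCohD_of_isPerfect hP) hKq
  have hRC : DCoh.IsPseudoCoherentD m ((RR π).obj C) :=
    isPseudoCoherentD_of_vanishing (isQCohD_Rres π C hCq) fun i hi =>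
      isZero_HD_RR_of_isLE n A C hCq (k - 1) i (by omega)
  exact (isPseudoCoherentD_triangle m ((RR π).map_distinguished _ hT)).2.1
    (isPseudoCoherentD_of_isPerfect (isPerfect_Rres_of_perfect n A hP) m) hRC

/-- `Rπ_*(K(d))`. -/
abbrev MM (d : ℕ) : DCoh.D (ProjSpace n A) ⥤ DCoh.D (Spec (CommRingCat.of A)) :=
  TD (OO n A (d : ℤ)) ⋙ RR (ProjSpace.toSpec n A)

theorem isQCohD_MM (d : ℕ) {K : DCoh.D (ProjSpace n A)} (hK : DCoh.IsQCohD K) : DCoh.IsQCohD ((MM n A d).obj K) := by
  haveI : IsProper (ProjSpace.toSpec n A) := Chow.isProper_toSpec n A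
  exact isQCohD_Rres _ _ (isQCohD_TD (ProjPic26.isInvertible_twistProjSpace n A (d : ℤ)) hK)

theorem isPseudoCoherentD_MM (d : ℕ) (K : DCoh.D (ProjSpace n A)) (hK : ∀ m : ℤ, DCoh.IsPseudoCoherentD m K)
    (m : ℤ) : DCoh.IsPseudoCoherentD m ((MM n A d).obj K) :=
  isPseudoCoherentD_RR_toSpec n A _
    (fun k => isPseudoCoherentD_TD (ProjPic26.isInvertible_twistProjSpace n A (d : ℤ)) (hK k)) m

theorem distinguished_MM (d : ℕ) {T : Triangle (DCoh.D (ProjSpace n A))} (hT : T ∈ distTriang _) :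
    ∃ δ, Triangle.mk ((MM n A d).map T.mor₁) ((MM n A d).map T.mor₂) δ ∈ distTriang _ := by
  haveI := RpushSupp20.hasInjectiveResolutions (ProjSpace n A)
  haveI : (RR (ProjSpace.toSpec n A)).IsTriangulated :=
    SiteDer.isTriangulated_res_map (rmor (ProjSpace.toSpec n A)).push
  exact ⟨_, (RR (ProjSpace.toSpec n A)).map_distinguished _ ((TD (OO n A (d : ℤ))).map_distinguished _ hT)⟩

theorem map_Rpush_zero {X Y : Scheme.{u}} (f : X ⟶ Y) [DCoh.HasRpush f] (F G : DCoh.D X) :
    (DCoh.Rpush f).map (0 : F ⟶ G) = 0 := by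
  haveI := OX.hasLpull f
  obtain ⟨adj⟩ := OX.nonempty_lpullAdj f
  haveI := adj.isRightAdjoint
  haveI : (DCoh.Rpush f).PreservesZeroMorphisms := by infer_instance
  exact Functor.map_zero _ _ _

/-- Maps from the structure sheaf into a direct image come from maps from the structure sheaf. -/
theorem exists_hom_adj {X Y : Scheme.{u}} (f : X ⟶ Y) (a : ℤ) (F : DCoh.D X)
    (φ : (DerivedCategory.singleFunctor Y.Modules a).obj (Coh.structureModule Y) ⟶ (RR f).obj F) :
    ∃ φ' : (DerivedCategory.singleFunctor X.Modules a).obj (Coh.structureModule X) ⟶ F,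
      ∀ (G : DCoh.D X) (g : F ⟶ G), φ' ≫ g = 0 → φ ≫ (RR f).map g = 0 := by
  haveI := OX.hasLpull f
  haveI : DCoh.HasRpush f := KInj.hasRightDerivedFunctor _
  obtain ⟨adj⟩ := OX.nonempty_lpullAdj f
  obtain ⟨t⟩ := nonempty_lpull_structure f a
  refine ⟨t.inv ≫ (adj.homEquiv _ _).symm (φ ≫ (rpushIsoRres f).inv.app F), fun G g h => ?_⟩
  rw [Category.assoc, Preadditive.IsIso.comp_left_eq_zero, ← adj.homEquiv_naturality_right_symm] at h
  have h2 := congrArg (adj.homEquiv _ _) h
  rw [Equiv.apply_symm_apply, adj.homEquiv_unit, map_Rpush_zero, comp_zero] at h2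
  refine (cancel_mono ((rpushIsoRres f).inv.app G)).1 (Eq.trans ?_ zero_comp.symm)
  refine (Category.assoc _ _ _).trans ?_
  refine Eq.trans ?_ ((Category.assoc _ _ _).symm.trans h2)
  exact congrArg (φ ≫ ·) ((rpushIsoRres f).inv.naturality g)

/-- Maps from `O` into `K(d)` come from maps from `O(-d)` into `K`. -/
theorem exists_hom_untwist (d : ℕ) (a : ℤ) (K : DCoh.D (ProjSpace n A))
    (φ : (DerivedCategory.singleFunctor (ProjSpace n A).Modules a).obj (Coh.structureModule (ProjSpace n A)) ⟶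
      (TD (OO n A (d : ℤ))).obj K) :
    ∃ χ : (DerivedCategory.singleFunctor (ProjSpace n A).Modules a).obj (OO n A (-(d : ℤ))) ⟶ K,
      ∀ (C : DCoh.D (ProjSpace n A)) (q : K ⟶ C), χ ≫ q = 0 → φ ≫ (TD (OO n A (d : ℤ))).map q = 0 := by
  obtain ⟨e⟩ := nonempty_OO_tensor n A (d : ℤ)
  let t := ((TT (OO n A (d : ℤ))).mapDerivedCategorySingleFunctor a).app (OO n A (-(d : ℤ))) ≪≫
    (DerivedCategory.singleFunctor (ProjSpace n A).Modules a).mapIso e
  haveI := isEquivalence_TD (ProjPic26.isInvertible_twistProjSpace n A (d : ℤ))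
  obtain ⟨χ, hχ⟩ := (TD (OO n A (d : ℤ))).map_surjective (t.hom ≫ φ)
  refine ⟨χ, fun C q h => ?_⟩
  rw [← cancel_epi t.hom, comp_zero, ← Category.assoc, ← hχ, ← Functor.map_comp, h, Functor.map_zero]

/-- Maps from `O` into `Rπ_*(K(d))` come from maps from `O(-d)` into `K`. -/
theorem exists_hom_twist (d : ℕ) (a : ℤ) (K : DCoh.D (ProjSpace n A))
    (φ : (DerivedCategory.singleFunctor (Spec (CommRingCat.of A)).Modules a).obj
      (Coh.structureModule (Spec (CommRingCat.of A))) ⟶ (MM n A d).obj K) :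
    ∃ χ : (DerivedCategory.singleFunctor (ProjSpace n A).Modules a).obj (OO n A (-(d : ℤ))) ⟶ K,
      ∀ (C : DCoh.D (ProjSpace n A)) (q : K ⟶ C), χ ≫ q = 0 → φ ≫ (MM n A d).map q = 0 := by
  obtain ⟨φ', hφ'⟩ := exists_hom_adj (ProjSpace.toSpec n A) a ((TD (OO n A (d : ℤ))).obj K) φ
  obtain ⟨χ, hχ⟩ := exists_hom_untwist n A d a K φ'
  exact ⟨χ, fun C q h => hφ' _ _ (hχ C q h)⟩

/-- The twists from `-n` on have no higher direct image. -/
theorem isZero_HD_RR_OO (d : ℤ) (hd : -(n : ℤ) ≤ d) (a j : ℤ) (hj : a < j) :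
    IsZero (DCoh.HD ((RR (ProjSpace.toSpec n A)).obj
      ((DerivedCategory.singleFunctor (ProjSpace n A).Modules a).obj (OO n A d))) j) := by
  let π := ProjSpace.toSpec n A
  let M := OO n A d
  haveI : IsProper π := Chow.isProper_toSpec n A
  haveI := RpushSupp20.hasInjectiveResolutions (ProjSpace n A)
  haveI : (SiteDer.Rres (rmor π)).IsTriangulated := SiteDer.isTriangulated_res_map (rmor π).push
  haveI : M.IsQuasicoherent := GrTilde.isQuasicoherent_twist _ _
  let u : (DCoh.inD _ M)⟦-a⟧ ≅ (DerivedCategory.singleFunctor (ProjSpace n A).Modules a).obj M :=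
    ((SingleFunctors.shiftIso (DerivedCategory.singleFunctors (ProjSpace n A).Modules) (-a) a 0 (by omega))).app M
  let k : ((SiteDer.Rres (rmor π)).obj (DCoh.inD _ M))⟦-a⟧ ≅
      (SiteDer.Rres (rmor π)).obj ((DerivedCategory.singleFunctor (ProjSpace n A).Modules a).obj M) :=
    (((SiteDer.Rres (rmor π)).commShiftIso (-a)).app (DCoh.inD _ M)).symm ≪≫ (SiteDer.Rres (rmor π)).mapIso u
  obtain ⟨q, hq, rfl⟩ : ∃ q : ℕ, 1 ≤ q ∧ j = a + q := ⟨(j - a).toNat, by omega, by omega⟩
  refine IsZero.of_iso ?_ (((DerivedCategory.homologyFunctor _ (a + q)).mapIso k.symm) ≪≫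
    HDShiftIso _ (-a) (a + q) (q : ℤ) (by omega))
  refine IsZero.of_iso ?_ (SiteDer.nonempty_homology_Rres_single (rmor π) M q).some
  refine RelVanish.isZero_Rpush_of_cover π M q (fun _ : Unit => ⊤) (fun _ => isAffineOpen_top _)
    (fun _ => ⟨(), trivial⟩) fun _ => ?_
  haveI : Subsingleton (Coh.HH (ProjSpace n A) M q) :=
    ProjCohom.subsingleton_HH (n := n) (R := A) (d := d) (q := q) (fun h => by omega) (fun h => by omega)
  exact (Cohom.HEquivTop (Coh.toAb M) q).symm.toEquiv.subsingleton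

theorem van_single (d d' : ℕ) (hd' : d' ≤ n) (a j : ℤ) (hj : a < j) :
    IsZero (DCoh.HD ((MM n A d).obj
      ((DerivedCategory.singleFunctor (ProjSpace n A).Modules a).obj (OO n A (-(d' : ℤ))))) j) := by
  obtain ⟨g⟩ := GrTilde.nonempty_twist_tensor_twist (𝒜 := polyGrading n A) (ProjPic26.h1_polyGrading n A) (d : ℤ) (-(d' : ℤ))
  refine (isZero_HD_RR_OO n A ((d : ℤ) + -(d' : ℤ)) (by omega) a j hj).of_iso
    ((DerivedCategory.homologyFunctor _ j).mapIso ((RR (ProjSpace.toSpec n A)).mapIso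
      (((TT (OO n A (d : ℤ))).mapDerivedCategorySingleFunctor a).app _ ≪≫
        (DerivedCategory.singleFunctor (ProjSpace n A).Modules a).mapIso g)))

/-- Sums of generators. -/
theorem exists_sum_factor {a : ℤ} {K : DCoh.D (ProjSpace n A)} :
    ∀ {k : ℕ} (p : Fin k → ℕ) (_ : ∀ s, p s ≤ n)
      (χ : ∀ s, (DerivedCategory.singleFunctor (ProjSpace n A).Modules a).obj (OO n A (-(p s : ℤ))) ⟶ K),
      ∃ (P : DCoh.D (ProjSpace n A)) (α : P ⟶ K), DCoh.IsPerfect P ∧
        (∀ d j, a < j → IsZero (DCoh.HD ((MM n A d).obj P) j)) ∧ ∀ s, ∃ β, χ s = β ≫ α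
  | 0, p, _, χ => by
    obtain ⟨Z, hZ⟩ : ∃ Z : DCoh.D (ProjSpace n A), IsZero Z := HasZeroObject.zero
    refine ⟨Z, 0, (thick_isPerfect (X := ProjSpace n A)).zero hZ, fun d j _ => ?_, fun s => s.elim0⟩
    exact (DerivedCategory.homologyFunctor _ j).map_isZero ((RR (ProjSpace.toSpec n A)).map_isZero
      ((TD (OO n A (d : ℤ))).map_isZero hZ))
  | k + 1, p, hp, χ => by
    obtain ⟨P, α, hP, hv, hα⟩ := exists_sum_factor (fun s => p s.succ) (fun s => hp _) (fun s => χ s.succ)
    let F := DerivedCategory.singleFunctor (ProjSpace n A).Modules a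
    obtain ⟨e⟩ := nonempty_nTwist_iso n A (p 0)
    have hg : DCoh.IsPerfect (F.obj (OO n A (-(p 0 : ℤ)))) :=
      isPerfect_of_iso (isPerfect_tw (Ample.ProjMap.pcoc n A) a (p 0)) (F.mapIso e)
    refine ⟨F.obj (OO n A (-(p 0 : ℤ))) ⊞ P, biprod.desc (χ 0) α,
      (thick_isPerfect (X := ProjSpace n A)).biprod hg hP,
      fun d j hj => ?_, Fin.cases ⟨biprod.inl, biprod.inl_desc _ _ |>.symm⟩ fun s => ?_⟩
    · obtain ⟨δ, hT⟩ := distinguished_MM n A d (binaryBiproductTriangle_distinguished (F.obj (OO n A (-(p 0 : ℤ)))) P)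
      exact ((DerivedCategory.homologyFunctor _ 0).homologySequence_exact₂ _ hT j).isZero_of_both_zeros
        ((van_single n A d (p 0) (hp 0) a j hj).eq_of_src _ _) ((hv d j hj).eq_of_tgt _ _)
    · obtain ⟨β, hβ⟩ := hα s
      exact ⟨β ≫ biprod.inr, by rw [Category.assoc, biprod.inr_desc, hβ]⟩

/-- Killing the top of the direct images. -/
theorem exists_twist_cone (K : DCoh.D (ProjSpace n A)) (hK : DCoh.IsQCohD K)
    (hpc : ∀ d : ℕ, d ≤ n → ∀ m : ℤ, DCoh.IsPseudoCoherentD m ((MM n A d).obj K)) (a : ℤ)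
    (ha : ∀ d : ℕ, d ≤ n → ∀ j, a < j → IsZero (DCoh.HD ((MM n A d).obj K) j)) :
    ∃ (P C : DCoh.D (ProjSpace n A)) (α : P ⟶ K) (q : K ⟶ C) (δ : C ⟶ P⟦(1 : ℤ)⟧),
      Triangle.mk α q δ ∈ distTriang _ ∧ DCoh.IsPerfect P ∧ DCoh.IsQCohD C ∧
      (∀ d : ℕ, d ≤ n → ∀ m : ℤ, DCoh.IsPseudoCoherentD m ((MM n A d).obj C)) ∧
      ∀ d : ℕ, d ≤ n → ∀ j, a - 1 < j → IsZero (DCoh.HD ((MM n A d).obj C) j) := by
  have hspan : ∀ d : Fin (n + 1), ∃ (k : ℕ) (χ : Fin k →
      ((DerivedCategory.singleFunctor (ProjSpace n A).Modules a).obj (OO n A (-((d : ℕ) : ℤ))) ⟶ K)),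
      ∀ (C : DCoh.D (ProjSpace n A)) (q : K ⟶ C), DCoh.IsQCohD C → (∀ s, χ s ≫ q = 0) →
        (DerivedCategory.homologyFunctor _ a).map ((MM n A d).map q) = 0 := fun d => by
    obtain ⟨k, φ, hφ⟩ := exists_maps_spanning (isQCohD_MM n A d hK) a
      (isFT_HD_top (hpc d (Nat.le_of_lt_succ d.2) a) fun i hi => ha d (Nat.le_of_lt_succ d.2) i hi)
    choose χ hχ using fun s => exists_hom_twist n A d a K (φ s)
    exact ⟨k, χ, fun C q hC h => hφ _ _ (isQCohD_MM n A d hC) fun s => hχ s C q (h s)⟩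
  choose k χ hsp using hspan
  let e := (Fintype.equivFin (Σ d, Fin (k d))).symm
  obtain ⟨P, α, hP, hv, hα⟩ := exists_sum_factor n A (fun s => ((e s).1 : ℕ))
    (fun s => Nat.le_of_lt_succ (e s).1.2) (fun s => χ (e s).1 (e s).2)
  obtain ⟨C, q, δ, hT⟩ := distinguished_cocone_triangle α
  have hCq : DCoh.IsQCohD C := isQCohD_obj₃ hT (isQCohD_of_isPerfect hP) hK
  refine ⟨P, C, α, q, δ, hT, hP, hCq, fun d hd m => ?_, fun d hd j hj => ?_⟩
  · obtain ⟨δ', hT'⟩ := distinguished_MM n A d hT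
    exact isPseudoCoherentD_cone hT'
      (isPseudoCoherentD_MM n A d P (fun k => isPseudoCoherentD_of_isPerfect hP k) _) (hpc d hd m)
  obtain ⟨δ', hT'⟩ := distinguished_MM n A d hT
  refine ((DerivedCategory.homologyFunctor _ 0).homologySequence_exact₃ _ hT' j (j + 1) rfl).isZero_of_both_zeros
    ?_ ((hv d (j + 1) (by omega)).eq_of_tgt _ _)
  rcases lt_or_eq_of_le (show a ≤ j by omega) with hlt | rfl
  · exact (ha d hd j hlt).eq_of_src _ _
  refine hsp ⟨d, by omega⟩ C q hCq fun s => ?_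
  obtain ⟨β, hβ⟩ := hα (e.symm ⟨⟨d, by omega⟩, s⟩)
  have : χ (e (e.symm ⟨⟨d, by omega⟩, s⟩)).1 (e (e.symm ⟨⟨d, by omega⟩, s⟩)).2 ≫ q = 0 := by
    rw [hβ, Category.assoc, show α ≫ q = 0 from comp_distTriang_mor_zero₁₂ _ hT, comp_zero]
  rwa [Equiv.apply_symm_apply] at this

theorem isPseudoCoherentD_of_MM (m : ℤ) : ∀ (k : ℕ) (K : DCoh.D (ProjSpace n A)) (a : ℤ), DCoh.IsQCohD K →
    (∀ d : ℕ, d ≤ n → ∀ m : ℤ, DCoh.IsPseudoCoherentD m ((MM n A d).obj K)) →
    (∀ d : ℕ, d ≤ n → ∀ j, a < j → IsZero (DCoh.HD ((MM n A d).obj K) j)) → a < m + k →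
    DCoh.IsPseudoCoherentD m K
  | 0, K, a, hK, _, ha, hk => isPseudoCoherentD_of_vanishing hK fun j hj => isLE_of_van n A hK m
      (van_all n A m fun d hd j hj => (van_iff n A K hK j d).2 (ha d hd j (by push_cast at hk; omega))) j hj
  | k + 1, K, a, hK, hpc, ha, hk => by
    obtain ⟨P, C, α, q, δ, hT, hP, hC, hCpc, hCa⟩ := exists_twist_cone n A K hK hpc a ha
    exact (isPseudoCoherentD_triangle m hT).2.1 (isPseudoCoherentD_of_isPerfect hP m)
      (isPseudoCoherentD_of_MM m k C (a - 1) hC hCpc hCa (by push_cast at hk; omega))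

/-- A pseudo-coherent object on a quasi-compact scheme is bounded above. -/
theorem exists_bound_of_pc {X : Scheme.{u}} [CompactSpace X] {K : DCoh.D X} (hK : DCoh.IsPseudoCoherentD 0 K) :
    ∃ b : ℤ, ∀ j, b < j → IsZero (DCoh.HD K j) := by
  have hloc : ∀ x : X, ∃ (V : X.Opens) (b : ℤ), x ∈ V ∧ ∀ j, b < j → CohB1.support (DCoh.HD K j) ⊆ (V : Set X)ᶜ :=
    fun x => by
    obtain ⟨U, j', hj', hx, hU⟩ := isPseudoCoherentD_iff.1 hK x
    obtain ⟨b, hb⟩ := exists_isLE_of_approx hU
    exact ⟨j'.opensRange, b, hx, fun j hj =>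
      support_subset_of_isZero_HD_resD j' (DerivedCategory.isZero_of_isLE _ b j hj)⟩
  choose V b hxV hb using hloc
  obtain ⟨T, hT⟩ := isCompact_univ.elim_finite_subcover (fun x => (V x : Set X)) (fun x => (V x).isOpen)
    fun x _ => Set.mem_iUnion.2 ⟨x, hxV x⟩
  obtain ⟨B, hB⟩ := (T.image b).bddAbove
  refine ⟨B, fun j hj => isZero_of_subsingleton_stalks _ fun y => ?_⟩
  by_contra hy
  obtain ⟨x, hxT, hyx⟩ := Set.mem_iUnion₂.1 (hT (Set.mem_univ y))
  exact hb x j (lt_of_le_of_lt (hB (Finset.mem_coe.2 (Finset.mem_image_of_mem b hxT))) hj) hy hyx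

/-- **Pseudo-coherence is detected by the first `n + 1` twists.** -/
theorem pseudoCoherent_iff_MM (K : DCoh.D (ProjSpace n A)) (hK : DCoh.IsQCohD K) :
    (∀ m : ℤ, DCoh.IsPseudoCoherentD m K) ↔
      ∀ d : ℕ, d ≤ n → ∀ m : ℤ, DCoh.IsPseudoCoherentD m ((MM n A d).obj K) := by
  refine ⟨fun h d _ => isPseudoCoherentD_MM n A d K h, fun h m => ?_⟩
  choose b hb using fun d : Fin (n + 1) => exists_bound_of_pc (h d (Nat.le_of_lt_succ d.2) 0)
  obtain ⟨B, hB⟩ := (Finset.univ.image b).bddAbove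
  refine isPseudoCoherentD_of_MM n A m (B - m + 1).toNat K B hK h
    (fun d hd j hj => hb ⟨d, by omega⟩ j (lt_of_le_of_lt
      (hB (Finset.mem_coe.2 (Finset.mem_image_of_mem b (Finset.mem_univ _)))) hj)) ?_
  omega

end GrothLib.KSix19.ProjPush
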