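import Groth.Agent.Lib.KSix19.ProjPush.AmpleFam
import Groth.Agent.Lib.OX.RRLocal
import Mathlib.Algebra.Homology.HomotopyCategory.HomComplexSingle
import Groth.Prelude.Def_DCoh2

/-!
# Vanishing of the global cohomology of all twists by an ample module
-/

set_option autoImplicit false
set_option backward.isDefEq.respectTransparency false
set_option linter.style.haveILetI false
set_option maxHeartbeats 1000000
universe u

open CategoryTheory CategoryTheory.Limits AlgebraicGeometry TopologicalSpace Opposite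
attribute [local instance] HasDerivedCategory.standard

noncomputable section

namespace GrothLib.KSix19.ProjPush

open OX CochainComplex.HomComplex

variable {X : Scheme.{u}}

/-- A map from `O_X` placed in degree `n` into a complex with exact global sections in degree `n` is null-homotopic. -/
theorem homotopic_zero_of_exactAt_gamma (K : CochainComplex X.Modules ℤ) (n : ℤ)
    (h : (((DCoh.gammaAb X).mapHomologicalComplex (ComplexShape.up ℤ)).obj K).ExactAt n)
    (φ : (HomologicalComplex.single X.Modules (ComplexShape.up ℤ) n).obj ((genF X).obj ⊤) ⟶ K) :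
    Nonempty (Homotopy φ 0) := by
  obtain ⟨g, hg⟩ := Cochain.fromSingleMk_surjective (Cochain.ofHom φ) n (add_zero n)
  have hd : g ≫ K.d n (n + 1) = 0 := by
    have := congrArg (δ 0 1) hg
    rw [δ_ofHom, Cochain.δ_fromSingleMk g (add_zero n) 1 (n + 1) rfl] at this
    have h2 := congrArg (fun z => z.v n (n + 1) rfl) this
    simp only [Cochain.fromSingleMk_v, Cochain.zero_v] at h2
    exact (cancel_epi (HomologicalComplex.singleObjXSelf (ComplexShape.up ℤ) n ((genF X).obj ⊤)).hom).1
      (h2.trans comp_zero.symm)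
  rw [HomologicalComplex.exactAt_iff' _ (n - 1) n (n + 1) (by simp) (by simp), ShortComplex.ab_exact_iff] at h
  obtain ⟨y, hy⟩ := h (genSec (K.X n) ⊤ g) (show (K.d n (n + 1)).app ⊤ (genSec (K.X n) ⊤ g) = 0 by
    rw [← genSec_comp, hd]
    exact (genSecAdd (K.X (n + 1)) ⊤).map_zero)
  have hh : (genSec (K.X (n - 1)) ⊤).symm y ≫ K.d (n - 1) n = g := (genSec (K.X n) ⊤).injective (by
    rw [genSec_comp, Equiv.apply_symm_apply]
    exact hy)
  refine ⟨(Cochain.equivHomotopy φ 0).symm ⟨Cochain.fromSingleMk ((genSec (K.X (n - 1)) ⊤).symm y) (n := -1)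
    (show n + -1 = n - 1 by omega), ?_⟩⟩
  rw [Cochain.ofHom_zero, add_zero, ← hg, Cochain.δ_fromSingleMk _ _ 0 n (add_zero n)]
  congr 1
  exact hh.symm

/-- Maps from `O_X[-m]` into an object without `m`th global cohomology are zero. -/
theorem hom_eq_zero_of_isZero_gamma (E : DCoh.D X) (m : ℤ)
    (h : IsZero ((DerivedCategory.homologyFunctor AddCommGrpCat.{u} m).obj
      ((DCoh.gammaKh X).obj ((KInj.res X.Modules).obj E))))
    (φ : (DerivedCategory.singleFunctor X.Modules m).obj (Coh.structureModule X) ⟶ E) : φ = 0 := by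
  let C : CochainComplex X.Modules ℤ := ((KInj.res X.Modules).obj E).as
  let S := (HomologicalComplex.single X.Modules (ComplexShape.up ℤ) m).obj ((genF X).obj ⊤)
  have hC : (((DCoh.gammaAb X).mapHomologicalComplex (ComplexShape.up ℤ)).obj C).ExactAt m :=
    (HomologicalComplex.exactAt_iff_isZero_homology _ _).2 (h.of_iso
      (((DerivedCategory.homologyFunctorFactors AddCommGrpCat.{u} m).app _).symm ≪≫
        (DerivedCategory.homologyFunctor AddCommGrpCat.{u} m).mapIso
          ((DerivedCategory.quotientCompQhIso _).app _).symm))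
  have hzero : ∀ ψ : DerivedCategory.Qh.obj ((HomotopyCategory.quotient _ _).obj S) ⟶
      DerivedCategory.Qh.obj ((KInj.res X.Modules).obj E), ψ = 0 := fun ψ => by
    obtain ⟨ψ', rfl⟩ := (SiteDer.bijective_Qh_res _ E).2 ψ
    obtain ⟨ψ₀, rfl⟩ := (HomotopyCategory.quotient X.Modules (ComplexShape.up ℤ)).map_surjective
      (X := S) (Y := C) ψ'
    obtain ⟨H⟩ := homotopic_zero_of_exactAt_gamma C m hC ψ₀
    rw [HomotopyCategory.eq_of_homotopy _ _ H, Functor.map_zero, Functor.map_zero]
  let e : DerivedCategory.Qh.obj ((HomotopyCategory.quotient _ _).obj S) ≅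
      (DerivedCategory.singleFunctor X.Modules m).obj (Coh.structureModule X) :=
    (DerivedCategory.quotientCompQhIso _).app _ ≪≫
      ((DerivedCategory.singleFunctorIsoCompQ X.Modules m).app _).symm ≪≫
      (DerivedCategory.singleFunctor X.Modules m).mapIso (genTopIso X)
  let ε : DerivedCategory.Qh.obj ((KInj.res X.Modules).obj E) ≅ E := asIso ((KInj.resAdj X.Modules).counit.app E)
  rw [← cancel_epi e.hom, ← cancel_mono ε.inv, comp_zero, zero_comp]
  exact hzero _

/-- If no twist of a quasi-coherent object by a power of an ample module has global cohomology then it is zero. -/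
theorem isZero_of_gamma_twist (L : X.Modules) (hL : CohB1.IsAmple L)
    [∀ n : ℕ, DCoh.HasLTensorMod (CohB1.tensorPow L n)] (K : DCoh.D X) (hK : DCoh.IsQCohD K)
    (h : ∀ (n : ℕ) (p : ℤ), IsZero ((DerivedCategory.homologyFunctor AddCommGrpCat.{u} p).obj
      ((DCoh.gammaKh X).obj ((KInj.res X.Modules).obj ((DCoh.LTensorMod (CohB1.tensorPow L n)).obj K))))) :
    IsZero K := by
  haveI := Ample.quasiSeparatedSpace_of_isAmple hL
  obtain ⟨hinv, hc, hcov⟩ := hL
  obtain ⟨c, ⟨e⟩⟩ := Ample.exists_cocycle hinv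
  refine DerTrunc.isZero_of_forall _ fun i => isZero_of_subsingleton_stalks _ fun x => ?_
  obtain ⟨n, s, hx, hA⟩ := hcov x
  obtain ⟨d⟩ := c.nonempty_tensorPow_iso_pow e (n + 1)
  obtain ⟨a, ha⟩ := (c.pow (n + 1)).exists_sect_of_section d s
  rw [← ha] at hx hA
  by_contra hx'
  refine (isZero_resD_iff_support hA.fromSpec K).1
    (isZero_resD_of_hom_tw (c.pow (n + 1)) a hA.fromSpec hA.range_fromSpec hK fun p m φ => ?_) i hx'
    (by rw [hA.range_fromSpec]; exact hx)
  let M := CohB1.tensorPow L ((n + 1) * p)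
  have hM : PicF.IsInvertible M := Ample.isInvertible_tensorPow hinv _
  haveI := preservesFiniteLimits_TT hM
  haveI := isEquivalence_TD hM
  obtain ⟨u⟩ := nonempty_tensor_inv_twist (c.pow (n + 1)) p
  obtain ⟨t⟩ := c.nonempty_tensorPow_iso e ((n + 1) * p)
  obtain ⟨q⟩ := c.nonempty_pow_twist (n + 1) p
  let w : (TT M).obj (NegTwist.nTwist (c.pow (n + 1)) (Coh.structureModule X) p) ≅ Coh.structureModule X :=
    ((OX.tensorBraiding (X := X)).app M).symm.app (NegTwist.nTwist (c.pow (n + 1)) (Coh.structureModule X) p) ≪≫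
      Ample.LineData.tensorModMapIso (Iso.refl _) (t ≪≫ q.symm) ≪≫ u
  let g : (TD M).obj (tw (c.pow (n + 1)) m p) ≅
      (DerivedCategory.singleFunctor X.Modules m).obj (Coh.structureModule X) :=
    ((TT M).mapDerivedCategorySingleFunctor m).app _ ≪≫ (DerivedCategory.singleFunctor X.Modules m).mapIso w
  obtain ⟨v⟩ := nonempty_LTensorMod M K
  apply (TD M).map_injective
  rw [Functor.map_zero, ← cancel_epi g.inv, ← cancel_mono v.inv, comp_zero, zero_comp]
  exact hom_eq_zero_of_isZero_gamma _ m (h _ m) _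

end GrothLib.KSix19.ProjPush
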