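import Groth.Agent.Lib.KSix19.ProjPush.Perfect
import Groth.Agent.Lib.CMReg.Koszul
import Groth.Agent.Lib.GrTilde.Amp
import Groth.Agent.Lib.ProjPic26.Relative
import Mathlib.Algebra.Homology.Embedding.ExtendHomology

/-!
# The Koszul complex of the coordinates, on twisting sheaves
-/

set_option autoImplicit false
set_option backward.isDefEq.respectTransparency false
set_option linter.style.haveILetI false
universe u

open CategoryTheory CategoryTheory.Limits AlgebraicGeometry TopologicalSpace Opposite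

noncomputable section

namespace GrothLib.KSix19.ProjPush

open CMReg

section Sigma

variable {C : Type*} [Category C] [HasZeroMorphisms C]

/-- Copies add up. -/
theorem nonempty_biprod_sigma (M : C) [HasFiniteCoproducts C] [HasBinaryBiproducts C] (p q r : ℕ) (h : p + q = r) :
    Nonempty ((∐ fun _ : Fin p => M) ⊞ (∐ fun _ : Fin q => M) ≅ ∐ fun _ : Fin r => M) := by
  subst h
  refine ⟨{
    hom := biprod.desc (Sigma.desc fun i => Sigma.ι (fun _ : Fin (p + q) => M) (Fin.castAdd q i))
      (Sigma.desc fun i => Sigma.ι (fun _ : Fin (p + q) => M) (Fin.natAdd p i))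
    inv := Sigma.desc (Fin.addCases (fun i => Sigma.ι (fun _ : Fin p => M) i ≫ biprod.inl)
      fun i => Sigma.ι (fun _ : Fin q => M) i ≫ biprod.inr)
    hom_inv_id := ?_
    inv_hom_id := ?_ }⟩
  · refine biprod.hom_ext' _ _ (Sigma.hom_ext _ _ fun i => ?_) (Sigma.hom_ext _ _ fun i => ?_) <;> simp
  · refine Sigma.hom_ext _ _ fun i => ?_
    refine Fin.addCases (fun i => ?_) (fun i => ?_) i <;> simp

theorem nonempty_sigma_one (M : C) [HasFiniteCoproducts C] : Nonempty (M ≅ ∐ fun _ : Fin 1 => M) :=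
  ⟨(coproductUniqueIso fun _ : Fin 1 => M).symm⟩

theorem nonempty_sigma_zero (M Z : C) [HasFiniteCoproducts C] (hZ : IsZero Z) :
    Nonempty (Z ≅ ∐ fun _ : Fin 0 => M) :=
  ⟨hZ.iso ((IsZero.iff_id_eq_zero _).2 (Sigma.hom_ext _ _ fun k : Fin 0 => k.elim0))⟩

end Sigma

variable {X : Scheme.{u}} (c : Ample.Cocycle X) (a : ℕ → c.sect 1 ⊤)

/-- The terms of the Koszul complex. -/
theorem nonempty_kos_term : ∀ (r j : ℕ) (M : X.Modules),
    Nonempty (((kos c a r).K j).obj M ≅ ∐ fun _ : Fin (r.choose j) => (twPow c j).obj M) := by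
  intro r
  induction r with
  | zero =>
    intro j M
    cases j with
    | zero => exact nonempty_sigma_one _
    | succ j => exact nonempty_sigma_zero _ _ (isZero_kos c a 0 (j + 1) j.succ_pos M)
  | succ r ih =>
    intro j M
    cases j with
    | zero =>
      obtain ⟨e⟩ := ih 0 M
      exact ⟨e ≪≫ (Sigma.reindex (finCongr (by simp)) (fun _ => (twPow c 0).obj M))⟩
    | succ j =>
      obtain ⟨e₁⟩ := ih (j + 1) M
      obtain ⟨e₂⟩ := ih j ((CMReg.tw c).obj M)
      obtain ⟨e₃⟩ := nonempty_biprod_sigma ((twPow c (j + 1)).obj M) (r.choose (j + 1)) (r.choose j)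
        ((r + 1).choose (j + 1)) (by rw [Nat.choose_succ_succ r j]; exact Nat.add_comm _ _)
      exact ⟨biprod.mapIso e₁ e₂ ≪≫ e₃⟩

/-- The Koszul complex as a complex. -/
def kosCx (r : ℕ) (M : X.Modules) : CochainComplex X.Modules ℤ :=
  (CochainComplex.of (fun j => ((kos c a r).K j).obj M) (fun j => ((kos c a r).d j).app M)
    fun j => (kos c a r).dd j M).extend ComplexShape.embeddingUpNat

/-- The terms of the complex in nonnegative degrees. -/
def kosCxIso (r : ℕ) (M : X.Modules) (i : ℕ) : (kosCx c a r M).X (i : ℤ) ≅ ((kos c a r).K i).obj M :=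
  HomologicalComplex.extendXIso _ ComplexShape.embeddingUpNat rfl

theorem isZero_kosCx (r : ℕ) (M : X.Modules) (i : ℤ) (hi : i < 0 ∨ (r : ℤ) < i) : IsZero ((kosCx c a r M).X i) := by
  rcases hi with hi | hi
  · exact HomologicalComplex.isZero_extend_X _ _ _ fun j => by
      show (j : ℤ) ≠ i
      omega
  · obtain ⟨j, rfl⟩ : ∃ j : ℕ, (j : ℤ) = i := ⟨i.toNat, by omega⟩
    exact (isZero_kos c a r j (by omega) M).of_iso (kosCxIso c a r M j)

theorem exactAt_kosCx (r : ℕ) (M : X.Modules) (h : ∀ x, ∃ l < r, x ∈ c.locus (a l)) (i : ℤ) :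
    (kosCx c a r M).ExactAt i := by
  rcases lt_or_ge i 0 with hi | hi
  · exact HomologicalComplex.extend_exactAt _ _ i fun j => by
      show (j : ℤ) ≠ i
      omega
  obtain ⟨j, rfl⟩ : ∃ j : ℕ, (j : ℤ) = i := ⟨i.toNat, by omega⟩
  rw [kosCx, HomologicalComplex.extend_exactAt_iff _ ComplexShape.embeddingUpNat (show _ = (j : ℤ) from rfl)]
  set K := CochainComplex.of (fun j => ((kos c a r).K j).obj M) (fun j => ((kos c a r).d j).app M)
    (fun j => (kos c a r).dd j M)
  cases j with
  | zero =>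
    rw [HomologicalComplex.exactAt_iff' _ 0 0 1 (by simp) (by simp)]
    refine (OX.exact_iff _).2 fun x => ?_
    rw [ShortComplex.moduleCat_exact_iff]
    intro z hz
    obtain ⟨hinj, -⟩ := exAt_kos c a x r (h x) M
    refine ⟨0, ?_⟩
    have hd : K.d 0 1 = ((kos c a r).d 0).app M := CochainComplex.of_d (fun j => ((kos c a r).K j).obj M) (fun j => ((kos c a r).d j).app M) 0
    have hz' : QCoh.stalkLin (((kos c a r).d 0).app M) x z = 0 := by rw [← hd]; exact hz
    rw [map_zero]
    exact (hinj (hz'.trans (map_zero _).symm)).symm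
  | succ j =>
    rw [HomologicalComplex.exactAt_iff' _ j (j + 1) (j + 2) (by simp) (by simp)]
    refine (OX.exact_iff _).2 fun x => ?_
    rw [ShortComplex.moduleCat_exact_iff]
    intro z hz
    obtain ⟨-, hex⟩ := exAt_kos c a x r (h x) M
    have hd1 : K.d j (j + 1) = ((kos c a r).d j).app M := CochainComplex.of_d (fun j => ((kos c a r).K j).obj M) (fun j => ((kos c a r).d j).app M) j
    have hd2 : K.d (j + 1) (j + 2) = ((kos c a r).d (j + 1)).app M := CochainComplex.of_d (fun j => ((kos c a r).K j).obj M) (fun j => ((kos c a r).d j).app M) (j + 1)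
    obtain ⟨w, hw⟩ := hex j z (by rw [← hd2]; exact hz)
    exact ⟨w, by rw [← hw, ← hd1]; rfl⟩

variable (n : ℕ) (A : Type u) [CommRing A]

/-- The coordinates, extended by zero. -/
def coordSeq (l : ℕ) : (Ample.ProjMap.pcoc n A).sect 1 ⊤ :=
  if h : l < n + 1 then coordSect n A ⟨l, h⟩ else 0

theorem exists_mem_locus_coordSeq (x : CohB1.ProjSpace n A) :
    ∃ l < n + 1, x ∈ (Ample.ProjMap.pcoc n A).locus (coordSeq n A l) := by
  obtain ⟨l, hl⟩ := exists_mem_locus n A x
  exact ⟨l, l.2, by rw [coordSeq, dif_pos l.2]; exact hl⟩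

theorem nonempty_twPow_twist : ∀ (s : ℕ) (t : ℤ),
    Nonempty ((twPow (Ample.ProjMap.pcoc n A) s).obj (Twist.twistProjSpace n A t) ≅
      Twist.twistProjSpace n A (t + s)) := by
  intro s
  induction s with
  | zero => intro t; exact ⟨eqToIso (by rw [Nat.cast_zero, add_zero]; rfl)⟩
  | succ s ih =>
    intro t
    obtain ⟨e⟩ := (Ample.ProjMap.pcoc n A).nonempty_tensor_modTwist (Twist.twistProjSpace n A t) 1
    obtain ⟨g⟩ := GrTilde.nonempty_twist_tensor_twist (𝒜 := CohB1.polyGrading n A) (ProjPic26.h1_polyGrading n A) t 1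
    obtain ⟨k⟩ := ih (t + 1)
    refine ⟨(twPow (Ample.ProjMap.pcoc n A) s).mapIso
      (e.symm ≪≫ Ample.LineData.tensorModMapIso (Iso.refl _) (Ample.ProjMap.pcocIso n A).symm ≪≫ g) ≪≫ k ≪≫
      eqToIso (by push_cast; congr 1; ring)⟩

end GrothLib.KSix19.ProjPush
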