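import Groth.Agent.Lib.KSix19.ProjPush.Serre

/-!
# Large twists on a relative projective space over an affine scheme
-/

set_option autoImplicit false
set_option backward.isDefEq.respectTransparency false
set_option linter.style.haveILetI false
set_option maxHeartbeats 1000000
universe u

open CategoryTheory CategoryTheory.Limits AlgebraicGeometry TopologicalSpace Opposite
attribute [local instance] HasDerivedCategory.standard

noncomputable section

namespace GrothLib.KSix19.ProjPush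

open CohB1 OX GrothLib.KSix19

theorem isLE_pushRR {X Z : Scheme.{u}} (i : X ⟶ Z) [IsClosedImmersion i] (E : DCoh.D X) (a : ℤ) [E.IsLE a] :
    ((RR i).obj E).IsLE a :=
  (DerivedCategory.isLE_iff _ _).2 fun k hk =>
    ((Scheme.Modules.pushforward i).map_isZero (DerivedCategory.isZero_of_isLE E a k hk)).of_iso
      ((DerivedCategory.homologyFunctor _ k).mapIso (rresPushDIso i E) ≪≫
        (DerTrunc.homologyMapIso (Scheme.Modules.pushforward i) k).app E)

/-- For large twists `Rπ_*` does not raise the top degree. -/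
theorem exists_isLE_RR_twist (r : ℕ) (Y : Scheme.{u}) [IsAffine Y] (K : DCoh.D (ProjSpaceOver r Y)) (b a : ℤ)
    [K.IsGE b] [K.IsLE a] (hK : ∀ m : ℤ, DCoh.IsPseudoCoherentD m K)
    [∀ d : ℤ, PreservesFiniteLimits (TT (Twist.twistOver r Y d))] :
    ∃ N : ℤ, ∀ d : ℤ, N ≤ d →
      ((RR (ProjSpaceOver.toBase r Y)).obj ((TD (Twist.twistOver r Y d)).obj K)).IsLE a := by
  let A : CommRingCat.{u} := Γ(Y, ⊤)
  let y : Spec (CommRingCat.of A) ⟶ Y := Y.isoSpec.inv
  haveI : IsIso y := inferInstanceAs (IsIso Y.isoSpec.inv)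
  obtain ⟨ω, hω1, hω⟩ := ProjPic26.exists_isPullback_point (n := r) (R := A) Y y
  haveI : IsIso ω := hω.isIso_fst_of_isIso
  haveI := isGE_resD ω K b
  haveI : ((resD ω).obj K).IsLE a := (DerivedCategory.isLE_iff _ _).2 fun i hi =>
    ((Scheme.Modules.restrictFunctor ω).map_isZero (DerivedCategory.isZero_of_isLE K a i hi)).of_iso (HDResIso ω K i)
  have hK' : ∀ m : ℤ, DCoh.IsPseudoCoherentD m ((resD ω).obj K) := fun m => OX.isPseudoCoherentD_resD (hK m) ω
  obtain ⟨N₀, hN₀⟩ := exists_forall_van r A ((resD ω).obj K) b a hK'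
  refine ⟨N₀, fun d hd => ?_⟩
  obtain ⟨N, rfl⟩ := Int.eq_ofNat_of_zero_le (le_trans (Int.natCast_nonneg N₀) hd)
  let F := (TD (Twist.twistOver r Y (N : ℤ))).obj K
  obtain ⟨g⟩ := ProjCohom.nonempty_pullback_twistOver r Y (N : ℤ) hω1
  haveI : PreservesFiniteLimits (TT ((Scheme.Modules.pullback ω).obj (Twist.twistOver r Y (N : ℤ)))) :=
    preservesFiniteLimits_TT (Ample.isInvertible_pullback ω (ProjPic26.isInvertible_twistOver r Y (N : ℤ)))
  obtain ⟨t⟩ := nonempty_resD_TD ω (Twist.twistOver r Y (N : ℤ)) K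
  obtain ⟨t'⟩ := TD_congr g ((resD ω).obj K)
  haveI : ((RR (ProjSpace.toSpec r A)).obj ((TD (OO r A (N : ℤ))).obj ((resD ω).obj K))).IsLE a :=
    (DerivedCategory.isLE_iff _ _).2 fun j hj =>
      (van_iff r A _ (isQCohD_of_pc hK') j N).1 (hN₀ N (by exact_mod_cast hd) j hj)
  haveI := isLE_pushRR y ((RR (ProjSpace.toSpec r A)).obj ((TD (OO r A (N : ℤ))).obj ((resD ω).obj K))) a
  haveI := isIso_unit_of_isIso ω F
  refine DerivedCategory.TStructure.t.isLE_of_iso
    (X := (RR y).obj ((RR (ProjSpace.toSpec r A)).obj ((TD (OO r A (N : ℤ))).obj ((resD ω).obj K)))) ?_ a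
  exact (RR y).mapIso ((RR (ProjSpace.toSpec r A)).mapIso (t ≪≫ t').symm) ≪≫
    (RRCompIso (ProjSpace.toSpec r A) y).app _ ≪≫ (RRCongr hω.w.symm).app _ ≪≫
    ((RRCompIso ω (ProjSpaceOver.toBase r Y)).app _).symm ≪≫
    ((RR (ProjSpaceOver.toBase r Y)).mapIso (asIso ((resDAdj ω).unit.app F))).symm

end GrothLib.KSix19.ProjPush
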