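import Groth.Agent.Lib.NegTwist.Basic
import Groth.Agent.Lib.Ample.Calculus
import Groth.Agent.Lib.VA.Extend
import Groth.Agent.Lib.Euler.Coh
import Groth.Agent.Lib.OX.SupportTorsion
import Groth.Agent.Lib.OX.LocFreeHomVanish
import Groth.Agent.Lib.OX.BVdB

/-!
# Maps out of negative twists into objects vanishing on the locus of a section die after twisting
-/

set_option autoImplicit false
set_option backward.isDefEq.respectTransparency false
set_option linter.style.haveILetI false
set_option linter.unusedVariables false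
universe u

open CategoryTheory CategoryTheory.Limits AlgebraicGeometry TopologicalSpace Opposite Pretriangulated
attribute [local instance] HasDerivedCategory.standard

noncomputable section

namespace GrothLib.KSix19.ProjPush

open GrothLib.InvExt (mres)
open GrothLib.Ample (Cocycle res app_mres mres_smul' res_res)
open OX

variable {X : Scheme.{u}} (c : Cocycle X) (a : c.sect 1 ⊤)

/-- Powers of a section of degree one. -/
def apow (k : ℕ) : c.sect k ⊤ :=
  ⟨fun i => a.1 i ^ k, fun i j W hi hj => by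
    simp only [map_pow, c.sect_spec a i j hi hj, pow_one, mul_pow]⟩

theorem apow_mul (k l : ℕ) : c.mul (apow c a k) (apow c a l) = apow c a (k + l) :=
  c.sect_ext fun i => (pow_add _ _ _).symm

theorem locus_le_apow (k : ℕ) : c.locus a ≤ c.locus (apow c a k) := iSup_le fun i x hx =>
  Opens.mem_iSup.2 ⟨i, (X.mem_basicOpen' (apow c a k |>.1 i) ⟨x, X.basicOpen_le _ hx⟩).2 (by
    show IsUnit ((X.presheaf.germ _ x (X.basicOpen_le _ hx)).hom (a.1 i ^ k))
    rw [map_pow]
    exact ((X.mem_basicOpen' (a.1 i) ⟨x, X.basicOpen_le _ hx⟩).1 hx).pow k)⟩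

/-- The `i`-th component, as a map between the negative twists near a piece of the cover. -/
def compHom (F : X.Modules) (p q : ℕ) {V : X.Opens} (i : c.ι) (hV : V ≤ c.D i) :
    (Scheme.Modules.restrictFunctor V.ι).obj (NegTwist.nTwist c F p) ⟶
      (Scheme.Modules.restrictFunctor V.ι).obj (NegTwist.nTwist c F q) :=
  have hle : ∀ W : (V : Scheme.{u}).Opens, V.ι ''ᵁ W ≤ c.D i := fun W => (V.ι.image_le_opensRange W).trans
    ((Scheme.Opens.opensRange_ι V).le.trans hV)
  ⟨{
    app := fun W => ModuleCat.ofHom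
      (X := (((Scheme.Modules.restrictFunctor V.ι).obj (NegTwist.nTwist c F p)).val.obj W : Type u))
      (Y := (((Scheme.Modules.restrictFunctor V.ι).obj (NegTwist.nTwist c F q)).val.obj W : Type u))
      { toFun := fun (b : NegTwist.nsect c F p (V.ι ''ᵁ W.unop)) =>
          ((NegTwist.inv c).mbase q i (hle W.unop)
            (mres F (le_inf le_rfl (hle W.unop)) (b.1 i)) : NegTwist.nsect c F q (V.ι ''ᵁ W.unop))
        map_add' := fun (b b' : NegTwist.nsect c F p (V.ι ''ᵁ W.unop)) => by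
          refine (NegTwist.inv c).msect_ext_of_le (hle W.unop) ?_
          show _ = ((NegTwist.inv c).mbase q i (hle W.unop) (mres F (le_inf le_rfl (hle W.unop)) (b.1 i))).1 i +
            ((NegTwist.inv c).mbase q i (hle W.unop) (mres F (le_inf le_rfl (hle W.unop)) (b'.1 i))).1 i
          rw [Cocycle.mbase_self, Cocycle.mbase_self, Cocycle.mbase_self]
          exact (congrArg _ (map_add _ _ _)).trans (map_add _ _ _)
        map_smul' := fun (r : Γ((V : Scheme.{u}), W.unop)) (b : NegTwist.nsect c F p (V.ι ''ᵁ W.unop)) => by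
          refine (NegTwist.inv c).msect_ext_of_le (hle W.unop) ?_
          show ((NegTwist.inv c).mbase q i (hle W.unop)
            (mres F (le_inf le_rfl (hle W.unop)) (res inf_le_left ((V.ι.appIso W.unop).inv r) • b.1 i))).1 i =
            res inf_le_left ((V.ι.appIso W.unop).inv r) •
              ((NegTwist.inv c).mbase q i (hle W.unop) (mres F (le_inf le_rfl (hle W.unop)) (b.1 i))).1 i
          rw [Cocycle.mbase_self, Cocycle.mbase_self, mres_smul', mres_smul', res_res, res_res, InvExt.mres_mres] }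
    naturality := fun {W W'} f => by
      ext (b : NegTwist.nsect c F p (V.ι ''ᵁ W.unop))
      refine (NegTwist.inv c).msect_ext_of_le (hle W'.unop) ?_
      show ((NegTwist.inv c).mbase q i (hle W'.unop) (mres F (le_inf le_rfl (hle W'.unop))
          (mres F (inf_le_inf_right (c.D i) (V.ι.image_mono (leOfHom f.unop))) (b.1 i)))).1 i =
        mres F (inf_le_inf_right (c.D i) (V.ι.image_mono (leOfHom f.unop)))
          (((NegTwist.inv c).mbase q i (hle W.unop) (mres F (le_inf le_rfl (hle W.unop)) (b.1 i))).1 i)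
      rw [Cocycle.mbase_self, Cocycle.mbase_self]
      simp only [InvExt.mres_mres] }⟩

variable {V : X.Opens}

/-- The function on `V` given by the `i`-th component. -/
def locFun (i : c.ι) (hV : V ≤ c.D i) : Γ((V : Scheme.{u}), ⊤) :=
  (V.ι.appIso ⊤).hom (res (le_inf le_top ((V.ι.image_le_opensRange ⊤).trans
    ((Scheme.Opens.opensRange_ι V).le.trans hV))) (a.1 i))

theorem toGlobal_toSpecΓ (V' : Scheme.{u}) (b : Γ(V', ⊤)) : Coh.toGlobal V'.toSpecΓ b = b := by
  show V'.toSpecΓ.appTop ((Scheme.ΓSpecIso Γ(V', ⊤)).inv b) = b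
  rw [Scheme.toSpecΓ_appTop]
  exact congrArg (fun φ => φ.hom b) (Scheme.ΓSpecIso Γ(V', ⊤)).inv_hom_id

/-- Locally multiplication by the section is multiplication by a function. -/
theorem restrict_negHom (F : X.Modules) (i : c.ι) (hV : V ≤ c.D i) (k : ℕ) {p q : ℕ} (e : q + k = p) :
    letI : (V : Scheme.{u}).Over (Spec (CommRingCat.of Γ((V : Scheme.{u}), ⊤))) := ⟨(V : Scheme.{u}).toSpecΓ⟩
    (Scheme.Modules.restrictFunctor V.ι).map (NegTwist.negHom c F (apow c a k) e) =
      (locFun c a i hV ^ k) • compHom c F p q i hV := by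
  letI : (V : Scheme.{u}).Over (Spec (CommRingCat.of Γ((V : Scheme.{u}), ⊤))) := ⟨(V : Scheme.{u}).toSpecΓ⟩
  refine Scheme.Modules.hom_ext _ _ fun W => ?_
  ext (b : NegTwist.nsect c F p (V.ι ''ᵁ W))
  have hle : V.ι ''ᵁ W ≤ c.D i := (V.ι.image_le_opensRange W).trans ((Scheme.Opens.opensRange_ι V).le.trans hV)
  refine Eq.trans ?_ (KLin.smul_app_apply (locFun c a i hV ^ k) (compHom c F p q i hV) W b).symm
  refine (NegTwist.inv c).msect_ext_of_le hle ?_
  show res (inf_le_inf_right (c.D i) (le_top : V.ι ''ᵁ W ≤ ⊤)) (a.1 i ^ k) • b.1 i =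
    res (inf_le_left : V.ι ''ᵁ W ⊓ c.D i ≤ V.ι ''ᵁ W) (show Γ(X, V.ι ''ᵁ W) from (V.ι.appIso W).inv ((V : Scheme.{u}).presheaf.map (homOfLE (le_top : W ≤ ⊤)).op
      (Coh.toGlobal ((V : Scheme.{u}) ↘ _) (locFun c a i hV ^ k)))) •
      ((NegTwist.inv c).mbase q i hle (mres F (le_inf le_rfl hle) (b.1 i))).1 i
  rw [Cocycle.mbase_self, InvExt.mres_mres, InvExt.mres_self]
  erw [toGlobal_toSpecΓ]
  refine congrArg (· • b.1 i) ?_
  have h : (V.ι.appIso W).inv ((V : Scheme.{u}).presheaf.map (homOfLE (le_top : W ≤ ⊤)).op (locFun c a i hV)) =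
      res (le_inf le_top hle) (a.1 i) := by
    have hn : ∀ z, (V.ι.appIso W).inv ((V : Scheme.{u}).presheaf.map (homOfLE (le_top : W ≤ ⊤)).op z) =
        X.presheaf.map (V.ι.opensFunctor.map (homOfLE (le_top : W ≤ ⊤))).op ((V.ι.appIso ⊤).inv z) := fun z =>
      congrArg (fun φ => φ.hom z) (V.ι.appIso_inv_naturality (homOfLE (le_top : W ≤ ⊤)).op)
    rw [hn, locFun, CommRingCat.inv_hom_apply]
    exact res_res _ _ _
  rw [map_pow, map_pow, map_pow, map_pow, h]
  exact congrArg (· ^ k) (res_res _ _ _).symm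

/-- The generators. -/
abbrev tw (m : ℤ) (p : ℕ) : DCoh.D X :=
  (DerivedCategory.singleFunctor X.Modules m).obj (NegTwist.nTwist c (Coh.structureModule X) p)

/-- Multiplication by a power of the section between the generators. -/
abbrev twMap (m : ℤ) (k : ℕ) {p q : ℕ} (e : q + k = p) : tw c m p ⟶ tw c m q :=
  (DerivedCategory.singleFunctor X.Modules m).map (NegTwist.negHom c _ (apow c a k) e)

theorem twMap_comp (m : ℤ) (k l : ℕ) {p r q : ℕ} (e₁ : r + l = p) (e₂ : q + k = r) :
    twMap c a m (k + l) (show q + (k + l) = p by omega) = twMap c a m l e₁ ≫ twMap c a m k e₂ := by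
  rw [twMap, twMap, twMap, ← Functor.map_comp, ← apow_mul,
    NegTwist.negHom_mul c (apow c a k) (apow c a l) e₁ e₂ (by omega)]

theorem isFinLocFree_nTwist (p : ℕ) : FlatMod.IsFinLocFree (NegTwist.nTwist c (Coh.structureModule X) p) :=
  Euler.isFinLocFree_of_isInvertible
    (VA.isInvertible_modTwist (NegTwist.inv c) Euler.isInvertible_structure p)

theorem isPerfect_tw (m : ℤ) (p : ℕ) : DCoh.IsPerfect (tw c m p) := by
  have h0 : DCoh.IsPerfect (tw c 0 p) :=
    isPerfect_of_iso (isPerfect_single_of_finLocFree (isFinLocFree_nTwist c p))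
      ((DerivedCategory.singleFunctorIsoCompQ X.Modules 0).app _).symm
  exact isPerfect_of_iso (isPerfect_shift h0 (-m))
    ((((SingleFunctors.shiftIso (DerivedCategory.singleFunctors X.Modules) (-m) m 0 (by omega))).app _))

/-- The affine step. -/
theorem exists_twMap_affine (i : c.ι) (hV : V ≤ c.D i) (hVA : IsAffineOpen V) (m : ℤ) (p : ℕ) {E' : DCoh.D X}
    (hE' : DCoh.IsQCohD E') (hW : IsZero ((resD (c.locus a).ι).obj E')) (φ : tw c m p ⟶ E') :
    ∃ k : ℕ, ∀ (p' : ℕ) (e : p + k = p'), (resD V.ι).map (twMap c a m k e ≫ φ) = 0 := by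
  letI : (V : Scheme.{u}).Over (Spec (CommRingCat.of Γ((V : Scheme.{u}), ⊤))) := ⟨(V : Scheme.{u}).toSpecΓ⟩
  haveI : IsAffine (V : Scheme.{u}) := hVA
  obtain ⟨k, hk⟩ := torsion_of_supported_affine (X := (V : Scheme.{u})) (locFun c a i hV)
    (isPerfect_resD (isPerfect_tw c m p) V.ι) (isQCohD_resD V.ι hE') (by
      refine (isZero_resD_comp _ _).2 (isZero_resD_of_le _ _ ?_ hW)
      rintro _ ⟨y, rfl⟩
      rw [Scheme.Opens.range_ι]
      have hy : y.1 ∈ (V : Scheme.{u}).basicOpen (locFun c a i hV) :=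
        (congrArg (fun z => y.1 ∈ (V : Scheme.{u}).basicOpen z) (toGlobal_toSpecΓ _ (locFun c a i hV))).mp y.2
      have h2 : V.ι y.1 ∈ V.ι ''ᵁ (V : Scheme.{u}).basicOpen (locFun c a i hV) := ⟨y.1, hy, rfl⟩
      rw [Scheme.image_basicOpen] at h2
      unfold locFun at h2
      rw [CommRingCat.inv_hom_apply, Scheme.basicOpen_res] at h2
      have h1 : V.ι y.1 ∈ X.basicOpen (a.1 i) := h2.2
      rw [← c.locus_inf_D a i] at h1
      exact h1.1) ((resD V.ι).map φ)
  refine ⟨k, fun p' e => ?_⟩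
  let α := (Scheme.Modules.restrictFunctor V.ι).mapDerivedCategorySingleFunctor m
  have hnat : (resD V.ι).map (twMap c a m k e) = α.hom.app _ ≫
      (DerivedCategory.singleFunctor (V : Scheme.{u}).Modules m).map ((Scheme.Modules.restrictFunctor V.ι).map
        (NegTwist.negHom c _ (apow c a k) e)) ≫ α.inv.app _ := by
    rw [← cancel_mono (α.hom.app _), Category.assoc, Category.assoc, Iso.inv_hom_id_app]
    erw [Category.comp_id]
    exact α.hom.naturality (NegTwist.negHom c _ (apow c a k) e)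
  rw [Functor.map_comp, hnat, restrict_negHom c a _ i hV, Functor.map_smul]
  simp only [Linear.comp_smul, Linear.smul_comp, Category.assoc]
  simp only [← Linear.comp_smul, hk, comp_zero]

variable [QuasiSeparatedSpace X]

/-- Induction on the pieces outside which the target vanishes. -/
theorem exists_twMap_cover (m : ℤ) : ∀ (n : ℕ) (U₀ : X.Opens) (B : Fin n → X.Opens),
    (∀ k, IsAffineOpen (B k) ∧ ∃ i, B k ≤ c.D i) → (∀ x : X, x ∈ U₀ ∨ ∃ k, x ∈ B k) →
      ∀ {E' : DCoh.D X}, DCoh.IsQCohD E' → IsZero ((resD U₀.ι).obj E') → IsZero ((resD (c.locus a).ι).obj E') →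
      ∀ (p : ℕ) (φ : tw c m p ⟶ E'), ∃ k : ℕ, ∀ (p' : ℕ) (e : p + k = p'), twMap c a m k e ≫ φ = 0
  | 0, U₀, _, _, hcov, E', _, hE'₀, _, p, φ =>
    ⟨0, fun _ _ => (isZero_of_support_empty fun q => Set.eq_empty_iff_forall_notMem.2 fun x hx =>
      (isZero_resD_iff_support _ E').1 hE'₀ q hx (by
        rw [Scheme.Opens.range_ι]
        exact (hcov x).resolve_right fun ⟨k, _⟩ => k.elim0)).eq_of_tgt _ _⟩
  | n + 1, U₀, B, hB, hcov, E', hE', hE'₀, hW, p, φ => by
    let V := B 0
    obtain ⟨hVA, i, hVi⟩ := hB 0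
    have := quasiCompact_of_isCompact_range V.ι (by rw [Scheme.Opens.range_ι]; exact hVA.isCompact)
    obtain ⟨k, hk⟩ := exists_twMap_affine c a i hVi hVA m p hE' hW φ
    obtain ⟨G, pG, d, hT⟩ := distinguished_cocone_triangle₁ ((resDAdj V.ι).unit.app E')
    have h0 : (twMap c a m k rfl ≫ φ) ≫ (resDAdj V.ι).unit.app E' = 0 := by
      refine ((resDAdj V.ι).unit.naturality _).trans ?_
      change _ ≫ (RR V.ι).map ((resD V.ι).map (twMap c a m k rfl ≫ φ)) = 0
      rw [hk _ rfl, Functor.map_zero, comp_zero]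
    obtain ⟨ψ, hψ⟩ : ∃ ψ : tw c m (p + k) ⟶ G, twMap c a m k rfl ≫ φ = ψ ≫ pG :=
      Triangle.coyoneda_exact₂ _ hT _ h0
    have hR : DCoh.IsQCohD ((RR V.ι).obj ((resD V.ι).obj E')) := isQCohD_Rres V.ι _ (isQCohD_resD V.ι hE')
    have hG : DCoh.IsQCohD G := isQCohD_obj₃ (inv_rot_of_distTriang _ (inv_rot_of_distTriang _ hT))
      (isQCohD_shift hE' (-1)) (isQCohD_shift hR (-1))
    have hGV : IsZero ((resD V.ι).obj G) :=
      (Triangle.isZero₁_iff_isIso₂ _ ((resD V.ι).map_distinguished _ hT)).2 (isIso_resD_unit V.ι E')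
    have hGO : ∀ O : X.Opens, IsZero ((resD O.ι).obj E') → IsZero ((resD O.ι).obj G) := fun O hO => by
      have h2 : IsZero ((resD O.ι).obj ((RR V.ι).obj ((resD V.ι).obj E'))) :=
        isZero_resD_RR_open V.ι O ((isZero_resD_comp _ _).2 (isZero_resD_of_le _ _ (by
          rintro _ ⟨y, rfl⟩
          rw [Scheme.Opens.range_ι]
          exact y.2) hO))
      exact (Triangle.isZero₁_iff_isIso₂ _ ((resD O.ι).map_distinguished _ hT)).2
        ⟨0, hO.eq_of_src _ _, h2.eq_of_src _ _⟩
    obtain ⟨l, hl⟩ := exists_twMap_cover m n (U₀ ⊔ V) (fun k => B k.succ) (fun k => hB _)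
      (fun x => by
        rcases hcov x with h | ⟨k, hk⟩
        · exact Or.inl (Or.inl h)
        · cases k using Fin.cases with
          | zero => exact Or.inl (Or.inr hk)
          | succ k => exact Or.inr ⟨k, hk⟩) hG
      (isZero_resD_of_cover U₀.ι V.ι (U₀ ⊔ V).ι (by
        intro x hx
        rw [Scheme.Opens.range_ι] at hx ⊢
        rw [Scheme.Opens.range_ι]
        exact hx) (hGO U₀ hE'₀) hGV) (hGO _ hW) (p + k) ψ
    refine ⟨k + l, fun p' e => ?_⟩
    rw [twMap_comp c a m k l (p := p') (r := p + k) (q := p) (by omega) rfl, Category.assoc, hψ, ← Category.assoc,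
      hl p' (by omega), zero_comp]

theorem exists_twMap_eq_zero [CompactSpace X] (m : ℤ) (p : ℕ) {E' : DCoh.D X} (hE' : DCoh.IsQCohD E')
    (hW : IsZero ((resD (c.locus a).ι).obj E')) (φ : tw c m p ⟶ E') :
    ∃ k : ℕ, ∀ (p' : ℕ) (e : p + k = p'), twMap c a m k e ≫ φ = 0 := by
  choose i V hxV hVi hVA using fun x : X => c.exists_affine_le_D x
  obtain ⟨s, hs⟩ := isCompact_univ.elim_finite_subcover (fun x : X => (V x : Set X)) (fun x => (V x).2)
    fun x _ => Set.mem_iUnion.2 ⟨x, hxV x⟩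
  let e := s.equivFin.symm
  refine exists_twMap_cover c a m _ ⊥ (fun k => V (e k).1) (fun k => ⟨hVA _, i _, hVi _⟩) (fun x => Or.inr ?_) hE'
    ((isZero_resD_iff_support _ E').2 fun q x _ hx => by rw [Scheme.Opens.range_ι] at hx; exact hx) hW p φ
  obtain ⟨y, hy, hx⟩ := Set.mem_iUnion₂.1 (hs (Set.mem_univ x))
  exact ⟨e.symm ⟨y, hy⟩, by simpa using hx⟩

end GrothLib.KSix19.ProjPush
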