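import Groth.Agent.Lib.FundIso27.Iso
import Groth.Agent.Lib.OX.ProjClosed
import Groth.Agent.Lib.OX.LTensor
import Groth.Agent.Lib.OX.LTensorCx
import Groth.Agent.Lib.OX.AffineHomotopy
import Groth.Agent.Lib.OX.TensorInjective
import Groth.Agent.Lib.OX.AffineLocal
import Groth.Agent.Lib.OX.HomQCoh
import Groth.Agent.Lib.DerCat.MapHomology
import Groth.Agent.Lib.KSix19.ProjPush.Closed

/-!
# Tensoring with an invertible module on the derived category
-/

set_option autoImplicit false
set_option backward.isDefEq.respectTransparency false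
set_option linter.style.haveILetI false
set_option maxHeartbeats 1000000
universe u

open CategoryTheory CategoryTheory.Limits AlgebraicGeometry Opposite HomologicalComplex
attribute [local instance] HasDerivedCategory.standard

noncomputable section

namespace GrothLib.KSix19.ProjPush

open OX GrothLib.KSix19

variable {X : Scheme.{u}}

/-- Tensoring on the left with a module. -/
abbrev TT (L : X.Modules) : X.Modules ⥤ X.Modules := (DCoh.tensorBi (X := X)).obj L

instance preservesFiniteColimits_TT (L : X.Modules) : PreservesFiniteColimits (TT L) :=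
  PreservesColimits.preservesFiniteColimits _

theorem isEquivalence_TT {L : X.Modules} (hL : PicF.IsInvertible L) : (TT L).IsEquivalence := by
  haveI := FundIso27.isEquivalence_tensor hL
  exact Functor.isEquivalence_of_iso ((OX.tensorBraiding (X := X)).app L)

theorem preservesFiniteLimits_TT {L : X.Modules} (hL : PicF.IsInvertible L) : PreservesFiniteLimits (TT L) := by
  haveI := isEquivalence_TT hL
  infer_instance

/-- Tensoring with an invertible module on the derived category. -/
abbrev TD (L : X.Modules) [PreservesFiniteLimits (TT L)] : DCoh.D X ⥤ DCoh.D X := (TT L).mapDerivedCategory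

theorem isEquivalence_TD {L : X.Modules} (hL : PicF.IsInvertible L) [PreservesFiniteLimits (TT L)] :
    (TD L).IsEquivalence := by
  haveI := isEquivalence_TT hL
  let e := (TT L).asEquivalence
  haveI : e.functor.Additive := inferInstanceAs ((TT L).Additive)
  haveI : e.inverse.Additive := inferInstance
  haveI : PreservesFiniteLimits e.functor := inferInstance
  haveI : PreservesFiniteColimits e.functor := inferInstance
  haveI : PreservesFiniteLimits e.inverse := inferInstance
  haveI : PreservesFiniteColimits e.inverse := inferInstance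
  exact AffineHom22.isEquivalence_mapDerived e

theorem nonempty_LTensorMod (L : X.Modules) [PreservesFiniteLimits (TT L)] [DCoh.HasLTensorMod L] (E : DCoh.D X) :
    Nonempty ((DCoh.LTensorMod L).obj E ≅ (TD L).obj E) := by
  obtain ⟨K, hK, ⟨e⟩⟩ := exists_kflat_rep E
  obtain ⟨v⟩ := ltensor_value L K hK
  exact ⟨(DCoh.LTensorMod L).mapIso e.symm ≪≫ v ≪≫ DerivedCategory.Q.mapIso
    ((NatIso.mapHomologicalComplex ((OX.tensorBraiding (X := X)).app L) (ComplexShape.up ℤ)).app K) ≪≫
    ((TT L).mapDerivedCategoryFactors.app K).symm ≪≫ (TD L).mapIso e⟩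

theorem TD_congr {L L' : X.Modules} (e : L ≅ L') [PreservesFiniteLimits (TT L)] [PreservesFiniteLimits (TT L')]
    (E : DCoh.D X) : Nonempty ((TD L).obj E ≅ (TD L').obj E) := by
  let K := DerivedCategory.Q.objPreimage E
  let a : DerivedCategory.Q.obj K ≅ E := DerivedCategory.Q.objObjPreimageIso E
  exact ⟨(TD L).mapIso a.symm ≪≫ (TT L).mapDerivedCategoryFactors.app K ≪≫ DerivedCategory.Q.mapIso
    ((NatIso.mapHomologicalComplex ((DCoh.tensorBi (X := X)).mapIso e) (ComplexShape.up ℤ)).app K) ≪≫
    ((TT L').mapDerivedCategoryFactors.app K).symm ≪≫ (TD L').mapIso a⟩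

theorem TD_structure [PreservesFiniteLimits (TT (Coh.structureModule X))] (E : DCoh.D X) :
    Nonempty ((TD (Coh.structureModule X)).obj E ≅ E) := by
  let K := DerivedCategory.Q.objPreimage E
  let a : DerivedCategory.Q.obj K ≅ E := DerivedCategory.Q.objObjPreimageIso E
  let u : ((TT (Coh.structureModule X)).mapHomologicalComplex (ComplexShape.up ℤ)).obj K ≅ K :=
    HomologicalComplex.Hom.isoOfComponents (fun n => OX.tensorUnitNatIso.app (K.X n))
      (fun i j _ => (OX.tensorUnitNatIso.hom.naturality (K.d i j)).symm)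
  exact ⟨(TD _).mapIso a.symm ≪≫ (TT _).mapDerivedCategoryFactors.app K ≪≫ DerivedCategory.Q.mapIso u ≪≫ a⟩

theorem nonempty_HD_TD (L : X.Modules) [PreservesFiniteLimits (TT L)] (E : DCoh.D X) (i : ℤ) :
    Nonempty (DCoh.HD ((TD L).obj E) i ≅ (TT L).obj (DCoh.HD E i)) :=
  ⟨(DerTrunc.homologyMapIso (TT L) i).app E⟩

theorem isGE_TD (L : X.Modules) [PreservesFiniteLimits (TT L)] (E : DCoh.D X) (b : ℤ) [E.IsGE b] :
    ((TD L).obj E).IsGE b :=
  (DerivedCategory.isGE_iff _ _).2 fun i hi =>
    ((TT L).map_isZero (DerivedCategory.isZero_of_isGE E b i hi)).of_iso (nonempty_HD_TD L E i).some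

theorem isLE_TD (L : X.Modules) [PreservesFiniteLimits (TT L)] (E : DCoh.D X) (b : ℤ) [E.IsLE b] :
    ((TD L).obj E).IsLE b :=
  (DerivedCategory.isLE_iff _ _).2 fun i hi =>
    ((TT L).map_isZero (DerivedCategory.isZero_of_isLE E b i hi)).of_iso (nonempty_HD_TD L E i).some

/-- Restriction commutes with tensoring. -/
theorem nonempty_resD_TD {U : Scheme.{u}} (j : U ⟶ X) [IsOpenImmersion j] (M : X.Modules)
    [PreservesFiniteLimits (TT M)] [PreservesFiniteLimits (TT ((Scheme.Modules.pullback j).obj M))] (E : DCoh.D X) :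
    Nonempty ((resD j).obj ((TD M).obj E) ≅ (TD ((Scheme.Modules.pullback j).obj M)).obj ((resD j).obj E)) := by
  let R := Scheme.Modules.restrictFunctor j
  let w : TT M ⋙ R ≅ R ⋙ TT ((Scheme.Modules.pullback j).obj M) :=
    Functor.isoWhiskerLeft _ (Scheme.Modules.restrictFunctorIsoPullback j) ≪≫
      (NatIso.ofComponents (fun N => pullTensorIso j M N) (fun b => pullTensorIso_natural₂ j M b) :
        TT M ⋙ Scheme.Modules.pullback j ≅ Scheme.Modules.pullback j ⋙ TT ((Scheme.Modules.pullback j).obj M)) ≪≫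
      Functor.isoWhiskerRight (Scheme.Modules.restrictFunctorIsoPullback j).symm _
  exact ⟨(DerCat.mapDerivedCompIso (TT M) R (R ⋙ TT ((Scheme.Modules.pullback j).obj M)) w ≪≫
    (DerCat.mapDerivedCompIso R (TT ((Scheme.Modules.pullback j).obj M)) _ (Iso.refl _)).symm).app E⟩

variable {Z : Scheme.{u}} (i : X ⟶ Z) [IsClosedImmersion i]

/-- The projection formula for invertible twists along a closed immersion. -/
theorem nonempty_RR_TD (M : Z.Modules) [PreservesFiniteLimits (TT M)]
    [PreservesFiniteLimits (TT ((Scheme.Modules.pullback i).obj M))] (E : DCoh.D X) :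
    Nonempty ((RR i).obj ((TD ((Scheme.Modules.pullback i).obj M)).obj E) ≅ (TD M).obj ((RR i).obj E)) := by
  let P := Scheme.Modules.pushforward i
  haveI : ∀ G : X.Modules, IsIso ((ProjFormula.projNat i M).app G) := fun G => isIso_projHom_closed i M G
  haveI : IsIso (ProjFormula.projNat i M) := NatIso.isIso_of_isIso_app _
  let w : P ⋙ TT M ≅ TT ((Scheme.Modules.pullback i).obj M) ⋙ P := asIso (ProjFormula.projNat i M)
  let a : P.mapDerivedCategory ⋙ TD M ≅ TD ((Scheme.Modules.pullback i).obj M) ⋙ P.mapDerivedCategory :=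
    DerCat.mapDerivedCompIso P (TT M) (TT ((Scheme.Modules.pullback i).obj M) ⋙ P) w ≪≫
      (DerCat.mapDerivedCompIso (TT ((Scheme.Modules.pullback i).obj M)) P _ (Iso.refl _)).symm
  exact ⟨rresPushDIso i _ ≪≫ (a.app E).symm ≪≫ (TD M).mapIso (rresPushDIso i E).symm⟩

/-- Tensoring with an invertible module is locally the identity. -/
theorem exists_resD_TD_iso {L : X.Modules} (hL : PicF.IsInvertible L) [PreservesFiniteLimits (TT L)] (E : DCoh.D X)
    (x : X) : ∃ U : X.Opens, x ∈ U ∧ Nonempty ((resD U.ι).obj ((TD L).obj E) ≅ (resD U.ι).obj E) := by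
  obtain ⟨U, hx, ⟨t⟩⟩ := hL x
  haveI : PreservesFiniteLimits (TT ((Scheme.Modules.pullback U.ι).obj L)) :=
    preservesFiniteLimits_TT (Ample.isInvertible_pullback U.ι hL)
  haveI : (TT (Coh.structureModule (U : Scheme.{u}))).IsEquivalence :=
    Functor.isEquivalence_of_iso (OX.tensorUnitNatIso (X := (U : Scheme.{u}))).symm
  haveI : PreservesFiniteLimits (TT (Coh.structureModule (U : Scheme.{u}))) := inferInstance
  obtain ⟨a⟩ := nonempty_resD_TD U.ι L E
  obtain ⟨b⟩ := TD_congr (X := (U : Scheme.{u}))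
    (((Scheme.Modules.restrictFunctorIsoPullback U.ι).app L).symm ≪≫ t) ((resD U.ι).obj E)
  obtain ⟨c⟩ := TD_structure ((resD U.ι).obj E)
  exact ⟨U, hx, ⟨a ≪≫ b ≪≫ c⟩⟩

/-- Tensoring with an invertible module preserves pseudo-coherence. -/
theorem isPseudoCoherentD_TD {L : X.Modules} (hL : PicF.IsInvertible L) [PreservesFiniteLimits (TT L)] {m : ℤ}
    {E : DCoh.D X} (hE : DCoh.IsPseudoCoherentD m E) : DCoh.IsPseudoCoherentD m ((TD L).obj E) := by
  refine OX.isPseudoCoherentD_of_local fun x => ?_
  obtain ⟨U, hx, ⟨a⟩⟩ := exists_resD_TD_iso hL E x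
  exact ⟨_, U.ι, inferInstance, ⟨⟨x, hx⟩, rfl⟩,
    isPseudoCoherentD_of_iso (OX.isPseudoCoherentD_resD hE U.ι) a.symm⟩

/-- Tensoring with an invertible module preserves quasi-coherent cohomology. -/
theorem isQCohD_TD {L : X.Modules} (hL : PicF.IsInvertible L) [PreservesFiniteLimits (TT L)]
    {E : DCoh.D X} (hE : DCoh.IsQCohD E) : DCoh.IsQCohD ((TD L).obj E) := by
  refine OX.isQCohD_of_local fun x => ?_
  obtain ⟨U, hx, ⟨a⟩⟩ := exists_resD_TD_iso hL E x
  exact ⟨U, hx, fun i => isQCoh_of_iso ((DerivedCategory.homologyFunctor _ i).mapIso a.symm) (isQCohD_resD U.ι hE i)⟩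

end GrothLib.KSix19.ProjPush
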